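import Cfsg.Agent.H46.HN.Index
import Cfsg.Agent.H46.HN.Data352

/-!
`⟨x, y⟩` has order at most `504000` in the model: it fixes a point in an action of degree 352.
-/

set_option autoImplicit false
set_option maxRecDepth 100000

namespace Cfsg.Agent.H46.HN

open Cfsg Cfsg.Agent.H67.HN Cfsg.Agent.H45

theorem perm352 : permCheck 5 352 [1, 0, 3, 2, 4] cols352 P1408.rels = true := by decide +kernel

theorem orbit352 : orbLow 352 cols352 [[0], [2], [4]] 0 352 steps352 = true := by decide +kernel

theorem fixed352 : Nat.beq (walkC ([0].map fun l => cols352.getD l 0) 0) 0 = true ∧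
    Nat.beq (walkC ([2].map fun l => cols352.getD l 0) 0) 0 = true := by decide +kernel

/-- the action on 352 points -/
def pi352 : F →* Equiv.Perm (Fin 352) := lift (rels_of_perm perm352)

theorem card_K0 : Nat.card K0 ≤ 504000 := by
  have : Finite F := finite_and_bound.1
  let P := permCheck_PT perm352
  have hgx : pi352 gx = evalW (sig P) [0] := by simp [pi352, evalW, P]
  have hgy : pi352 gy = evalW (sig P) [2] := by simp [pi352, evalW, P]
  have hgz : pi352 gz = evalW (sig P) [4] := by simp [pi352, evalW, P]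
  obtain ⟨hb, horb⟩ := orbLow_sound P (by decide) orbit352
  let b : Fin 352 := ⟨0, hb⟩
  have hfix : ∀ w : List ℕ, (∀ l ∈ w, l < 5) →
      Nat.beq (walkC (w.map fun l => cols352.getD l 0) 0) 0 = true → evalW (sig P) w b = b := by
    intro w hw h
    rw [Nat.beq_eq, walkC_map] at h
    have h2 : (evalW (sig P) w)⁻¹ b = b := Fin.ext (by rw [sig_walk P w hw b]; exact h)
    nth_rewrite 1 [← h2]
    simp
  have hK : K0 ≤ (MulAction.stabilizer (Equiv.Perm (Fin 352)) b).comap pi352 := by
    rw [K0, Subgroup.closure_le]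
    simp only [Set.insert_subset_iff, Set.singleton_subset_iff, SetLike.mem_coe, Subgroup.mem_comap,
      MulAction.mem_stabilizer_iff, Equiv.Perm.smul_def, hgx, hgy]
    exact ⟨hfix _ (by simp) fixed352.1, hfix _ (by simp) fixed352.2⟩
  let Y := pi352.range
  have h1 : 352 ≤ Nat.card (MulAction.orbit Y b) := horb Y (by
    intro g hg
    simp only [List.mem_cons, List.not_mem_nil, or_false] at hg
    rcases hg with rfl | rfl | rfl
    exacts [hgx ▸ ⟨gx, rfl⟩, hgy ▸ ⟨gy, rfl⟩, hgz ▸ ⟨gz, rfl⟩])
  let ι : F →* Y := pi352.rangeRestrict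
  have h2 : Nat.card (MulAction.orbit Y b) ≤ Nat.card (F ⧸ K0) := by
    refine Nat.card_le_card_of_surjective
      (Quotient.lift (fun f : F => (⟨(ι f : Equiv.Perm (Fin 352)) b, ι f, rfl⟩ : MulAction.orbit Y b)) ?_) ?_
    · intro a c hac
      have h := hK (QuotientGroup.leftRel_apply.mp hac)
      rw [Subgroup.mem_comap, MulAction.mem_stabilizer_iff, Equiv.Perm.smul_def, map_mul, map_inv,
        Equiv.Perm.mul_apply, Equiv.Perm.inv_eq_iff_eq] at h
      exact Subtype.ext h.symm
    · rintro ⟨q, ⟨⟨g, f, rfl⟩, rfl⟩⟩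
      exact ⟨QuotientGroup.mk f, rfl⟩
  have h3 : Nat.card F = Nat.card (F ⧸ K0) * Nat.card K0 :=
    Subgroup.card_eq_card_quotient_mul_card_subgroup K0
  rw [card_F] at h3
  have h4 : 352 * Nat.card K0 ≤ Nat.card (F ⧸ K0) * Nat.card K0 :=
    Nat.mul_le_mul_right _ (h1.trans h2)
  omega

end Cfsg.Agent.H46.HN
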