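import Cfsg.Agent.H46.HN.Facts

/-!
The fourteen double cosets of `⟨x, y, z⟩` and `⟨x, y, t⟩` cover the presented Harada–Norton group.

Left cosets of `⟨x, W⟩` in `⟨x, y, t⟩` are listed by representatives `P i`; for each node `j` every
`P i` is shown to be a product of stabiliser generators, the start of an edge and an element of
`⟨x, W⟩`, so that `z` maps each coset into the union.
-/

set_option autoImplicit false

namespace Cfsg.Agent.H46.HN

open Cfsg Cfsg.Agent.H67.HN Cfsg.Agent.H45

/-- the letters other than `z` -/
def lettersN : List ℕ := [0, 1, 2, 3, 5, 6]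

/-- the transversal is closed: entry `(i', d)` of row `i` at letter `g` says `g P i = P i' d` -/
noncomputable def rowOK (P : List (List ℕ)) : List ℕ → List ℕ → List (ℕ × List ℕ) → Bool
  | [], _, _ => true
  | _ :: _, _, [] => false
  | g :: gs, p, (i', d) :: r =>
    Nat.blt i' P.length && same (P.getD i' [] ++ expD d) (g :: p) && rowOK P gs p r

/-- all rows -/
noncomputable def transOK (P : List (List ℕ)) : List (List ℕ) → List (List (ℕ × List ℕ)) → Bool
  | [], _ => true
  | _ :: _, [] => false
  | p :: ps, r :: rs => rowOK P lettersN p r && transOK P ps rs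

theorem rowOK_sound {P : List (List ℕ)} : ∀ (gs p : List ℕ) (r : List (ℕ × List ℕ)),
    rowOK P gs p r = true → ∀ g ∈ gs, ∃ i' < P.length, ∃ d,
      ev (g :: p) = ev (P.getD i' [] ++ expD d) := by
  intro gs
  induction gs with
  | nil => intro p r _ g hg; simp at hg
  | cons g gs ih =>
    intro p r h a ha
    match r with
    | [] => simp [rowOK] at h
    | (i', d) :: r =>
      simp only [rowOK, Bool.and_eq_true, Nat.blt_eq] at h
      rcases List.mem_cons.mp ha with rfl | ha
      · exact ⟨i', h.1.1, d, (same_sound h.1.2).symm⟩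
      · exact ih p r h.2 a ha

theorem transOK_sound {P : List (List ℕ)} : ∀ (ps : List (List ℕ)) (rs : List (List (ℕ × List ℕ))),
    transOK P ps rs = true → ∀ p ∈ ps, ∀ g ∈ lettersN, ∃ i' < P.length, ∃ d,
      ev (g :: p) = ev (P.getD i' [] ++ expD d) := by
  intro ps
  induction ps with
  | nil => intro rs _ p hp; simp at hp
  | cons p ps ih =>
    intro rs h a ha
    match rs with
    | [] => simp [transOK] at h
    | r :: rs =>
      simp only [transOK, Bool.and_eq_true] at h
      rcases List.mem_cons.mp ha with rfl | ha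
      · exact rowOK_sound _ _ _ h.1
      · exact ih rs h.2 a ha

/-- every word without `z` is a representative times an element of `⟨x, W⟩` -/
theorem decompose {P : List (List ℕ)} {rs : List (List (ℕ × List ℕ))}
    (h0 : P.getD 0 [] = []) (hlen : 0 < P.length) (h : transOK P P rs = true) :
    ∀ w : List ℕ, okN w = true → ∃ i < P.length, ∃ d, ev w = ev (P.getD i [] ++ expD d) := by
  intro w
  induction w with
  | nil => intro _; exact ⟨0, hlen, [], by rw [h0]; rfl⟩
  | cons l w ih =>
    intro hw
    obtain ⟨hl, hw⟩ := okN_cons.mp hw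
    obtain ⟨i, hi, d, e⟩ := ih hw
    have hmem : l ∈ lettersN := by
      rcases hl with hl | rfl | rfl
      · interval_cases l <;> simp [lettersN]
      · simp [lettersN]
      · simp [lettersN]
    obtain ⟨i', hi', d', e'⟩ := transOK_sound P rs h (P.getD i []) (by
      rw [List.getD_eq_getElem _ _ hi]; exact List.getElem_mem hi) l hmem
    refine ⟨i', hi', d' ++ d, ?_⟩
    rw [ev_cons, e, ev_append, ← mul_assoc, ← ev_cons, e', expD_append]
    simp only [ev_append]
    group

/-- reaching a representative of node `j` -/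
inductive Cv where
  /-- through an edge -/
  | root (i k : ℕ) (back : Bool) (lw d : List ℕ)
  /-- from a covered representative -/
  | step (i par : ℕ) (lw d : List ℕ)

/-- the covering check, `K` being the set of covered representatives -/
noncomputable def coverGo (C : Known) (P : List (List ℕ)) (j : ℕ) : List Cv → ℕ → Bool
  | [], K => Nat.beq K (2 ^ P.length - 1)
  | .root i k back lw d :: cs, K =>
    (match C.E[k]? with
      | none => false
      | some e =>
        Nat.beq (e.dir back).ja j && Nat.blt (e.dir back).jb C.R.length && okN (e.dir back).nb &&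
          same (expL C.G j lw ++ (e.dir back).na ++ expD d) (P.getD i [])) &&
      force (K ||| (1 <<< i)) fun K' => coverGo C P j cs K'
  | .step i par lw d :: cs, K =>
    bget K par && same (expL C.G j lw ++ P.getD par [] ++ expD d) (P.getD i []) &&
      force (K ||| (1 <<< i)) fun K' => coverGo C P j cs K'

/-- `g` lies in the union of the double cosets -/
def InU (R : List (List ℕ)) (g : Spor.HN) : Prop :=
  ∃ j < R.length, ∃ w, okN w = true ∧ Eqv g (rr R j * ev w)

theorem InU.of_eqv {R : List (List ℕ)} {a b : Spor.HN} (h : Eqv a b) (hb : InU R b) : InU R a := by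
  obtain ⟨j, hj, w, hw, he⟩ := hb
  exact ⟨j, hj, w, hw, h.trans he⟩

/-- representative `i` of node `j` is carried into the union by `⟨x, W⟩ z` -/
def Covered (R P : List (List ℕ)) (j i : ℕ) : Prop :=
  ∀ d, okN (expZ d) = true → InU R (rr R j * ev (P.getD i [] ++ expD d) * hn .z)

theorem okN_expZ : ∀ d : List ℕ, okN (expZ d) = true := by
  intro d
  induction d with
  | nil => rfl
  | cons a d ih =>
    rw [expZ, List.flatMap_cons, okN_append]
    refine ⟨?_, ih⟩
    rcases Nat.lt_or_ge a 4 with ha | ha
    · interval_cases a <;> rfl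
    · rw [show zL a = [] from List.getD_eq_default _ _ ha]; rfl

theorem okN_expD : ∀ d : List ℕ, okN (expD d) = true := by
  intro d
  induction d with
  | nil => rfl
  | cons a d ih =>
    rw [expD, List.flatMap_cons, okN_append]
    refine ⟨?_, ih⟩
    rcases Nat.lt_or_ge a 4 with ha | ha
    · interval_cases a <;> rfl
    · rw [show dL a = [] from List.getD_eq_default _ _ ha]; rfl

theorem coverGo_sound {C : Known} (hC : C.Valid) {P : List (List ℕ)} {j : ℕ} :
    ∀ (cs : List Cv) (K : ℕ), (∀ i, bget K i = true → Covered C.R P j i) →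
      coverGo C P j cs K = true → ∀ i, i < P.length → Covered C.R P j i := by
  intro cs
  induction cs with
  | nil =>
    intro K hK h i hi
    simp only [coverGo, Nat.beq_eq] at h
    refine hK i ?_
    rw [h, bget, Nat.beq_eq, Nat.shiftRight_eq_div_pow, Nat.and_one_is_mod]
    have := Nat.testBit_two_pow_sub_one P.length i
    rw [Nat.testBit_eq_decide_div_mod_eq] at this
    simpa [hi] using this
  | cons c cs ih =>
    intro K hK h
    cases c with
    | root i k back lw d =>
      simp only [coverGo, Bool.and_eq_true, force_eq] at h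
      obtain ⟨h1, h2⟩ := h
      refine ih _ ?_ h2
      intro m hm
      rw [bget_set, Bool.or_eq_true, decide_eq_true_eq] at hm
      rcases hm with hm | rfl
      · exact hK m hm
      cases hk : C.E[k]? with
      | none => rw [hk] at h1; exact absurd h1 (by simp)
      | some e =>
        rw [hk] at h1
        simp only [Bool.and_eq_true, Nat.beq_eq, Nat.blt_eq] at h1
        obtain ⟨⟨⟨hj, hjb⟩, hnb⟩, hs⟩ := h1
        have hv := Ed.dir_valid (hC.1 e (List.mem_of_getElem? hk)) back
        unfold Ed.Valid at hv
        rw [hj] at hv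
        intro d' _
        refine ⟨(e.dir back).jb, hjb, (e.dir back).nb ++ expZ (d ++ d'),
          okN_append.mpr ⟨hnb, okN_expZ _⟩, ?_⟩
        rw [ev_append, ← same_sound hs, ev_append, ev_append, ev_append]
        have h3 : rr C.R j * (ev (expL C.G j lw) * ev (e.dir back).na * ev (expD d) * ev (expD d')) *
            hn .z = rr C.R j * ev (expL C.G j lw) *
              (ev ((e.dir back).na ++ expD (d ++ d')) * hn .z) := by
          rw [expD_append, ev_append, ev_append]; group
        rw [h3, ev_z]
        refine ((expL_sound hC.2 j lw).mul_right _).trans ?_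
        have := hv.mul_right (ev (expZ (d ++ d')))
        simpa only [mul_assoc] using this
    | step i par lw d =>
      simp only [coverGo, Bool.and_eq_true, force_eq] at h
      obtain ⟨⟨hp, hs⟩, h2⟩ := h
      refine ih _ ?_ h2
      intro m hm
      rw [bget_set, Bool.or_eq_true, decide_eq_true_eq] at hm
      rcases hm with hm | rfl
      · exact hK m hm
      intro d' _
      rw [ev_append, ← same_sound hs, ev_append, ev_append]
      have h3 : rr C.R j * (ev (expL C.G j lw) * ev (P.getD par []) * ev (expD d) * ev (expD d')) *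
          hn .z = rr C.R j * ev (expL C.G j lw) *
            (ev (P.getD par [] ++ expD (d ++ d')) * hn .z) := by
        rw [expD_append, ev_append, ev_append]; group
      rw [h3]
      refine InU.of_eqv ((expL_sound hC.2 j lw).mul_right _) ?_
      rw [← mul_assoc]
      exact hK par hp _ (okN_expZ _)

/-- the covering data -/
structure CoverData (C : Known) where
  P : List (List ℕ)
  rows : List (List (ℕ × List ℕ))
  cvs : List (List Cv)
  p0 : P.getD 0 [] = []
  plen : 0 < P.length
  r0 : C.R.getD 0 [] = []
  rlen : 0 < C.R.length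
  trans : transOK P P rows = true
  cover : ∀ j < C.R.length, coverGo C P j (cvs.getD j []) 0 = true

theorem InU.all {C : Known} (hC : C.Valid) (D : CoverData C) : ∀ g : Spor.HN, InU C.R g := by
  have hz : ∀ g, InU C.R g → InU C.R (g * hn .z) := by
    rintro g ⟨j, hj, w, hw, he⟩
    obtain ⟨i, hi, d, e⟩ := decompose D.p0 D.plen D.trans w hw
    refine InU.of_eqv (he.mul_right _) ?_
    rw [e]
    exact coverGo_sound hC _ 0 (fun m hm => absurd hm (by simp [bget])) (D.cover j hj) i hi d
      (okN_expZ d)
  have hl : ∀ l, (l < 4 ∨ l = 5 ∨ l = 6) → ∀ g, InU C.R g → InU C.R (g * e7 l) := by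
    rintro l hl g ⟨j, hj, w, hw, he⟩
    refine ⟨j, hj, w ++ [l], okN_append.mpr ⟨hw, okN_cons.mpr ⟨hl, rfl⟩⟩, ?_⟩
    rw [ev_append, ev_cons, ev_nil, mul_one, ← mul_assoc]
    exact he.mul_right _
  let Pr : Spor.HN → Prop := fun a =>
    (∀ g, InU C.R g → InU C.R (g * a)) ∧ ∀ g, InU C.R g → InU C.R (g * a⁻¹)
  have hall : ∀ a : Spor.HN, Pr a := by
    intro a
    have hmem : a ∈ Subgroup.closure (Set.range fun i => hn i) := by
      have : Subgroup.closure (Set.range fun i => hn i) = ⊤ := PresentedGroup.closure_range_of _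
      rw [this]; exact Subgroup.mem_top a
    induction hmem using Subgroup.closure_induction with
    | mem a ha =>
      obtain ⟨i, rfl⟩ := ha
      cases i
      · exact ⟨hl 0 (by omega), hl 1 (by omega)⟩
      · exact ⟨hl 2 (by omega), hl 3 (by omega)⟩
      · exact ⟨hz, fun g hg => by rw [zinv]; exact hz g hg⟩
      · exact ⟨hl 5 (by omega), hl 6 (by omega)⟩
    | one => exact ⟨fun g hg => by rwa [mul_one], fun g hg => by rwa [inv_one, mul_one]⟩
    | mul a b _ _ iha ihb =>
      exact ⟨fun g hg => by rw [← mul_assoc]; exact ihb.1 _ (iha.1 _ hg),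
        fun g hg => by rw [mul_inv_rev, ← mul_assoc]; exact iha.2 _ (ihb.2 _ hg)⟩
    | inv a _ iha => exact ⟨iha.2, fun g hg => by rw [inv_inv]; exact iha.1 g hg⟩
  intro g
  have h1 : InU C.R 1 := ⟨0, D.rlen, [], rfl, by
    show Eqv 1 (ev (C.R.getD 0 []) * ev [])
    rw [D.r0, ev_nil, mul_one]; exact Eqv.refl 1⟩
  simpa using (hall g).1 1 h1

theorem finite_of_union {R : List (List ℕ)} (h : ∀ g : Spor.HN, InU R g) : Finite Spor.HN := by
  have : Finite F := finite_and_bound.1
  refine Finite.of_surjective
    (fun p : F × Fin R.length × Fin 5 × F => nu p.1 * rr R p.2.1 * hn .t ^ (p.2.2.1 : ℕ) * nu p.2.2.2)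
    fun g => ?_
  obtain ⟨j, hj, w, hw, ⟨f, hf⟩⟩ := h g
  obtain ⟨e, hlt⟩ := nf_sound w hw
  refine ⟨(f, ⟨j, hj⟩, ⟨(nf w).1 % 5, Nat.mod_lt _ (by norm_num)⟩, evW fF (nf w).2), ?_⟩
  show nu f * rr R j * hn .t ^ ((nf w).1 % 5) * nu (evW fF (nf w).2) = g
  rw [hf, pow_mod5, nu_word _ (fun l hl => by have := hlt l hl; omega), e]
  group

end Cfsg.Agent.H46.HN
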