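import Cfsg.Agent.H46.HN.Cover

/-!
The covering of the left cosets of `⟨x, W⟩` (generated data).
-/

set_option autoImplicit false
set_option maxRecDepth 100000

namespace Cfsg.Agent.H46.HN

/-- the transversal -/
def ptr : List (List ℕ) := [
  [],
  [2],
  [3],
  [5],
  [6],
  [0, 2],
  [0, 3],
  [0, 5],
  [0, 6],
  [2, 2],
  [2, 5],
  [2, 6],
  [3, 3],
  [3, 5],
  [3, 6],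
  [0, 2, 2],
  [0, 2, 5],
  [0, 2, 6],
  [0, 3, 3],
  [0, 3, 5],
  [0, 3, 6],
  [2, 0, 2],
  [2, 0, 5],
  [2, 0, 6],
  [2, 2, 2],
  [2, 2, 5],
  [2, 2, 6],
  [3, 0, 5],
  [3, 0, 6],
  [3, 3, 5],
  [3, 3, 6],
  [5, 0, 2],
  [5, 0, 3],
  [6, 0, 2],
  [6, 0, 3],
  [0, 2, 2, 2],
  [0, 2, 2, 5],
  [0, 2, 2, 6],
  [0, 3, 3, 5],
  [0, 3, 3, 6],
  [2, 0, 2, 2],
  [2, 0, 2, 5],
  [2, 0, 2, 6],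
  [2, 0, 3, 3],
  [2, 2, 0, 5],
  [2, 2, 0, 6],
  [2, 2, 2, 5],
  [2, 2, 2, 6],
  [2, 5, 0, 2],
  [2, 6, 0, 2],
  [3, 0, 3, 3],
  [3, 3, 0, 5],
  [3, 3, 0, 6],
  [5, 0, 2, 2],
  [5, 0, 3, 3],
  [6, 0, 2, 2],
  [6, 0, 3, 3],
  [0, 2, 0, 2, 2],
  [0, 2, 2, 2, 5],
  [0, 2, 2, 2, 6],
  [0, 3, 0, 3, 3],
  [2, 0, 2, 2, 2],
  [2, 0, 2, 2, 5],
  [2, 0, 2, 2, 6],
  [2, 0, 3, 3, 5],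
  [2, 0, 3, 3, 6],
  [2, 2, 0, 2, 2],
  [2, 2, 2, 0, 5],
  [2, 2, 2, 0, 6],
  [2, 5, 0, 2, 2],
  [2, 5, 0, 3, 3],
  [2, 6, 0, 2, 2],
  [2, 6, 0, 3, 3],
  [3, 0, 2, 2, 2],
  [3, 0, 3, 3, 5],
  [3, 0, 3, 3, 6],
  [3, 5, 0, 3, 3],
  [3, 6, 0, 3, 3],
  [5, 0, 2, 2, 2],
  [6, 0, 2, 2, 2],
  [0, 2, 0, 2, 2, 2],
  [0, 2, 0, 2, 2, 5],
  [0, 2, 0, 2, 2, 6],
  [0, 2, 2, 0, 2, 2],
  [0, 2, 5, 0, 2, 2],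
  [0, 2, 6, 0, 2, 2],
  [0, 3, 0, 2, 2, 2],
  [0, 3, 0, 3, 3, 5],
  [0, 3, 0, 3, 3, 6],
  [0, 3, 5, 0, 3, 3],
  [0, 3, 6, 0, 3, 3],
  [2, 0, 2, 0, 2, 2],
  [2, 0, 2, 2, 2, 5],
  [2, 0, 2, 2, 2, 6],
  [2, 0, 3, 0, 3, 3],
  [2, 2, 0, 2, 2, 5],
  [2, 2, 0, 2, 2, 6],
  [2, 2, 5, 0, 2, 2],
  [2, 2, 6, 0, 2, 2],
  [2, 5, 0, 2, 2, 2],
  [2, 6, 0, 2, 2, 2],
  [3, 0, 2, 0, 2, 2],
  [3, 0, 2, 2, 2, 5],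
  [3, 0, 2, 2, 2, 6],
  [3, 0, 3, 0, 3, 3],
  [3, 5, 0, 2, 2, 2],
  [3, 6, 0, 2, 2, 2],
  [0, 2, 0, 2, 0, 2, 2],
  [0, 2, 0, 2, 2, 2, 5],
  [0, 2, 0, 2, 2, 2, 6],
  [0, 2, 0, 3, 0, 3, 3],
  [0, 2, 2, 0, 2, 2, 5],
  [0, 2, 2, 0, 2, 2, 6],
  [0, 2, 2, 5, 0, 2, 2],
  [0, 2, 2, 6, 0, 2, 2],
  [0, 2, 5, 0, 2, 2, 2],
  [0, 2, 6, 0, 2, 2, 2],
  [0, 3, 0, 2, 0, 2, 2],
  [0, 3, 0, 2, 2, 2, 5],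
  [0, 3, 0, 2, 2, 2, 6],
  [0, 3, 0, 3, 0, 3, 3],
  [0, 3, 5, 0, 2, 2, 2],
  [0, 3, 6, 0, 2, 2, 2],
  [2, 0, 2, 0, 2, 2, 2],
  [2, 0, 2, 0, 2, 2, 5],
  [2, 0, 2, 0, 2, 2, 6],
  [2, 0, 2, 5, 0, 2, 2],
  [2, 0, 2, 6, 0, 2, 2],
  [2, 0, 3, 0, 2, 2, 2],
  [2, 0, 3, 0, 3, 3, 5],
  [2, 0, 3, 0, 3, 3, 6],
  [2, 0, 3, 5, 0, 3, 3],
  [2, 0, 3, 6, 0, 3, 3],
  [3, 0, 2, 0, 2, 2, 2],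
  [3, 0, 2, 0, 2, 2, 5],
  [3, 0, 2, 0, 2, 2, 6],
  [3, 0, 2, 5, 0, 2, 2],
  [3, 0, 2, 6, 0, 2, 2],
  [3, 0, 3, 0, 2, 2, 2],
  [3, 0, 3, 0, 3, 3, 5],
  [3, 0, 3, 0, 3, 3, 6],
  [3, 0, 3, 5, 0, 3, 3],
  [3, 0, 3, 6, 0, 3, 3],
  [0, 2, 0, 2, 0, 2, 2, 5],
  [0, 2, 0, 2, 0, 2, 2, 6],
  [0, 2, 0, 2, 5, 0, 2, 2],
  [0, 2, 0, 2, 6, 0, 2, 2],
  [0, 2, 0, 3, 0, 2, 2, 2],
  [0, 2, 0, 3, 0, 3, 3, 5],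
  [0, 2, 0, 3, 0, 3, 3, 6],
  [0, 2, 0, 3, 5, 0, 3, 3],
  [0, 2, 0, 3, 6, 0, 3, 3],
  [0, 3, 0, 2, 0, 2, 2, 2],
  [0, 3, 0, 2, 0, 2, 2, 5],
  [0, 3, 0, 2, 0, 2, 2, 6],
  [0, 3, 0, 2, 5, 0, 2, 2],
  [0, 3, 0, 2, 6, 0, 2, 2],
  [0, 3, 0, 3, 0, 3, 3, 5],
  [0, 3, 0, 3, 0, 3, 3, 6],
  [0, 3, 0, 3, 5, 0, 3, 3],
  [0, 3, 0, 3, 6, 0, 3, 3],
  [2, 0, 2, 0, 2, 2, 2, 5],
  [2, 0, 2, 0, 2, 2, 2, 6],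
  [2, 0, 2, 0, 3, 0, 3, 3],
  [2, 0, 2, 5, 0, 2, 2, 2],
  [2, 0, 2, 6, 0, 2, 2, 2],
  [2, 0, 3, 0, 2, 2, 2, 5],
  [2, 0, 3, 0, 2, 2, 2, 6],
  [2, 0, 3, 5, 0, 2, 2, 2],
  [2, 0, 3, 6, 0, 2, 2, 2],
  [2, 2, 0, 2, 0, 2, 2, 2],
  [3, 0, 2, 0, 2, 2, 2, 5],
  [3, 0, 2, 0, 2, 2, 2, 6],
  [3, 0, 2, 5, 0, 2, 2, 2],
  [3, 0, 2, 6, 0, 2, 2, 2],
  [3, 0, 3, 0, 2, 2, 2, 5],
  [3, 0, 3, 0, 2, 2, 2, 6],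
  [3, 0, 3, 5, 0, 2, 2, 2],
  [3, 0, 3, 6, 0, 2, 2, 2],
  [0, 2, 0, 2, 0, 3, 0, 3, 3],
  [0, 2, 0, 3, 0, 2, 2, 2, 5],
  [0, 2, 0, 3, 0, 2, 2, 2, 6],
  [0, 2, 0, 3, 5, 0, 2, 2, 2],
  [0, 2, 0, 3, 6, 0, 2, 2, 2],
  [0, 2, 2, 0, 2, 0, 2, 2, 2],
  [0, 3, 0, 2, 0, 2, 2, 2, 5],
  [0, 3, 0, 2, 0, 2, 2, 2, 6],
  [0, 3, 0, 2, 5, 0, 2, 2, 2],
  [0, 3, 0, 2, 6, 0, 2, 2, 2],
  [2, 0, 2, 0, 3, 0, 3, 3, 5],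
  [2, 0, 2, 0, 3, 0, 3, 3, 6],
  [2, 0, 2, 0, 3, 5, 0, 3, 3],
  [2, 0, 2, 0, 3, 6, 0, 3, 3],
  [2, 2, 0, 2, 0, 2, 2, 2, 5],
  [2, 2, 0, 2, 0, 2, 2, 2, 6],
  [2, 2, 0, 2, 5, 0, 2, 2, 2],
  [2, 2, 0, 2, 6, 0, 2, 2, 2],
  [0, 2, 0, 2, 0, 3, 0, 3, 3, 5],
  [0, 2, 0, 2, 0, 3, 0, 3, 3, 6],
  [0, 2, 0, 2, 0, 3, 5, 0, 3, 3],
  [0, 2, 0, 2, 0, 3, 6, 0, 3, 3],
  [0, 2, 2, 0, 2, 0, 2, 2, 2, 5],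
  [0, 2, 2, 0, 2, 0, 2, 2, 2, 6],
  [0, 2, 2, 0, 2, 5, 0, 2, 2, 2],
  [0, 2, 2, 0, 2, 6, 0, 2, 2, 2],
  [2, 0, 2, 2, 0, 2, 0, 2, 2, 2],
  [3, 0, 2, 0, 2, 0, 3, 0, 3, 3],
  [0, 2, 0, 2, 2, 0, 2, 0, 2, 2, 2],
  [0, 3, 0, 2, 0, 2, 0, 3, 0, 3, 3],
  [2, 0, 2, 2, 0, 2, 0, 2, 2, 2, 5],
  [2, 0, 2, 2, 0, 2, 0, 2, 2, 2, 6],
  [2, 0, 2, 2, 0, 2, 5, 0, 2, 2, 2],
  [2, 0, 2, 2, 0, 2, 6, 0, 2, 2, 2],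
  [2, 2, 0, 2, 2, 0, 2, 0, 2, 2, 2],
  [3, 0, 2, 0, 2, 0, 3, 0, 3, 3, 5],
  [3, 0, 2, 0, 2, 0, 3, 0, 3, 3, 6],
  [3, 0, 2, 0, 2, 0, 3, 5, 0, 3, 3],
  [3, 0, 2, 0, 2, 0, 3, 6, 0, 3, 3],
  [3, 3, 0, 2, 0, 2, 0, 3, 0, 3, 3],
  [0, 2, 0, 2, 2, 0, 2, 0, 2, 2, 2, 5],
  [0, 2, 0, 2, 2, 0, 2, 0, 2, 2, 2, 6],
  [0, 2, 0, 2, 2, 0, 2, 5, 0, 2, 2, 2],
  [0, 2, 0, 2, 2, 0, 2, 6, 0, 2, 2, 2],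
  [0, 3, 0, 2, 0, 2, 0, 3, 0, 3, 3, 5],
  [0, 3, 0, 2, 0, 2, 0, 3, 0, 3, 3, 6],
  [0, 3, 0, 2, 0, 2, 0, 3, 5, 0, 3, 3],
  [0, 3, 0, 2, 0, 2, 0, 3, 6, 0, 3, 3],
  [2, 0, 2, 0, 2, 2, 0, 2, 0, 2, 2, 2],
  [2, 2, 0, 2, 2, 0, 2, 0, 2, 2, 2, 5],
  [2, 2, 0, 2, 2, 0, 2, 0, 2, 2, 2, 6],
  [2, 2, 0, 2, 2, 0, 2, 5, 0, 2, 2, 2],
  [2, 2, 0, 2, 2, 0, 2, 6, 0, 2, 2, 2],
  [3, 3, 0, 2, 0, 2, 0, 3, 0, 3, 3, 5],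
  [3, 3, 0, 2, 0, 2, 0, 3, 0, 3, 3, 6],
  [3, 3, 0, 2, 0, 2, 0, 3, 5, 0, 3, 3],
  [3, 3, 0, 2, 0, 2, 0, 3, 6, 0, 3, 3],
  [0, 2, 0, 2, 0, 2, 2, 0, 2, 0, 2, 2, 2],
  [2, 0, 2, 0, 2, 2, 0, 2, 0, 2, 2, 2, 5],
  [2, 0, 2, 0, 2, 2, 0, 2, 0, 2, 2, 2, 6],
  [2, 0, 2, 0, 2, 2, 0, 2, 5, 0, 2, 2, 2],
  [2, 0, 2, 0, 2, 2, 0, 2, 6, 0, 2, 2, 2],
  [0, 2, 0, 2, 0, 2, 2, 0, 2, 0, 2, 2, 2, 5],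
  [0, 2, 0, 2, 0, 2, 2, 0, 2, 0, 2, 2, 2, 6],
  [0, 2, 0, 2, 0, 2, 2, 0, 2, 5, 0, 2, 2, 2],
  [0, 2, 0, 2, 0, 2, 2, 0, 2, 6, 0, 2, 2, 2],
  [2, 0, 2, 0, 2, 0, 2, 2, 0, 2, 0, 2, 2, 2],
  [2, 0, 2, 0, 2, 0, 2, 2, 0, 2, 0, 2, 2, 2, 5],
  [2, 0, 2, 0, 2, 0, 2, 2, 0, 2, 0, 2, 2, 2, 6],
  [2, 0, 2, 0, 2, 0, 2, 2, 0, 2, 5, 0, 2, 2, 2],
  [2, 0, 2, 0, 2, 0, 2, 2, 0, 2, 6, 0, 2, 2, 2]]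

/-- rows of the transversal -/
def prow0 : List (List (ℕ × List ℕ)) := [
  [(0, [0]), (0, [1]), (1, []), (2, []), (3, []), (4, [])],
  [(5, []), (5, [0, 0]), (9, []), (0, []), (10, []), (11, [])],
  [(6, []), (6, [0, 0]), (0, []), (12, []), (13, []), (14, [])],
  [(7, []), (8, [0, 0]), (10, []), (13, []), (7, [1]), (0, [])],
  [(8, []), (7, [0, 0]), (11, []), (14, []), (0, []), (8, [1])],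
  [(1, [0, 0]), (1, []), (21, []), (6, [2, 0, 2, 2, 2, 0, 2, 2, 0, 2, 2, 2, 1, 2]), (31, []), (33, [])],
  [(2, [0, 0]), (2, []), (5, [3, 0, 3, 3, 3, 0, 3, 3, 0, 3, 3, 3, 1, 3]), (21, [0, 2, 2, 0, 3, 3, 3, 0, 2, 2, 2, 1, 2, 2, 2, 2]), (32, []), (34, [])],
  [(4, [0, 0]), (3, []), (22, []), (27, []), (8, []), (3, [0])],
  [(3, [0, 0]), (4, []), (23, []), (28, []), (4, [0]), (7, [])],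
  [(15, []), (15, [0, 0]), (24, []), (1, []), (25, []), (26, [])],
  [(16, []), (17, [0, 0]), (25, []), (3, []), (22, [1]), (1, [])],
  [(17, []), (16, [0, 0]), (26, []), (4, []), (1, []), (23, [1])],
  [(18, []), (18, [0, 0]), (2, []), (24, []), (29, []), (30, [])],
  [(19, []), (20, [0, 0]), (3, []), (29, []), (27, [1]), (2, [])],
  [(20, []), (19, [0, 0]), (4, []), (30, []), (2, []), (28, [1])],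
  [(9, [0, 0]), (9, []), (40, []), (43, [2, 0, 3, 3, 3, 3, 0, 3, 3, 3, 3, 3, 0, 3]), (53, []), (55, [])],
  [(11, [0, 0]), (10, []), (41, []), (19, [2, 0, 2, 2, 2, 0, 2, 2, 0, 2, 2, 2, 1, 2]), (17, []), (31, [])],
  [(10, [0, 0]), (11, []), (42, []), (20, [2, 0, 2, 2, 2, 0, 2, 2, 0, 2, 2, 2, 1, 2]), (33, []), (16, [])],
  [(12, [0, 0]), (12, []), (43, []), (50, []), (54, []), (56, [])],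
  [(14, [0, 0]), (13, []), (16, [3, 0, 3, 3, 3, 0, 3, 3, 0, 3, 3, 3, 1, 3]), (41, [0, 2, 2, 0, 3, 3, 3, 0, 2, 2, 2, 1, 2, 2, 2, 2]), (20, []), (32, [])],
  [(13, [0, 0]), (14, []), (17, [3, 0, 3, 3, 3, 0, 3, 3, 0, 3, 3, 3, 1, 3]), (42, [0, 2, 2, 0, 3, 3, 3, 0, 2, 2, 2, 1, 2, 2, 2, 2]), (34, []), (19, [])],
  [(21, [0, 2, 2, 0, 3, 3, 3, 3, 0, 2, 2, 2, 2]), (21, [0, 2, 2, 0, 3, 3, 3, 3, 1, 2, 2, 2, 2]), (6, [0, 2, 0, 2, 0, 2, 0, 3, 3, 3, 3, 3, 0, 3, 1, 3]), (5, []), (48, []), (49, [])],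
  [(33, [0]), (31, [1]), (44, []), (7, []), (23, []), (10, [0])],
  [(31, [0]), (33, [1]), (45, []), (8, []), (11, [0]), (22, [])],
  [(35, []), (35, [0, 0]), (12, []), (9, []), (46, []), (47, [])],
  [(36, []), (37, [0, 0]), (46, []), (10, []), (44, [1]), (9, [])],
  [(37, []), (36, [0, 0]), (47, []), (11, []), (9, []), (45, [1])],
  [(34, [0]), (32, [1]), (7, []), (51, []), (28, []), (13, [0])],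
  [(32, [0]), (34, [1]), (8, []), (52, []), (14, [0]), (27, [])],
  [(38, []), (39, [0, 0]), (13, []), (46, []), (51, [1]), (12, [])],
  [(39, []), (38, [0, 0]), (14, []), (47, []), (12, []), (52, [1])],
  [(22, [0]), (23, [1]), (48, []), (32, [2, 0, 2, 2, 2, 0, 2, 2, 0, 2, 2, 2, 1, 2]), (16, []), (5, [])],
  [(27, [0]), (28, [1]), (31, [3, 0, 3, 3, 3, 0, 3, 3, 0, 3, 3, 3, 1, 3]), (48, [0, 2, 2, 0, 3, 3, 3, 0, 2, 2, 2, 1, 2, 2, 2, 2]), (19, []), (6, [])],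
  [(23, [0]), (22, [1]), (49, []), (34, [2, 0, 2, 2, 2, 0, 2, 2, 0, 2, 2, 2, 1, 2]), (5, []), (17, [])],
  [(28, [0]), (27, [1]), (33, [3, 0, 3, 3, 3, 0, 3, 3, 0, 3, 3, 3, 1, 3]), (49, [0, 2, 2, 0, 3, 3, 3, 0, 2, 2, 2, 1, 2, 2, 2, 2]), (6, []), (20, [])],
  [(24, [0, 0]), (24, []), (61, []), (73, []), (78, []), (79, [])],
  [(26, [0, 0]), (25, []), (62, []), (64, [2, 0, 3, 3, 3, 3, 0, 3, 3, 3, 3, 3, 0, 3]), (37, []), (53, [])],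
  [(25, [0, 0]), (26, []), (63, []), (65, [2, 0, 3, 3, 3, 3, 0, 3, 3, 3, 3, 3, 0, 3]), (55, []), (36, [])],
  [(30, [0, 0]), (29, []), (64, []), (74, []), (39, []), (54, [])],
  [(29, [0, 0]), (30, []), (65, []), (75, []), (56, []), (38, [])],
  [(57, []), (57, [0, 0]), (66, []), (15, []), (69, []), (71, [])],
  [(49, [0, 2, 2, 0, 3, 3, 3, 3, 0, 2, 2, 2, 2]), (48, [0, 2, 2, 0, 3, 3, 3, 3, 1, 2, 2, 2, 2]), (19, [0, 2, 0, 2, 0, 2, 0, 3, 3, 3, 3, 3, 0, 3, 1, 3]), (16, []), (42, []), (48, [])],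
  [(48, [0, 2, 2, 0, 3, 3, 3, 3, 0, 2, 2, 2, 2]), (49, [0, 2, 2, 0, 3, 3, 3, 3, 1, 2, 2, 2, 2]), (20, [0, 2, 0, 2, 0, 2, 0, 3, 3, 3, 3, 3, 0, 3, 1, 3]), (17, []), (49, []), (41, [])],
  [(43, [0, 2, 2, 0, 2, 2, 2, 2, 0, 2, 2, 0, 3]), (43, [0, 2, 2, 0, 2, 2, 2, 2, 0, 2, 2, 1, 3]), (15, [2, 0, 2, 0, 3, 3, 3, 3, 1, 3, 3, 3, 3, 3]), (18, []), (70, []), (72, [])],
  [(55, [0]), (53, [1]), (67, []), (22, []), (45, []), (25, [0])],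
  [(53, [0]), (55, [1]), (68, []), (23, []), (26, [0]), (44, [])],
  [(58, []), (59, [0, 0]), (29, []), (25, []), (67, [1]), (24, [])],
  [(59, []), (58, [0, 0]), (30, []), (26, []), (24, []), (68, [1])],
  [(41, [0, 2, 2, 0, 3, 3, 3, 3, 0, 2, 2, 2, 2]), (42, [0, 2, 2, 0, 3, 3, 3, 3, 1, 2, 2, 2, 2]), (32, [0, 2, 0, 2, 0, 2, 0, 3, 3, 3, 3, 3, 0, 3, 1, 3]), (31, []), (41, []), (21, [])],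
  [(42, [0, 2, 2, 0, 3, 3, 3, 3, 0, 2, 2, 2, 2]), (41, [0, 2, 2, 0, 3, 3, 3, 3, 1, 2, 2, 2, 2]), (34, [0, 2, 0, 2, 0, 2, 0, 3, 3, 3, 3, 3, 0, 3, 1, 3]), (33, []), (21, []), (42, [])]]

/-- rows of the transversal -/
def prow1 : List (List (ℕ × List ℕ)) := [
  [(60, []), (60, [0, 0]), (18, []), (66, [2, 0, 2, 0, 3, 3, 3, 3, 1, 3, 3, 3, 3, 3]), (76, []), (77, [])],
  [(56, [0]), (54, [1]), (27, []), (67, []), (52, []), (29, [0])],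
  [(54, [0]), (56, [1]), (28, []), (68, []), (30, [0]), (51, [])],
  [(44, [0]), (45, [1]), (69, []), (70, [2, 0, 3, 3, 3, 3, 0, 3, 3, 3, 3, 3, 0, 3]), (36, []), (15, [])],
  [(51, [0]), (52, [1]), (70, []), (76, []), (38, []), (18, [])],
  [(45, [0]), (44, [1]), (71, []), (72, [2, 0, 3, 3, 3, 3, 0, 3, 3, 3, 3, 3, 0, 3]), (15, []), (37, [])],
  [(52, [0]), (51, [1]), (72, []), (77, []), (18, []), (39, [])],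
  [(40, [0, 0]), (40, []), (91, []), (101, []), (82, []), (81, [])],
  [(47, [0, 0]), (46, []), (92, []), (102, []), (59, []), (78, [])],
  [(46, [0, 0]), (47, []), (93, []), (103, []), (79, []), (58, [])],
  [(50, [0, 0]), (50, []), (94, []), (104, []), (88, []), (87, [])],
  [(80, []), (80, [0, 0]), (73, [2, 0, 2, 2, 2, 2, 0, 2, 2, 0, 2, 2, 1, 2]), (35, []), (99, []), (100, [])],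
  [(81, []), (82, [0, 0]), (95, []), (36, []), (63, []), (69, [])],
  [(82, []), (81, [0, 0]), (96, []), (37, []), (71, []), (62, [])],
  [(72, [0, 2, 2, 0, 2, 2, 2, 2, 0, 2, 2, 0, 3]), (70, [0, 2, 2, 0, 2, 2, 2, 2, 0, 2, 2, 1, 3]), (36, [2, 0, 2, 0, 3, 3, 3, 3, 1, 3, 3, 3, 3, 3]), (38, []), (65, []), (70, [])],
  [(70, [0, 2, 2, 0, 2, 2, 2, 2, 0, 2, 2, 0, 3]), (72, [0, 2, 2, 0, 2, 2, 2, 2, 0, 2, 2, 1, 3]), (37, [2, 0, 2, 0, 3, 3, 3, 3, 1, 3, 3, 3, 3, 3]), (39, []), (72, []), (64, [])],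
  [(83, []), (83, [0, 0]), (50, [2, 0, 3, 3, 3, 3, 0, 3, 3, 3, 3, 3, 0, 3]), (40, []), (97, []), (98, [])],
  [(79, [0]), (78, [1]), (51, []), (44, []), (68, []), (46, [0])],
  [(78, [0]), (79, [1]), (52, []), (45, []), (47, [0]), (67, [])],
  [(84, []), (85, [0, 0]), (97, []), (53, []), (62, []), (40, [])],
  [(64, [0, 2, 2, 0, 2, 2, 2, 2, 0, 2, 2, 0, 3]), (65, [0, 2, 2, 0, 2, 2, 2, 2, 0, 2, 2, 1, 3]), (53, [2, 0, 2, 0, 3, 3, 3, 3, 1, 3, 3, 3, 3, 3]), (54, []), (64, []), (43, [])],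
  [(85, []), (84, [0, 0]), (98, []), (55, []), (40, []), (63, [])],
  [(65, [0, 2, 2, 0, 2, 2, 2, 2, 0, 2, 2, 0, 3]), (64, [0, 2, 2, 0, 2, 2, 2, 2, 0, 2, 2, 1, 3]), (55, [2, 0, 2, 0, 3, 3, 3, 3, 1, 3, 3, 3, 3, 3]), (56, []), (43, []), (65, [])],
  [(86, []), (86, [0, 0]), (35, []), (61, [2, 0, 2, 2, 2, 2, 0, 2, 2, 0, 2, 2, 1, 2]), (105, []), (106, [])],
  [(87, []), (88, [0, 0]), (38, []), (95, [2, 0, 2, 0, 3, 3, 3, 3, 1, 3, 3, 3, 3, 3]), (75, []), (76, [])],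
  [(88, []), (87, [0, 0]), (39, []), (96, [2, 0, 2, 0, 3, 3, 3, 3, 1, 3, 3, 3, 3, 3]), (77, []), (74, [])],
  [(89, []), (90, [0, 0]), (54, []), (97, [2, 0, 2, 0, 3, 3, 3, 3, 1, 3, 3, 3, 3, 3]), (74, []), (50, [])],
  [(90, []), (89, [0, 0]), (56, []), (98, [2, 0, 2, 0, 3, 3, 3, 3, 1, 3, 3, 3, 3, 3]), (50, []), (75, [])],
  [(67, [0]), (68, [1]), (99, []), (105, []), (58, []), (35, [])],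
  [(68, [0]), (67, [1]), (100, []), (106, []), (35, []), (59, [])],
  [(61, [0, 0]), (61, []), (123, []), (133, []), (109, []), (108, [])],
  [(63, [0, 0]), (62, []), (124, []), (134, []), (57, []), (85, [])],
  [(62, [0, 0]), (63, []), (125, []), (135, []), (84, []), (57, [])],
  [(66, [0, 0]), (66, []), (83, [0, 3, 3, 3, 3, 0, 2, 2]), (83, [3, 3, 0, 2, 2, 2, 2, 0]), (112, []), (111, [])],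
  [(71, [0, 0]), (69, []), (126, []), (136, []), (85, []), (82, [])],
  [(69, [0, 0]), (71, []), (127, []), (137, []), (81, []), (84, [])],
  [(73, [0, 0]), (73, []), (128, []), (138, []), (119, []), (118, [])],
  [(75, [0, 0]), (74, []), (129, []), (139, []), (60, []), (90, [])],
  [(74, [0, 0]), (75, []), (130, []), (140, []), (89, []), (60, [])],
  [(77, [0, 0]), (76, []), (131, []), (141, []), (90, []), (88, [])],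
  [(76, [0, 0]), (77, []), (132, []), (142, []), (87, []), (89, [])],
  [(107, []), (107, [0, 0]), (104, [2, 0, 2, 2, 2, 0, 2, 2, 2, 2, 2, 0, 2, 2]), (57, []), (125, []), (124, [])],
  [(108, []), (109, [0, 0]), (102, [2, 0, 2, 2, 2, 2, 0, 2, 2, 0, 2, 2, 1, 2]), (58, []), (93, []), (99, [])],
  [(109, []), (108, [0, 0]), (103, [2, 0, 2, 2, 2, 2, 0, 2, 2, 0, 2, 2, 1, 2]), (59, []), (100, []), (92, [])],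
  [(110, []), (110, [0, 0]), (101, [3, 3, 0, 3, 3, 3, 3, 3, 0, 3, 3, 3, 1, 3]), (60, []), (130, []), (129, [])],
  [(111, []), (112, [0, 0]), (74, [2, 0, 3, 3, 3, 3, 0, 3, 3, 3, 3, 3, 0, 3]), (62, []), (96, []), (97, [])],
  [(112, []), (111, [0, 0]), (75, [2, 0, 3, 3, 3, 3, 0, 3, 3, 3, 3, 3, 0, 3]), (63, []), (98, []), (95, [])],
  [(113, []), (114, [0, 0]), (76, [2, 0, 3, 3, 3, 3, 0, 3, 3, 3, 3, 3, 0, 3]), (69, []), (95, []), (66, [])],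
  [(114, []), (113, [0, 0]), (77, [2, 0, 3, 3, 3, 3, 0, 3, 3, 3, 3, 3, 0, 3]), (71, []), (66, []), (96, [])],
  [(115, []), (116, [0, 0]), (105, [2, 0, 2, 2, 2, 2, 0, 2, 2, 0, 2, 2, 1, 2]), (78, []), (92, []), (61, [])]]

/-- rows of the transversal -/
def prow2 : List (List (ℕ × List ℕ)) := [
  [(116, []), (115, [0, 0]), (106, [2, 0, 2, 2, 2, 2, 0, 2, 2, 0, 2, 2, 1, 2]), (79, []), (61, []), (93, [])],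
  [(117, []), (117, [0, 0]), (57, []), (94, [2, 0, 2, 2, 2, 0, 2, 2, 2, 2, 2, 0, 2, 2]), (135, []), (134, [])],
  [(118, []), (119, [0, 0]), (58, []), (92, [2, 0, 2, 2, 2, 2, 0, 2, 2, 0, 2, 2, 1, 2]), (103, []), (105, [])],
  [(119, []), (118, [0, 0]), (59, []), (93, [2, 0, 2, 2, 2, 2, 0, 2, 2, 0, 2, 2, 1, 2]), (106, []), (102, [])],
  [(120, []), (120, [0, 0]), (60, []), (91, [3, 3, 0, 3, 3, 3, 3, 3, 0, 3, 3, 3, 1, 3]), (140, []), (139, [])],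
  [(121, []), (122, [0, 0]), (78, []), (99, [2, 0, 2, 2, 2, 2, 0, 2, 2, 0, 2, 2, 1, 2]), (102, []), (73, [])],
  [(122, []), (121, [0, 0]), (79, []), (100, [2, 0, 2, 2, 2, 2, 0, 2, 2, 0, 2, 2, 1, 2]), (73, []), (103, [])],
  [(91, [0, 0]), (91, []), (120, [2, 0, 2, 2, 2, 0, 2, 2, 0, 2, 2, 2, 1, 2]), (120, [0, 2, 2, 2, 2, 2, 0, 2, 2, 2, 1, 2]), (146, []), (145, [])],
  [(93, [0, 0]), (92, []), (161, []), (171, []), (80, []), (116, [])],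
  [(92, [0, 0]), (93, []), (162, []), (172, []), (115, []), (80, [])],
  [(94, [0, 0]), (94, []), (163, []), (152, []), (151, []), (150, [])],
  [(96, [0, 0]), (95, []), (111, [0, 3, 3, 3, 3, 0, 2, 2]), (111, [3, 3, 0, 2, 2, 2, 2, 0]), (83, []), (114, [])],
  [(95, [0, 0]), (96, []), (112, [0, 3, 3, 3, 3, 0, 2, 2]), (112, [3, 3, 0, 2, 2, 2, 2, 0]), (113, []), (83, [])],
  [(98, [0, 0]), (97, []), (113, [0, 3, 3, 3, 3, 0, 2, 2]), (113, [3, 3, 0, 2, 2, 2, 2, 0]), (114, []), (112, [])],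
  [(97, [0, 0]), (98, []), (114, [0, 3, 3, 3, 3, 0, 2, 2]), (114, [3, 3, 0, 2, 2, 2, 2, 0]), (111, []), (113, [])],
  [(100, [0, 0]), (99, []), (164, []), (173, []), (116, []), (109, [])],
  [(99, [0, 0]), (100, []), (165, []), (174, []), (108, []), (115, [])],
  [(101, [0, 0]), (101, []), (147, []), (170, [2, 0, 2, 0, 2, 2, 2, 2, 2, 0, 2, 2, 0, 2, 1]), (156, []), (155, [])],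
  [(103, [0, 0]), (102, []), (166, []), (175, []), (86, []), (122, [])],
  [(102, [0, 0]), (103, []), (167, []), (176, []), (121, []), (86, [])],
  [(104, [0, 0]), (104, []), (107, [2, 2, 2, 0, 2, 0, 3, 3, 3, 3, 0, 3]), (107, [3, 0, 3, 3, 3, 0, 3, 3, 0, 3, 3, 3, 1, 3]), (160, []), (159, [])],
  [(106, [0, 0]), (105, []), (168, []), (177, []), (122, []), (119, [])],
  [(105, [0, 0]), (106, []), (169, []), (178, []), (118, []), (121, [])],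
  [(138, [0, 3, 3, 3, 3, 0, 3, 3, 0, 3, 3, 0, 3, 1, 3]), (138, [0, 3, 3, 3, 3, 0, 3, 3, 0, 3, 3, 0, 3, 0, 3]), (170, []), (80, []), (162, []), (161, [])],
  [(143, []), (144, [0, 0]), (139, [2, 0, 2, 2, 2, 0, 2, 2, 2, 2, 2, 0, 2, 2]), (81, []), (91, []), (127, [])],
  [(144, []), (143, [0, 0]), (140, [2, 0, 2, 2, 2, 0, 2, 2, 2, 2, 2, 0, 2, 2]), (82, []), (126, []), (91, [])],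
  [(145, []), (146, [0, 0]), (141, [2, 0, 2, 2, 2, 0, 2, 2, 2, 2, 2, 0, 2, 2]), (84, []), (127, []), (125, [])],
  [(146, []), (145, [0, 0]), (142, [2, 0, 2, 2, 2, 0, 2, 2, 2, 2, 2, 0, 2, 2]), (85, []), (124, []), (126, [])],
  [(147, []), (147, [0, 0]), (152, [0, 2, 0, 2, 2, 2, 2, 2, 2, 1, 2, 2, 2]), (86, []), (167, []), (166, [])],
  [(148, []), (149, [0, 0]), (134, [3, 3, 0, 3, 3, 3, 3, 3, 0, 3, 3, 3, 1, 3]), (87, []), (94, []), (132, [])],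
  [(149, []), (148, [0, 0]), (135, [3, 3, 0, 3, 3, 3, 3, 3, 0, 3, 3, 3, 1, 3]), (88, []), (131, []), (94, [])],
  [(150, []), (151, [0, 0]), (136, [3, 3, 0, 3, 3, 3, 3, 3, 0, 3, 3, 3, 1, 3]), (89, []), (132, []), (130, [])],
  [(151, []), (150, [0, 0]), (137, [3, 3, 0, 3, 3, 3, 3, 3, 0, 3, 3, 3, 1, 3]), (90, []), (129, []), (131, [])],
  [(152, []), (152, [0, 0]), (80, []), (147, [0, 3, 0, 3, 3, 0, 3, 3, 3, 3, 3, 0, 3, 0, 3]), (172, []), (171, [])],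
  [(153, []), (154, [0, 0]), (81, []), (129, [2, 0, 2, 2, 2, 0, 2, 2, 2, 2, 2, 0, 2, 2]), (101, []), (137, [])],
  [(154, []), (153, [0, 0]), (82, []), (130, [2, 0, 2, 2, 2, 0, 2, 2, 2, 2, 2, 0, 2, 2]), (136, []), (101, [])],
  [(155, []), (156, [0, 0]), (84, []), (131, [2, 0, 2, 2, 2, 0, 2, 2, 2, 2, 2, 0, 2, 2]), (137, []), (135, [])],
  [(156, []), (155, [0, 0]), (85, []), (132, [2, 0, 2, 2, 2, 0, 2, 2, 2, 2, 2, 0, 2, 2]), (134, []), (136, [])],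
  [(123, [0, 2, 0, 2, 0, 2, 2, 0, 2, 2, 1, 2, 2, 2, 2]), (123, [0, 2, 0, 2, 0, 2, 2, 0, 2, 2, 0, 2, 2, 2, 2]), (86, []), (163, [0, 2, 0, 2, 2, 2, 2, 2, 2, 1, 2, 2, 2]), (176, []), (175, [])],
  [(157, []), (158, [0, 0]), (87, []), (124, [3, 3, 0, 3, 3, 3, 3, 3, 0, 3, 3, 3, 1, 3]), (104, []), (142, [])],
  [(158, []), (157, [0, 0]), (88, []), (125, [3, 3, 0, 3, 3, 3, 3, 3, 0, 3, 3, 3, 1, 3]), (141, []), (104, [])],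
  [(159, []), (160, [0, 0]), (89, []), (126, [3, 3, 0, 3, 3, 3, 3, 3, 0, 3, 3, 3, 1, 3]), (142, []), (140, [])],
  [(160, []), (159, [0, 0]), (90, []), (127, [3, 3, 0, 3, 3, 3, 3, 3, 0, 3, 3, 3, 1, 3]), (139, []), (141, [])],
  [(125, [0, 0]), (124, []), (157, [2, 0, 2, 2, 2, 0, 2, 2, 0, 2, 2, 2, 1, 2]), (157, [0, 2, 2, 2, 2, 2, 0, 2, 2, 2, 1, 2]), (145, []), (144, [])],
  [(124, [0, 0]), (125, []), (158, [2, 0, 2, 2, 2, 0, 2, 2, 0, 2, 2, 2, 1, 2]), (158, [0, 2, 2, 2, 2, 2, 0, 2, 2, 2, 1, 2]), (143, []), (146, [])],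
  [(127, [0, 0]), (126, []), (159, [2, 0, 2, 2, 2, 0, 2, 2, 0, 2, 2, 2, 1, 2]), (159, [0, 2, 2, 2, 2, 2, 0, 2, 2, 2, 1, 2]), (107, []), (143, [])],
  [(126, [0, 0]), (127, []), (160, [2, 0, 2, 2, 2, 0, 2, 2, 0, 2, 2, 2, 1, 2]), (160, [0, 2, 2, 2, 2, 2, 0, 2, 2, 2, 1, 2]), (144, []), (107, [])],
  [(128, [0, 0]), (128, []), (133, [2, 0, 2, 0, 2, 2, 2, 2, 2, 0, 2, 2, 0, 2, 1]), (117, []), (183, []), (182, [])],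
  [(130, [0, 0]), (129, []), (189, []), (185, []), (150, []), (149, [])],
  [(129, [0, 0]), (130, []), (190, []), (186, []), (148, []), (151, [])]]

/-- rows of the transversal -/
def prow3 : List (List (ℕ × List ℕ)) := [
  [(132, [0, 0]), (131, []), (191, []), (187, []), (110, []), (148, [])],
  [(131, [0, 0]), (132, []), (192, []), (188, []), (149, []), (110, [])],
  [(133, [0, 0]), (133, []), (110, []), (128, [3, 3, 3, 0, 2, 2, 2, 2, 2, 0, 2, 0, 3]), (188, []), (187, [])],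
  [(135, [0, 0]), (134, []), (180, []), (196, [2, 0, 2, 0, 2, 2, 2, 2, 2, 0, 2, 2, 0, 2, 1]), (155, []), (154, [])],
  [(134, [0, 0]), (135, []), (181, []), (195, [2, 0, 2, 0, 2, 2, 2, 2, 2, 0, 2, 2, 0, 2, 1]), (153, []), (156, [])],
  [(137, [0, 0]), (136, []), (182, []), (193, [2, 0, 2, 0, 2, 2, 2, 2, 2, 0, 2, 2, 0, 2, 1]), (117, []), (153, [])],
  [(136, [0, 0]), (137, []), (183, []), (194, [2, 0, 2, 0, 2, 2, 2, 2, 2, 0, 2, 2, 0, 2, 1]), (154, []), (117, [])],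
  [(140, [0, 0]), (139, []), (143, [2, 2, 2, 0, 2, 0, 3, 3, 3, 3, 0, 3]), (143, [3, 0, 3, 3, 3, 0, 3, 3, 0, 3, 3, 3, 1, 3]), (159, []), (158, [])],
  [(139, [0, 0]), (140, []), (144, [2, 2, 2, 0, 2, 0, 3, 3, 3, 3, 0, 3]), (144, [3, 0, 3, 3, 3, 0, 3, 3, 0, 3, 3, 3, 1, 3]), (157, []), (160, [])],
  [(142, [0, 0]), (141, []), (145, [2, 2, 2, 0, 2, 0, 3, 3, 3, 3, 0, 3]), (145, [3, 0, 3, 3, 3, 0, 3, 3, 0, 3, 3, 3, 1, 3]), (120, []), (157, [])],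
  [(141, [0, 0]), (142, []), (146, [2, 2, 2, 0, 2, 0, 3, 3, 3, 3, 0, 3]), (146, [3, 0, 3, 3, 3, 0, 3, 3, 0, 3, 3, 3, 1, 3]), (158, []), (120, [])],
  [(178, [0, 3, 3, 3, 3, 0, 3, 3, 0, 3, 3, 0, 3, 1, 3]), (177, [0, 3, 3, 3, 3, 0, 3, 3, 0, 3, 3, 0, 3, 0, 3]), (193, []), (108, []), (123, []), (165, [])],
  [(177, [0, 3, 3, 3, 3, 0, 3, 3, 0, 3, 3, 0, 3, 1, 3]), (178, [0, 3, 3, 3, 3, 0, 3, 3, 0, 3, 3, 0, 3, 0, 3]), (194, []), (109, []), (164, []), (123, [])],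
  [(179, []), (179, [0, 0]), (138, [3, 3, 3, 0, 2, 2, 2, 2, 2, 0, 2, 0, 3]), (110, []), (192, []), (191, [])],
  [(175, [0, 3, 3, 3, 3, 0, 3, 3, 0, 3, 3, 0, 3, 1, 3]), (176, [0, 3, 3, 3, 3, 0, 3, 3, 0, 3, 3, 0, 3, 0, 3]), (195, []), (115, []), (165, []), (162, [])],
  [(176, [0, 3, 3, 3, 3, 0, 3, 3, 0, 3, 3, 0, 3, 1, 3]), (175, [0, 3, 3, 3, 3, 0, 3, 3, 0, 3, 3, 0, 3, 0, 3]), (196, []), (116, []), (161, []), (164, [])],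
  [(180, []), (181, [0, 0]), (187, [0, 2, 0, 2, 2, 2, 2, 2, 2, 1, 2, 2, 2]), (118, []), (128, []), (169, [])],
  [(181, []), (180, [0, 0]), (188, [0, 2, 0, 2, 2, 2, 2, 2, 2, 1, 2, 2, 2]), (119, []), (168, []), (128, [])],
  [(182, []), (183, [0, 0]), (186, [0, 2, 0, 2, 2, 2, 2, 2, 2, 1, 2, 2, 2]), (121, []), (169, []), (167, [])],
  [(183, []), (182, [0, 0]), (185, [0, 2, 0, 2, 2, 2, 2, 2, 2, 1, 2, 2, 2]), (122, []), (166, []), (168, [])],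
  [(184, []), (184, [0, 0]), (117, [0, 3, 0, 3, 3, 0, 3, 3, 3, 3, 3, 0, 3, 0, 3]), (123, []), (194, []), (193, [])],
  [(185, []), (186, [0, 0]), (108, []), (182, [0, 3, 0, 3, 3, 0, 3, 3, 3, 3, 3, 0, 3, 0, 3]), (133, []), (174, [])],
  [(186, []), (185, [0, 0]), (109, []), (183, [0, 3, 0, 3, 3, 0, 3, 3, 3, 3, 3, 0, 3, 0, 3]), (173, []), (133, [])],
  [(187, []), (188, [0, 0]), (115, []), (181, [0, 3, 0, 3, 3, 0, 3, 3, 3, 3, 3, 0, 3, 0, 3]), (174, []), (172, [])],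
  [(188, []), (187, [0, 0]), (116, []), (180, [0, 3, 0, 3, 3, 0, 3, 3, 3, 3, 3, 0, 3, 0, 3]), (171, []), (173, [])],
  [(165, [0, 2, 0, 2, 0, 2, 2, 0, 2, 2, 1, 2, 2, 2, 2]), (164, [0, 2, 0, 2, 0, 2, 2, 0, 2, 2, 0, 2, 2, 2, 2]), (118, []), (191, [0, 2, 0, 2, 2, 2, 2, 2, 2, 1, 2, 2, 2]), (138, []), (178, [])],
  [(164, [0, 2, 0, 2, 0, 2, 2, 0, 2, 2, 1, 2, 2, 2, 2]), (165, [0, 2, 0, 2, 0, 2, 2, 0, 2, 2, 0, 2, 2, 2, 2]), (119, []), (192, [0, 2, 0, 2, 2, 2, 2, 2, 2, 1, 2, 2, 2]), (177, []), (138, [])],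
  [(161, [0, 2, 0, 2, 0, 2, 2, 0, 2, 2, 1, 2, 2, 2, 2]), (162, [0, 2, 0, 2, 0, 2, 2, 0, 2, 2, 0, 2, 2, 2, 2]), (121, []), (190, [0, 2, 0, 2, 2, 2, 2, 2, 2, 1, 2, 2, 2]), (178, []), (176, [])],
  [(162, [0, 2, 0, 2, 0, 2, 2, 0, 2, 2, 1, 2, 2, 2, 2]), (161, [0, 2, 0, 2, 0, 2, 2, 0, 2, 2, 0, 2, 2, 2, 2]), (122, []), (189, [0, 2, 0, 2, 2, 2, 2, 2, 2, 1, 2, 2, 2]), (175, []), (177, [])],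
  [(163, [0, 0]), (163, []), (184, [0, 2, 2, 0, 3, 3, 3, 3, 0, 3, 3, 3, 0]), (206, []), (197, []), (198, [])],
  [(167, [0, 0]), (166, []), (174, [2, 0, 2, 0, 2, 2, 2, 2, 2, 0, 2, 2, 0, 2, 1]), (153, []), (182, []), (181, [])],
  [(166, [0, 0]), (167, []), (173, [2, 0, 2, 0, 2, 2, 2, 2, 2, 0, 2, 2, 0, 2, 1]), (154, []), (180, []), (183, [])],
  [(169, [0, 0]), (168, []), (171, [2, 0, 2, 0, 2, 2, 2, 2, 2, 0, 2, 2, 0, 2, 1]), (155, []), (147, []), (180, [])],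
  [(168, [0, 0]), (169, []), (172, [2, 0, 2, 0, 2, 2, 2, 2, 2, 0, 2, 2, 0, 2, 1]), (156, []), (181, []), (147, [])],
  [(170, [0, 0]), (170, []), (205, []), (179, [0, 2, 2, 2, 0, 2, 2, 0, 2, 2, 0, 3, 3]), (204, []), (203, [])],
  [(172, [0, 0]), (171, []), (148, []), (169, [3, 3, 3, 0, 2, 2, 2, 2, 2, 0, 2, 0, 3]), (187, []), (186, [])],
  [(171, [0, 0]), (172, []), (149, []), (168, [3, 3, 3, 0, 2, 2, 2, 2, 2, 0, 2, 0, 3]), (185, []), (188, [])],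
  [(174, [0, 0]), (173, []), (150, []), (166, [3, 3, 3, 0, 2, 2, 2, 2, 2, 0, 2, 0, 3]), (152, []), (185, [])],
  [(173, [0, 0]), (174, []), (151, []), (167, [3, 3, 3, 0, 2, 2, 2, 2, 2, 0, 2, 0, 3]), (186, []), (152, [])],
  [(197, []), (198, [0, 0]), (178, [3, 3, 3, 0, 2, 2, 2, 2, 2, 0, 2, 0, 3]), (148, []), (191, []), (190, [])],
  [(198, []), (197, [0, 0]), (177, [3, 3, 3, 0, 2, 2, 2, 2, 2, 0, 2, 0, 3]), (149, []), (189, []), (192, [])],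
  [(199, []), (200, [0, 0]), (175, [3, 3, 3, 0, 2, 2, 2, 2, 2, 0, 2, 0, 3]), (150, []), (163, []), (189, [])],
  [(200, []), (199, [0, 0]), (176, [3, 3, 3, 0, 2, 2, 2, 2, 2, 0, 2, 0, 3]), (151, []), (190, []), (163, [])],
  [(201, []), (202, [0, 0]), (155, [0, 3, 0, 3, 3, 0, 3, 3, 3, 3, 3, 0, 3, 0, 3]), (161, []), (170, []), (196, [])],
  [(202, []), (201, [0, 0]), (156, [0, 3, 0, 3, 3, 0, 3, 3, 3, 3, 3, 0, 3, 0, 3]), (162, []), (195, []), (170, [])],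
  [(203, []), (204, [0, 0]), (154, [0, 3, 0, 3, 3, 0, 3, 3, 3, 3, 3, 0, 3, 0, 3]), (164, []), (196, []), (194, [])],
  [(204, []), (203, [0, 0]), (153, [0, 3, 0, 3, 3, 0, 3, 3, 3, 3, 3, 0, 3, 0, 3]), (165, []), (193, []), (195, [])],
  [(190, [0, 0]), (189, []), (204, [0, 2, 2, 0, 3, 3, 3, 3, 0, 3, 3, 3, 0]), (214, []), (200, []), (179, [])],
  [(189, [0, 0]), (190, []), (203, [0, 2, 2, 0, 3, 3, 3, 3, 0, 3, 3, 3, 0]), (215, []), (179, []), (199, [])],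
  [(192, [0, 0]), (191, []), (201, [0, 2, 2, 0, 3, 3, 3, 3, 0, 3, 3, 3, 0]), (216, []), (198, []), (200, [])]]

/-- rows of the transversal -/
def prow4 : List (List (ℕ × List ℕ)) := [
  [(191, [0, 0]), (192, []), (202, [0, 2, 2, 0, 3, 3, 3, 3, 0, 3, 3, 3, 0]), (217, []), (199, []), (197, [])],
  [(194, [0, 0]), (193, []), (209, []), (199, [0, 2, 2, 2, 0, 2, 2, 0, 2, 2, 0, 3, 3]), (203, []), (202, [])],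
  [(193, [0, 0]), (194, []), (210, []), (200, [0, 2, 2, 2, 0, 2, 2, 0, 2, 2, 0, 3, 3]), (201, []), (204, [])],
  [(196, [0, 0]), (195, []), (211, []), (198, [0, 2, 2, 2, 0, 2, 2, 0, 2, 2, 0, 3, 3]), (184, []), (201, [])],
  [(195, [0, 0]), (196, []), (212, []), (197, [0, 2, 2, 2, 0, 2, 2, 0, 2, 2, 0, 3, 3]), (202, []), (184, [])],
  [(207, []), (207, [0, 0]), (213, []), (184, []), (212, []), (211, [])],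
  [(208, []), (208, [0, 0]), (179, []), (218, []), (214, []), (215, [])],
  [(205, [0, 0]), (205, []), (227, []), (208, [0, 2, 2, 0, 3, 3, 3, 3, 0, 3, 3]), (219, []), (220, [])],
  [(206, [0, 0]), (206, []), (207, [2, 2, 0, 2, 2, 0, 2, 2, 1, 3, 3]), (227, [2, 0, 2, 2, 0, 2, 2, 2, 2, 2, 2]), (225, []), (226, [])],
  [(219, []), (220, [0, 0]), (228, []), (201, []), (211, []), (210, [])],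
  [(220, []), (219, [0, 0]), (229, []), (202, []), (209, []), (212, [])],
  [(221, []), (222, [0, 0]), (230, []), (203, []), (205, []), (209, [])],
  [(222, []), (221, [0, 0]), (231, []), (204, []), (210, []), (205, [])],
  [(213, [0, 3, 0, 2, 2, 0, 2, 2, 2, 2, 0, 2, 2]), (213, [0, 3, 0, 2, 2, 0, 2, 2, 2, 2, 1, 2, 2]), (218, [0, 2, 2, 2, 0, 2, 2, 0, 2, 2, 0, 3, 3]), (205, []), (231, []), (230, [])],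
  [(223, []), (224, [0, 0]), (197, []), (232, []), (217, []), (206, [])],
  [(224, []), (223, [0, 0]), (198, []), (233, []), (206, []), (216, [])],
  [(225, []), (226, [0, 0]), (199, []), (234, []), (215, []), (217, [])],
  [(226, []), (225, [0, 0]), (200, []), (235, []), (216, []), (214, [])],
  [(218, [0, 2, 2, 0, 2, 2, 2, 2, 0, 2, 2, 0, 3]), (218, [0, 2, 2, 0, 2, 2, 2, 2, 0, 2, 2, 1, 3]), (206, []), (213, [0, 2, 2, 0, 3, 3, 3, 3, 0, 3, 3, 3, 0]), (232, []), (233, [])],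
  [(210, [0, 0]), (209, []), (237, []), (225, [0, 2, 2, 0, 3, 3, 3, 3, 0, 3, 3]), (222, []), (207, [])],
  [(209, [0, 0]), (210, []), (238, []), (226, [0, 2, 2, 0, 3, 3, 3, 3, 0, 3, 3]), (207, []), (221, [])],
  [(212, [0, 0]), (211, []), (239, []), (224, [0, 2, 2, 0, 3, 3, 3, 3, 0, 3, 3]), (220, []), (222, [])],
  [(211, [0, 0]), (212, []), (240, []), (223, [0, 2, 2, 0, 3, 3, 3, 3, 0, 3, 3]), (221, []), (219, [])],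
  [(215, [0, 0]), (214, []), (222, [2, 2, 0, 2, 2, 0, 2, 2, 1, 3, 3]), (240, [2, 0, 2, 2, 0, 2, 2, 2, 2, 2, 2]), (224, []), (225, [])],
  [(214, [0, 0]), (215, []), (221, [2, 2, 0, 2, 2, 0, 2, 2, 1, 3, 3]), (239, [2, 0, 2, 2, 0, 2, 2, 2, 2, 2, 2]), (226, []), (223, [])],
  [(217, [0, 0]), (216, []), (219, [2, 2, 0, 2, 2, 0, 2, 2, 1, 3, 3]), (237, [2, 0, 2, 2, 0, 2, 2, 2, 2, 2, 2]), (223, []), (208, [])],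
  [(216, [0, 0]), (217, []), (220, [2, 2, 0, 2, 2, 0, 2, 2, 1, 3, 3]), (238, [2, 0, 2, 2, 0, 2, 2, 2, 2, 2, 2]), (208, []), (224, [])],
  [(236, []), (236, [0, 0]), (208, [2, 2, 2, 2, 0, 2, 2, 0, 3, 3, 3]), (207, []), (237, []), (238, [])],
  [(231, [0, 3, 0, 2, 2, 0, 2, 2, 2, 2, 0, 2, 2]), (230, [0, 3, 0, 2, 2, 0, 2, 2, 2, 2, 1, 2, 2]), (234, [0, 2, 2, 2, 0, 2, 2, 0, 2, 2, 0, 3, 3]), (209, []), (230, []), (229, [])],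
  [(230, [0, 3, 0, 2, 2, 0, 2, 2, 2, 2, 0, 2, 2]), (231, [0, 3, 0, 2, 2, 0, 2, 2, 2, 2, 1, 2, 2]), (235, [0, 2, 2, 2, 0, 2, 2, 0, 2, 2, 0, 3, 3]), (210, []), (228, []), (231, [])],
  [(228, [0, 3, 0, 2, 2, 0, 2, 2, 2, 2, 0, 2, 2]), (229, [0, 3, 0, 2, 2, 0, 2, 2, 2, 2, 1, 2, 2]), (233, [0, 2, 2, 2, 0, 2, 2, 0, 2, 2, 0, 3, 3]), (211, []), (213, []), (228, [])],
  [(229, [0, 3, 0, 2, 2, 0, 2, 2, 2, 2, 0, 2, 2]), (228, [0, 3, 0, 2, 2, 0, 2, 2, 2, 2, 1, 2, 2]), (232, [0, 2, 2, 2, 0, 2, 2, 0, 2, 2, 0, 3, 3]), (212, []), (229, []), (213, [])],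
  [(235, [0, 2, 2, 0, 2, 2, 2, 2, 0, 2, 2, 0, 3]), (234, [0, 2, 2, 0, 2, 2, 2, 2, 0, 2, 2, 1, 3]), (214, []), (231, [0, 2, 2, 0, 3, 3, 3, 3, 0, 3, 3, 3, 0]), (235, []), (218, [])],
  [(234, [0, 2, 2, 0, 2, 2, 2, 2, 0, 2, 2, 0, 3]), (235, [0, 2, 2, 0, 2, 2, 2, 2, 0, 2, 2, 1, 3]), (215, []), (230, [0, 2, 2, 0, 3, 3, 3, 3, 0, 3, 3, 3, 0]), (218, []), (234, [])],
  [(232, [0, 2, 2, 0, 2, 2, 2, 2, 0, 2, 2, 0, 3]), (233, [0, 2, 2, 0, 2, 2, 2, 2, 0, 2, 2, 1, 3]), (216, []), (228, [0, 2, 2, 0, 3, 3, 3, 3, 0, 3, 3, 3, 0]), (233, []), (235, [])],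
  [(233, [0, 2, 2, 0, 2, 2, 2, 2, 0, 2, 2, 0, 3]), (232, [0, 2, 2, 0, 2, 2, 2, 2, 0, 2, 2, 1, 3]), (217, []), (229, [0, 2, 2, 0, 3, 3, 3, 3, 0, 3, 3, 3, 0]), (234, []), (232, [])],
  [(227, [0, 0]), (227, []), (245, []), (245, [3, 0, 2, 2, 2, 0, 3, 3, 3, 0, 3, 3, 3, 3]), (243, []), (244, [])],
  [(241, []), (242, [0, 0]), (225, [2, 2, 2, 2, 0, 2, 2, 0, 3, 3, 3]), (219, []), (240, []), (227, [])],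
  [(242, []), (241, [0, 0]), (226, [2, 2, 2, 2, 0, 2, 2, 0, 3, 3, 3]), (220, []), (227, []), (239, [])],
  [(243, []), (244, [0, 0]), (224, [2, 2, 2, 2, 0, 2, 2, 0, 3, 3, 3]), (221, []), (238, []), (240, [])],
  [(244, []), (243, [0, 0]), (223, [2, 2, 2, 2, 0, 2, 2, 0, 3, 3, 3]), (222, []), (239, []), (237, [])],
  [(238, [0, 0]), (237, []), (246, []), (246, [3, 0, 2, 2, 2, 0, 3, 3, 3, 0, 3, 3, 3, 3]), (242, []), (243, [])],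
  [(237, [0, 0]), (238, []), (247, []), (247, [3, 0, 2, 2, 2, 0, 3, 3, 3, 0, 3, 3, 3, 3]), (244, []), (241, [])],
  [(240, [0, 0]), (239, []), (248, []), (248, [3, 0, 2, 2, 2, 0, 3, 3, 3, 0, 3, 3, 3, 3]), (241, []), (236, [])],
  [(239, [0, 0]), (240, []), (249, []), (249, [3, 0, 2, 2, 2, 0, 3, 3, 3, 0, 3, 3, 3, 3]), (236, []), (242, [])],
  [(245, [0, 2, 2, 0, 3, 3, 3, 3, 0, 2, 2, 2, 2]), (245, [0, 2, 2, 0, 3, 3, 3, 3, 1, 2, 2, 2, 2]), (236, [0, 2, 2, 2, 0, 3, 3, 3, 1, 2, 2, 2, 2, 2]), (236, []), (248, []), (249, [])],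
  [(249, [0, 2, 2, 0, 3, 3, 3, 3, 0, 2, 2, 2, 2]), (248, [0, 2, 2, 0, 3, 3, 3, 3, 1, 2, 2, 2, 2]), (241, [0, 2, 2, 2, 0, 3, 3, 3, 1, 2, 2, 2, 2, 2]), (241, []), (247, []), (248, [])],
  [(248, [0, 2, 2, 0, 3, 3, 3, 3, 0, 2, 2, 2, 2]), (249, [0, 2, 2, 0, 3, 3, 3, 3, 1, 2, 2, 2, 2]), (242, [0, 2, 2, 2, 0, 3, 3, 3, 1, 2, 2, 2, 2, 2]), (242, []), (249, []), (246, [])],
  [(246, [0, 2, 2, 0, 3, 3, 3, 3, 0, 2, 2, 2, 2]), (247, [0, 2, 2, 0, 3, 3, 3, 3, 1, 2, 2, 2, 2]), (243, [0, 2, 2, 2, 0, 3, 3, 3, 1, 2, 2, 2, 2, 2]), (243, []), (246, []), (245, [])],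
  [(247, [0, 2, 2, 0, 3, 3, 3, 3, 0, 2, 2, 2, 2]), (246, [0, 2, 2, 0, 3, 3, 3, 3, 1, 2, 2, 2, 2]), (244, [0, 2, 2, 2, 0, 3, 3, 3, 1, 2, 2, 2, 2, 2]), (244, []), (245, []), (247, [])]]

/-- the cover of node 0 -/
def cv0 : List Cv := [
  .root 0 0 false [] [],
  .step 1 0 [2] [],
  .step 2 0 [3] [],
  .step 5 1 [0] [],
  .step 9 1 [2] [],
  .step 6 2 [0] [],
  .step 12 2 [3] [],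
  .step 21 5 [2] [],
  .step 15 9 [0] [],
  .step 24 9 [2] [],
  .step 18 12 [0] [],
  .step 40 15 [2] [],
  .step 43 15 [3] [2, 0, 2, 0, 3, 3, 3, 3, 1, 3, 3, 3, 3, 3],
  .step 35 24 [0] [],
  .step 50 18 [3] [],
  .step 57 40 [0] [],
  .step 66 40 [2] [],
  .step 61 35 [2] [],
  .step 73 35 [3] [],
  .step 60 50 [0] [],
  .step 91 57 [2] [],
  .step 101 57 [3] [],
  .step 83 66 [0] [],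
  .step 80 61 [0] [],
  .step 86 73 [0] [],
  .step 94 60 [2] [],
  .step 104 60 [3] [],
  .step 107 91 [0] [],
  .step 117 101 [0] [],
  .step 123 80 [2] [],
  .step 133 80 [3] [],
  .step 128 86 [2] [],
  .step 138 86 [3] [],
  .step 110 94 [0] [],
  .step 120 104 [0] [],
  .step 147 117 [2] [],
  .step 170 117 [3] [0, 3, 0, 3, 3, 0, 3, 3, 3, 3, 3, 0, 3, 0, 3],
  .step 152 133 [0] [],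
  .step 163 138 [3] [3, 3, 3, 0, 2, 2, 2, 2, 2, 0, 2, 0, 3],
  .step 184 170 [0] [],
  .step 179 163 [0] [],
  .step 205 184 [2] [],
  .step 206 179 [3] [],
  .step 207 205 [0] [],
  .step 213 205 [2] [],
  .step 208 206 [0] [],
  .step 218 206 [3] [],
  .step 227 207 [2] [],
  .step 236 227 [0] [],
  .step 245 236 [2] [],
  .root 3 1 false [] [],
  .step 7 3 [0] [],
  .step 8 3 [1] [0, 0],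
  .step 10 3 [2] [],
  .step 13 3 [3] [],
  .step 4 7 [0] [0, 0],
  .step 22 7 [2] [],
  .step 27 7 [3] [],
  .step 23 8 [2] [],
  .step 28 8 [3] [],
  .step 16 10 [0] [],
  .step 17 10 [1] [0, 0],
  .step 25 10 [2] [],
  .step 19 13 [0] [],
  .step 20 13 [1] [0, 0],
  .step 29 13 [3] [],
  .step 11 4 [2] [],
  .step 14 4 [3] [],
  .step 33 22 [0] [1],
  .step 31 22 [1] [0],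
  .step 44 22 [2] [],
  .step 34 27 [0] [1],
  .step 32 27 [1] [0],
  .step 51 27 [3] [],
  .step 45 23 [2] [],
  .step 52 28 [3] [],
  .step 41 16 [2] [],
  .step 42 17 [2] [],
  .step 36 25 [0] [],
  .step 37 25 [1] [0, 0],
  .step 46 25 [2] [],
  .step 38 29 [0] [],
  .step 39 29 [1] [0, 0],
  .step 26 11 [2] [],
  .step 30 14 [3] [],
  .step 49 33 [2] [],
  .step 48 31 [2] [],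
  .step 55 44 [0] [1],
  .step 53 44 [1] [0],
  .step 67 44 [2] [],
  .step 56 51 [0] [1],
  .step 54 51 [1] [0],
  .step 68 45 [2] [],
  .step 62 36 [2] [],
  .step 64 36 [3] [2, 0, 2, 0, 3, 3, 3, 3, 1, 3, 3, 3, 3, 3],
  .step 63 37 [2] [],
  .step 65 37 [3] [2, 0, 2, 0, 3, 3, 3, 3, 1, 3, 3, 3, 3, 3],
  .step 58 46 [0] [],
  .step 59 46 [1] [0, 0],
  .step 74 38 [3] [],
  .step 75 39 [3] [],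
  .step 47 26 [2] [],
  .step 71 55 [2] [],
  .step 72 55 [3] [2, 0, 2, 0, 3, 3, 3, 3, 1, 3, 3, 3, 3, 3],
  .step 69 53 [2] [],
  .step 70 53 [3] [2, 0, 2, 0, 3, 3, 3, 3, 1, 3, 3, 3, 3, 3],
  .step 79 67 [0] [1],
  .step 78 67 [1] [0],
  .step 77 56 [3] [],
  .step 76 54 [3] [],
  .step 81 62 [0] [],
  .step 82 62 [1] [0, 0],
  .step 95 62 [2] [],
  .step 96 63 [2] [],
  .step 92 58 [2] [],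
  .step 102 58 [3] [],
  .step 93 59 [2] [],
  .step 103 59 [3] [],
  .step 87 74 [0] [],
  .step 88 74 [1] [0, 0],
  .step 85 71 [0] [],
  .step 84 71 [1] [0, 0],
  .step 98 71 [2] [],
  .step 97 69 [2] [],
  .step 100 79 [2] [],
  .step 106 79 [3] [],
  .step 99 78 [2] [],
  .step 105 78 [3] [],
  .step 90 77 [0] [],
  .step 89 77 [1] [0, 0],
  .step 124 81 [2] [],
  .step 134 81 [3] [],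
  .step 125 82 [2] [],
  .step 135 82 [3] [],
  .step 111 95 [0] [],
  .step 112 95 [1] [0, 0],
  .step 108 92 [0] [],
  .step 109 92 [1] [0, 0],
  .step 118 102 [0] [],
  .step 119 102 [1] [0, 0],
  .step 129 87 [2] [],
  .step 139 87 [3] [],
  .step 130 88 [2] [],
  .step 140 88 [3] [],
  .step 127 85 [2] [],
  .step 137 85 [3] [],
  .step 126 84 [2] [],
  .step 136 84 [3] [],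
  .step 114 98 [0] [],
  .step 113 98 [1] [0, 0],
  .step 116 100 [0] [],
  .step 115 100 [1] [0, 0],
  .step 122 106 [0] [],
  .step 121 106 [1] [0, 0],
  .step 132 90 [2] [],
  .step 142 90 [3] [],
  .step 131 89 [2] [],
  .step 141 89 [3] [],
  .step 143 124 [0] [],
  .step 144 124 [1] [0, 0],
  .step 153 134 [0] [],
  .step 154 134 [1] [0, 0],
  .step 161 108 [2] [],
  .step 171 108 [3] [],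
  .step 162 109 [2] [],
  .step 172 109 [3] [],
  .step 166 118 [2] [],
  .step 175 118 [3] [],
  .step 167 119 [2] [],
  .step 176 119 [3] [],
  .step 148 129 [0] [],
  .step 149 129 [1] [0, 0],
  .step 157 139 [0] [],
  .step 158 139 [1] [0, 0],
  .step 146 127 [0] [],
  .step 145 127 [1] [0, 0],
  .step 156 137 [0] [],
  .step 155 137 [1] [0, 0],
  .step 165 116 [2] [],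
  .step 174 116 [3] [],
  .step 164 115 [2] [],
  .step 173 115 [3] [],
  .step 169 122 [2] [],
  .step 178 122 [3] [],
  .step 168 121 [2] [],
  .step 177 121 [3] [],
  .step 151 132 [0] [],
  .step 150 132 [1] [0, 0],
  .step 160 142 [0] [],
  .step 159 142 [1] [0, 0],
  .step 180 153 [2] [],
  .step 196 153 [3] [0, 3, 0, 3, 3, 0, 3, 3, 3, 3, 3, 0, 3, 0, 3],
  .step 181 154 [2] [],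
  .step 195 154 [3] [0, 3, 0, 3, 3, 0, 3, 3, 3, 3, 3, 0, 3, 0, 3],
  .step 193 161 [2] [],
  .step 185 171 [0] [],
  .step 186 171 [1] [0, 0],
  .step 182 171 [3] [2, 0, 2, 0, 2, 2, 2, 2, 2, 0, 2, 2, 0, 2, 1],
  .step 194 162 [2] [],
  .step 183 172 [3] [2, 0, 2, 0, 2, 2, 2, 2, 2, 0, 2, 2, 0, 2, 1],
  .step 187 166 [2] [3, 3, 3, 0, 2, 2, 2, 2, 2, 0, 2, 0, 3],
  .step 191 175 [3] [3, 3, 3, 0, 2, 2, 2, 2, 2, 0, 2, 0, 3],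
  .step 188 167 [2] [3, 3, 3, 0, 2, 2, 2, 2, 2, 0, 2, 0, 3],
  .step 192 176 [3] [3, 3, 3, 0, 2, 2, 2, 2, 2, 0, 2, 0, 3],
  .step 189 148 [2] [],
  .step 190 149 [2] [],
  .step 204 196 [0] [],
  .step 203 196 [1] [0, 0],
  .step 201 193 [0] [],
  .step 202 193 [1] [0, 0],
  .step 199 191 [0] [],
  .step 200 191 [1] [0, 0],
  .step 197 189 [0] [],
  .step 198 189 [1] [0, 0],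
  .step 212 204 [2] [],
  .step 211 203 [2] [],
  .step 209 201 [2] [],
  .step 210 202 [2] [],
  .step 216 199 [3] [],
  .step 217 200 [3] [],
  .step 214 197 [3] [],
  .step 215 198 [3] [],
  .step 222 212 [0] [],
  .step 221 212 [1] [0, 0],
  .step 231 212 [2] [],
  .step 230 211 [2] [],
  .step 219 209 [0] [],
  .step 220 209 [1] [0, 0],
  .step 228 209 [2] [],
  .step 229 210 [2] [],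
  .step 225 216 [0] [],
  .step 226 216 [1] [0, 0],
  .step 234 216 [3] [],
  .step 235 217 [3] [],
  .step 223 214 [0] [],
  .step 224 214 [1] [0, 0],
  .step 232 214 [3] [],
  .step 233 215 [3] [],
  .step 240 222 [2] [],
  .step 239 221 [2] [],
  .step 237 219 [2] [],
  .step 238 220 [2] [],
  .step 244 240 [0] [],
  .step 243 240 [1] [0, 0],
  .step 241 237 [0] [],
  .step 242 237 [1] [0, 0],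
  .step 249 244 [2] [],
  .step 248 243 [2] [],
  .step 246 241 [2] [],
  .step 247 242 [2] []]

/-- the cover of node 1 -/
def cv1 : List Cv := [
  .root 0 1 true [] [],
  .step 3 0 [8] [0, 0],
  .root 8 2 false [] [0, 0],
  .root 7 3 false [] [],
  .step 4 7 [8] [0],
  .root 1 4 false [] [],
  .step 6 1 [4] [0, 2, 2, 2, 0, 3, 3, 3, 0, 2, 2],
  .step 15 1 [5] [2, 0, 2, 0, 2, 0, 3, 3, 3, 3, 3, 0, 3, 0, 3],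
  .step 83 1 [6] [3, 0, 3, 3, 3, 0, 3, 1, 3, 3, 3, 3],
  .step 107 1 [7] [1],
  .step 10 1 [8] [0, 0],
  .step 61 6 [4] [2, 0, 3, 3, 3, 3, 0, 3, 3, 3, 3, 3, 0, 3],
  .step 120 6 [6] [0, 2, 0, 3, 3, 0, 3, 0, 2, 2, 2, 0, 3, 3],
  .step 57 6 [7] [0, 3, 0, 3, 0, 2, 2, 2, 2, 2, 0, 2, 1, 3, 3],
  .step 32 6 [8] [0, 0],
  .step 104 15 [7] [0, 3, 0, 2, 2, 2, 0, 3, 3, 3, 0, 3, 3, 3, 3],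
  .step 53 15 [8] [0, 0],
  .step 179 83 [5] [0, 2, 2, 2, 0, 3, 3, 3, 1, 3],
  .step 86 83 [6] [0, 2, 2, 0, 2, 2, 0, 3, 3, 3, 3, 0, 3, 1],
  .step 112 83 [8] [0, 0],
  .step 163 107 [4] [2, 0, 2, 0, 3, 3, 3, 3, 1, 3, 3, 3, 3, 3],
  .step 170 107 [7] [2, 0, 2, 0, 2, 2, 0, 2, 2, 2, 1],
  .step 146 107 [8] [0, 0],
  .step 117 61 [4] [3, 0, 3, 3, 0, 2, 2, 2, 0, 3, 3, 3],
  .step 205 61 [6] [2, 2, 2, 0, 2, 2, 0, 2, 2, 2, 1, 3],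
  .step 99 61 [8] [0, 0],
  .step 9 120 [5] [0, 2, 2, 2, 0, 3, 3, 3, 0, 2, 2, 2, 2, 2, 1],
  .step 66 120 [6] [2, 2, 2, 2, 2, 2, 0, 3, 3, 3, 1, 2, 2, 2],
  .step 160 120 [8] [0, 0],
  .step 82 57 [8] [0, 0],
  .step 2 104 [4] [0, 2, 0, 2, 0, 3, 3, 3, 0, 2, 2, 2, 1, 3],
  .step 91 104 [7] [0, 2, 0, 3, 3, 0],
  .step 140 104 [8] [0, 0],
  .step 206 179 [5] [2, 0, 3, 3, 3, 3, 3, 0, 3, 3],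
  .step 227 179 [7] [0, 2, 2, 2, 0, 2, 0, 3, 3, 3, 3, 1, 3, 3],
  .step 197 179 [8] [0, 0],
  .step 147 86 [5] [0, 3, 3, 3, 3, 0, 3, 3, 0, 3, 3, 0, 3, 1, 3],
  .step 35 86 [6] [2, 2, 2, 0, 2, 2, 2, 0, 2, 0, 3, 3, 3],
  .step 119 86 [8] [0, 0],
  .step 236 163 [4] [0, 2, 2, 2, 0, 2, 0, 3, 3, 3, 3, 0, 3, 3],
  .step 208 163 [6] [2, 0, 3, 3, 3, 3, 3, 1, 3, 3],
  .step 192 163 [8] [0, 0],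
  .step 12 170 [4] [2, 2, 0, 2, 2, 2, 2, 0, 2, 2, 0, 2, 2, 2, 2, 2],
  .step 94 170 [7] [2, 2, 0, 3, 3, 3, 0, 2, 2, 2, 1, 3],
  .step 194 170 [8] [0, 0],
  .step 156 117 [8] [0, 0],
  .step 212 205 [8] [0, 0],
  .step 80 9 [5] [3, 0, 3, 3, 3, 0, 3, 3, 0, 3, 3, 3, 0, 3],
  .step 40 9 [6] [0, 2, 0, 2, 0, 2, 2, 0, 2, 2, 1, 2, 2, 2, 2],
  .step 5 9 [7] [0, 2, 2, 2, 2, 2, 2, 0, 3, 3, 3, 0, 2, 2, 2],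
  .step 25 9 [8] [0, 0],
  .step 73 66 [5] [0, 2, 2, 0, 2, 2, 0, 3, 3, 3, 3, 0, 3, 1],
  .step 97 66 [8] [0, 0],
  .step 13 2 [8] [0, 0],
  .step 184 91 [4] [2, 0, 2, 0, 2, 2, 0, 2, 2, 2, 0],
  .step 125 91 [8] [0, 0],
  .step 101 206 [5] [2, 2, 2, 2, 2, 0, 2, 2, 2, 0, 2, 0],
  .step 214 206 [8] [0, 0],
  .step 237 227 [8] [0, 0],
  .step 152 147 [5] [2, 2, 0, 2, 2, 0, 2, 2, 0, 2, 2, 0],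
  .step 50 147 [7] [3, 0, 3, 3, 3, 0, 3, 3, 0, 3, 3, 3, 0, 3],
  .step 183 147 [8] [0, 0],
  .step 78 35 [8] [0, 0],
  .step 207 236 [4] [0, 3, 0, 3, 0, 2, 2, 2, 2, 0, 2, 2, 1],
  .step 243 236 [8] [0, 0],
  .step 225 208 [8] [0, 0],
  .step 60 12 [6] [0, 3, 3, 3, 0, 2, 2, 2, 0, 2],
  .step 29 12 [8] [0, 0],
  .step 130 94 [8] [0, 0],
  .step 109 80 [8] [0, 0],
  .step 69 40 [8] [0, 0],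
  .step 31 5 [8] [0, 0],
  .step 24 73 [5] [2, 2, 2, 0, 2, 2, 2, 0, 2, 0, 3, 3, 3],
  .step 128 73 [6] [0, 3, 3, 3, 3, 0, 3, 3, 0, 3, 3, 0, 3, 1, 3],
  .step 105 73 [8] [0, 0],
  .step 110 184 [4] [2, 2, 0, 3, 3, 3, 0, 2, 2, 2, 1, 3],
  .step 18 184 [7] [2, 2, 0, 2, 2, 2, 2, 0, 2, 2, 0, 2, 2, 2, 2, 2],
  .step 204 184 [8] [0, 0],
  .step 135 101 [8] [0, 0],
  .step 188 152 [8] [0, 0],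
  .step 76 50 [8] [0, 0],
  .step 219 207 [8] [0, 0],
  .step 88 60 [8] [0, 0],
  .step 46 24 [8] [0, 0],
  .step 133 128 [5] [3, 0, 2, 2, 2, 0, 2, 2, 0, 2, 2, 0, 2, 2],
  .step 167 128 [8] [0, 0],
  .step 151 110 [8] [0, 0],
  .step 54 18 [8] [0, 0],
  .step 172 133 [8] [0, 0],
  .root 138 6 false [] [],
  .step 43 138 [4] [3, 3, 0, 3, 0, 3, 3, 1, 3],
  .step 213 138 [5] [0, 3, 0, 3, 0, 2, 2, 2, 2, 2, 0, 2, 1, 3, 3],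
  .step 21 138 [6] [0, 3, 3, 3, 3, 0, 3, 3, 0, 3, 3, 0, 3, 0, 3],
  .step 245 138 [7] [2, 0, 3, 3, 0, 3, 3, 0, 3, 3, 0, 3, 3],
  .step 176 138 [8] [0, 0],
  .step 123 43 [6] [0, 2, 2, 2, 2, 0, 2, 2, 2, 2, 2],
  .step 70 43 [8] [0, 0],
  .step 218 213 [5] [3, 0, 3, 3, 3, 0, 3, 3, 1, 2, 2],
  .step 231 213 [8] [0, 0],
  .step 48 21 [8] [0, 0],
  .step 248 245 [8] [0, 0],
  .step 162 123 [8] [0, 0],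
  .step 232 218 [8] [0, 0],
  .root 177 8 true [] [1],
  .step 64 177 [4] [3, 3, 0, 3, 0, 3, 3, 1, 3],
  .step 229 177 [5] [0, 3, 0, 3, 0, 2, 2, 2, 2, 2, 0, 2, 1, 3, 3],
  .step 41 177 [6] [0, 3, 3, 3, 3, 0, 3, 3, 0, 3, 3, 0, 3, 0, 3],
  .step 246 177 [7] [2, 0, 3, 3, 0, 3, 3, 0, 3, 3, 0, 3, 3],
  .step 175 177 [8] [0, 0],
  .step 164 64 [6] [0, 2, 2, 2, 2, 0, 2, 2, 2, 2, 2],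
  .step 72 64 [8] [0, 0],
  .step 235 229 [5] [3, 0, 3, 3, 3, 0, 3, 3, 1, 2, 2],
  .step 230 229 [8] [0, 0],
  .step 49 41 [8] [0, 0],
  .step 249 246 [8] [0, 0],
  .step 161 164 [8] [0, 0],
  .step 233 235 [8] [0, 0],
  .root 178 11 false [] [3, 0],
  .step 65 178 [4] [3, 3, 0, 3, 0, 3, 3, 1, 3],
  .step 228 178 [5] [0, 3, 0, 3, 0, 2, 2, 2, 2, 2, 0, 2, 1, 3, 3],
  .step 42 178 [6] [0, 3, 3, 3, 3, 0, 3, 3, 0, 3, 3, 0, 3, 0, 3],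
  .step 247 178 [7] [2, 0, 3, 3, 0, 3, 3, 0, 3, 3, 0, 3, 3],
  .step 165 65 [6] [0, 2, 2, 2, 2, 0, 2, 2, 2, 2, 2],
  .step 234 228 [5] [3, 0, 3, 3, 3, 0, 3, 3, 1, 2, 2],
  .root 11 12 false [] [],
  .step 34 11 [4] [0, 2, 2, 2, 0, 3, 3, 3, 0, 2, 2],
  .step 55 11 [5] [2, 0, 2, 0, 2, 0, 3, 3, 3, 3, 3, 0, 3, 0, 3],
  .step 111 11 [6] [3, 0, 3, 3, 3, 0, 3, 1, 3, 3, 3, 3],
  .step 145 11 [7] [1],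
  .step 22 11 [8] [1],
  .step 100 34 [4] [2, 0, 3, 3, 3, 3, 0, 3, 3, 3, 3, 3, 0, 3],
  .step 159 34 [6] [0, 2, 0, 3, 3, 0, 3, 0, 2, 2, 2, 0, 3, 3],
  .step 81 34 [7] [0, 3, 0, 3, 0, 2, 2, 2, 2, 2, 0, 2, 1, 3, 3],
  .step 19 34 [8] [0, 0],
  .step 139 55 [7] [0, 3, 0, 2, 2, 2, 0, 3, 3, 3, 0, 3, 3, 3, 3],
  .step 36 55 [8] [0, 0],
  .step 198 111 [5] [0, 2, 2, 2, 0, 3, 3, 3, 1, 3],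
  .step 118 111 [6] [0, 2, 2, 0, 2, 2, 0, 3, 3, 3, 3, 0, 3, 1],
  .step 113 111 [8] [0, 0],
  .step 191 145 [4] [2, 0, 2, 0, 3, 3, 3, 3, 1, 3, 3, 3, 3, 3],
  .step 193 145 [7] [2, 0, 2, 0, 2, 2, 0, 2, 2, 2, 1],
  .step 144 145 [8] [0, 0],
  .step 155 100 [4] [3, 0, 3, 3, 0, 2, 2, 2, 0, 3, 3, 3],
  .step 211 100 [6] [2, 2, 2, 0, 2, 2, 0, 2, 2, 2, 1, 3],
  .step 92 100 [8] [0, 0],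
  .step 26 159 [5] [0, 2, 2, 2, 0, 3, 3, 3, 0, 2, 2, 2, 2, 2, 1],
  .step 98 159 [6] [2, 2, 2, 2, 2, 2, 0, 3, 3, 3, 1, 2, 2, 2],
  .step 158 159 [8] [0, 0],
  .step 84 81 [8] [0, 0],
  .step 14 139 [4] [0, 2, 0, 2, 0, 3, 3, 3, 0, 2, 2, 2, 1, 3],
  .step 124 139 [7] [0, 2, 0, 3, 3, 0],
  .step 141 139 [8] [0, 0],
  .step 215 198 [5] [2, 0, 3, 3, 3, 3, 3, 0, 3, 3],
  .step 238 198 [7] [0, 2, 2, 2, 0, 2, 0, 3, 3, 3, 3, 1, 3, 3],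
  .step 200 198 [8] [0, 0],
  .step 182 118 [5] [0, 3, 3, 3, 3, 0, 3, 3, 0, 3, 3, 0, 3, 1, 3],
  .step 79 118 [6] [2, 2, 2, 0, 2, 2, 2, 0, 2, 0, 3, 3, 3],
  .step 121 118 [8] [0, 0],
  .step 244 191 [4] [0, 2, 2, 2, 0, 2, 0, 3, 3, 3, 3, 0, 3, 3],
  .step 226 191 [6] [2, 0, 3, 3, 3, 3, 3, 1, 3, 3],
  .step 190 191 [8] [0, 0],
  .step 30 193 [4] [2, 2, 0, 2, 2, 2, 2, 0, 2, 2, 0, 2, 2, 2, 2, 2],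
  .step 129 193 [7] [2, 2, 0, 3, 3, 3, 0, 2, 2, 2, 1, 3],
  .step 195 193 [8] [0, 0],
  .step 154 155 [8] [0, 0],
  .step 210 211 [8] [0, 0],
  .step 108 26 [5] [3, 0, 3, 3, 3, 0, 3, 3, 0, 3, 3, 3, 0, 3],
  .step 71 26 [6] [0, 2, 0, 2, 0, 2, 2, 0, 2, 2, 1, 2, 2, 2, 2],
  .step 33 26 [7] [0, 2, 2, 2, 2, 2, 2, 0, 3, 3, 3, 0, 2, 2, 2],
  .step 44 26 [8] [1],
  .step 106 98 [5] [0, 2, 2, 0, 2, 2, 0, 3, 3, 3, 3, 0, 3, 1],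
  .step 95 98 [8] [0, 0],
  .step 27 14 [8] [1],
  .step 203 124 [4] [2, 0, 2, 0, 2, 2, 0, 2, 2, 2, 0],
  .step 126 124 [8] [0, 0],
  .step 134 215 [5] [2, 2, 2, 2, 2, 0, 2, 2, 2, 0, 2, 0],
  .step 217 215 [8] [0, 0],
  .step 240 238 [8] [0, 0],
  .step 187 182 [5] [2, 2, 0, 2, 2, 0, 2, 2, 0, 2, 2, 0],
  .step 77 182 [7] [3, 0, 3, 3, 3, 0, 3, 3, 0, 3, 3, 3, 0, 3],
  .step 181 182 [8] [0, 0],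
  .step 58 79 [8] [0, 0],
  .step 220 244 [4] [0, 3, 0, 3, 0, 2, 2, 2, 2, 0, 2, 2, 1],
  .step 241 244 [8] [0, 0],
  .step 223 226 [8] [0, 0],
  .step 87 30 [6] [0, 3, 3, 3, 0, 2, 2, 2, 0, 2],
  .step 51 30 [8] [1],
  .step 131 129 [8] [0, 0],
  .step 115 108 [8] [0, 0],
  .step 62 71 [8] [0, 0],
  .step 16 33 [8] [0, 0],
  .step 47 106 [5] [2, 2, 2, 0, 2, 2, 2, 0, 2, 0, 3, 3, 3],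
  .step 166 106 [6] [0, 3, 3, 3, 3, 0, 3, 3, 0, 3, 3, 0, 3, 1, 3],
  .step 102 106 [8] [0, 0],
  .step 150 203 [4] [2, 2, 0, 3, 3, 3, 0, 2, 2, 2, 1, 3],
  .step 56 203 [7] [2, 2, 0, 2, 2, 2, 2, 0, 2, 2, 0, 2, 2, 2, 2, 2],
  .step 202 203 [8] [0, 0],
  .step 136 134 [8] [0, 0],
  .step 186 187 [8] [0, 0],
  .step 74 77 [8] [0, 0],
  .step 222 220 [8] [0, 0],
  .step 89 87 [8] [0, 0],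
  .step 67 47 [8] [1],
  .step 171 166 [5] [3, 0, 2, 2, 2, 0, 2, 2, 0, 2, 2, 0, 2, 2],
  .step 168 166 [8] [0, 0],
  .step 149 150 [8] [0, 0],
  .step 38 56 [8] [0, 0],
  .step 173 171 [8] [0, 0],
  .root 17 22 false [] [],
  .step 127 17 [4] [0],
  .step 96 17 [5] [3, 0, 3, 3, 3, 0, 3, 0, 3, 3, 3, 3],
  .step 45 17 [6] [2, 0, 2, 2, 2, 0, 2, 0, 2, 2, 2, 2, 1, 2],
  .step 28 17 [7] [0, 2, 2, 0, 2, 0, 3, 3, 3, 1, 2, 2],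
  .step 201 127 [4] [2, 0, 2, 0, 2, 2, 0, 2, 2, 2, 0],
  .step 142 127 [6] [0, 2, 0, 2, 1, 3],
  .step 199 127 [7] [2, 0, 2, 0, 3, 3, 3, 3, 0, 3, 3, 3, 3, 3],
  .step 103 96 [5] [0, 2, 2, 0, 2, 2, 0, 3, 3, 3, 3, 0, 3, 1],
  .step 189 96 [6] [0, 2, 2, 2, 0, 3, 3, 3, 1, 3],
  .step 157 96 [7] [2, 0, 2, 2, 2, 0, 2, 0, 2, 2, 2, 2, 0, 2],
  .step 116 45 [5] [0, 3, 0, 3, 3, 3, 0, 3, 3, 0, 3, 3, 3, 1, 3],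
  .step 63 45 [6] [2, 0, 2, 0, 2, 2, 0, 2, 2, 1, 2, 2, 2, 2],
  .step 148 201 [4] [2, 2, 0, 3, 3, 3, 0, 2, 2, 2, 1, 3],
  .step 216 201 [6] [3, 0, 2, 2, 2, 2, 0, 2, 2, 0, 2, 0, 2],
  .step 39 201 [7] [2, 2, 0, 2, 2, 2, 2, 0, 2, 2, 0, 2, 2, 2, 2, 2],
  .step 114 142 [5] [2, 2, 2, 2, 2, 2, 0, 3, 3, 3, 0, 2, 2, 2],
  .step 37 142 [6] [0, 2, 2, 2, 0, 3, 3, 3, 0, 2, 2, 2, 2, 2, 0],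
  .step 239 199 [7] [0, 2, 2, 2, 0, 2, 0, 3, 3, 3, 3, 1, 3, 3],
  .step 68 103 [5] [0, 2, 2, 2, 0, 2, 2, 2, 0, 2, 0, 3, 3, 3],
  .step 169 103 [6] [0, 3, 3, 3, 3, 0, 3, 3, 0, 3, 3, 0, 3, 1, 3],
  .step 242 103 [7] [2, 0, 2, 2, 2, 2, 0, 2, 2, 0, 2, 2, 1, 2],
  .step 143 189 [5] [2, 0, 3, 3, 3, 3, 0, 3, 3, 3, 3, 3, 0, 3],
  .step 224 189 [6] [2, 0, 3, 3, 3, 3, 3, 1, 3, 3],
  .step 20 157 [7] [0, 2, 0, 2, 0, 3, 3, 3, 0, 2, 2, 2, 1, 3],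
  .step 221 116 [5] [2, 2, 2, 0, 2, 2, 0, 2, 2, 2, 1, 3],
  .step 137 116 [7] [3, 0, 3, 3, 0, 2, 2, 2, 1, 3, 3, 3],
  .step 75 148 [6] [2, 2, 2, 0, 3, 3, 3, 3, 0, 2],
  .step 174 39 [4] [0, 2, 0, 2, 2, 0, 2, 0, 2, 2, 2],
  .step 122 114 [6] [0, 2, 2, 0, 2, 2, 0, 3, 3, 3, 3, 0, 3, 1],
  .step 23 114 [7] [2, 0, 2, 2, 2, 0, 2, 0, 2, 2, 2, 2, 0],
  .step 85 37 [5] [0, 2, 0, 2, 0, 2, 2, 0, 2, 2, 1, 2, 2, 2, 2],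
  .step 93 37 [6] [3, 0, 3, 3, 3, 0, 3, 3, 0, 3, 3, 3, 1, 3],
  .step 209 239 [7] [0, 3, 0, 3, 0, 2, 2, 2, 2, 0, 2, 2, 1],
  .step 90 68 [7] [0, 2, 2, 0, 2, 0, 3, 3, 3, 0, 2, 2, 2],
  .step 196 143 [7] [2, 0, 2, 0, 2, 2, 0, 2, 2, 2, 1],
  .step 153 224 [6] [2, 2, 2, 2, 2, 0, 2, 2, 2, 0, 2, 0],
  .step 59 75 [5] [3, 0, 3, 3, 0, 2, 2, 2, 1, 3, 3, 3],
  .step 180 75 [6] [2, 0, 2, 2, 2, 0, 2, 2, 0, 2, 2, 2, 0, 2],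
  .step 132 90 [4] [3, 0, 2, 2, 2, 2, 1, 3, 3, 3],
  .step 52 90 [7] [3, 0, 3, 3, 3, 0, 2, 2, 2],
  .step 185 180 [5] [2, 2, 0, 2, 2, 0, 2, 2, 0, 2, 2, 0]]

/-- the cover of node 2 -/
def cv2 : List Cv := [
  .root 0 4 true [] [],
  .step 91 0 [14] [0, 3, 3, 0, 3, 0, 2, 2, 2, 2, 1, 2, 2, 2],
  .step 163 0 [16] [0, 2, 0, 2, 0, 2, 2, 2, 2, 2, 2, 0, 2, 2, 2],
  .step 236 0 [17] [2, 2, 0, 2, 0, 2, 0, 3, 3, 3, 3, 3, 0, 3, 0],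
  .step 147 91 [10] [0, 2, 0, 3, 3, 3, 0, 3, 3, 0, 3, 3, 1],
  .step 6 91 [12] [0, 3, 0, 2, 2, 2, 0, 2, 2, 2, 2, 2, 2],
  .step 107 91 [13] [2, 2, 2, 0, 2, 2, 2, 1, 3, 3, 3],
  .step 5 91 [16] [0, 2, 0, 2, 2, 0, 2, 2, 0, 2, 2, 1, 2, 2, 2],
  .step 80 91 [17] [2, 0, 3, 3, 0, 3, 3, 0],
  .step 205 163 [12] [0, 3, 0, 3, 0, 3, 3, 3, 3, 3, 0, 2, 2, 2],
  .step 18 236 [12] [2, 2, 0, 2, 0, 2, 2, 2, 0, 2],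
  .step 128 236 [17] [0, 2, 0, 3, 3, 3, 3, 0, 3, 3, 0, 3, 3, 1, 3],
  .root 4 5 false [] [0, 0],
  .step 124 4 [14] [0, 3, 3, 0, 3, 0, 2, 2, 2, 2, 1, 2, 2, 2],
  .step 192 4 [16] [0, 2, 0, 2, 0, 2, 2, 2, 2, 2, 2, 0, 2, 2, 2],
  .step 243 4 [17] [2, 2, 0, 2, 0, 2, 0, 3, 3, 3, 3, 3, 0, 3, 0],
  .step 182 124 [10] [0, 2, 0, 3, 3, 3, 0, 3, 3, 0, 3, 3, 1],
  .step 34 124 [12] [0, 3, 0, 2, 2, 2, 0, 2, 2, 2, 2, 2, 2],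
  .step 145 124 [13] [2, 2, 2, 0, 2, 2, 2, 1, 3, 3, 3],
  .step 31 124 [16] [0, 2, 0, 2, 2, 0, 2, 2, 0, 2, 2, 1, 2, 2, 2],
  .step 109 124 [17] [2, 0, 3, 3, 0, 3, 3, 0],
  .step 212 192 [12] [0, 3, 0, 3, 0, 3, 3, 3, 3, 3, 0, 2, 2, 2],
  .step 54 243 [12] [2, 2, 0, 2, 0, 2, 2, 2, 0, 2],
  .step 166 243 [17] [0, 2, 0, 3, 3, 3, 3, 0, 3, 3, 0, 3, 3, 1, 3],
  .root 2 6 true [] [0, 2, 0, 2, 0, 3, 3],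
  .step 213 2 [16] [2, 2, 2, 2, 2, 0, 2, 2, 0, 2, 2, 0, 2],
  .root 13 7 false [] [],
  .step 230 13 [16] [2, 2, 2, 2, 2, 0, 2, 2, 0, 2, 2, 0, 2],
  .root 231 8 false [] [2, 0, 3, 3, 3, 0, 3, 3, 0, 3, 3, 1, 2, 2],
  .step 14 231 [16] [2, 2, 0, 2, 0, 3, 3, 3, 3, 3, 1],
  .root 27 9 false [] [2, 0, 2, 1, 3, 3],
  .step 228 27 [16] [0, 2, 2, 2, 2, 2, 0, 2, 2, 0, 2, 2, 1, 2],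
  .root 28 10 false [] [2, 0, 2, 0, 3, 3],
  .step 229 28 [16] [0, 2, 2, 2, 2, 2, 0, 2, 2, 0, 2, 2, 1, 2],
  .root 3 13 false [] [],
  .step 125 3 [14] [0, 3, 3, 0, 3, 0, 2, 2, 2, 2, 1, 2, 2, 2],
  .step 191 3 [16] [0, 2, 0, 2, 0, 2, 2, 2, 2, 2, 2, 0, 2, 2, 2],
  .step 244 3 [17] [2, 2, 0, 2, 0, 2, 0, 3, 3, 3, 3, 3, 0, 3, 0],
  .step 183 125 [10] [0, 2, 0, 3, 3, 3, 0, 3, 3, 0, 3, 3, 1],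
  .step 32 125 [12] [0, 3, 0, 2, 2, 2, 0, 2, 2, 2, 2, 2, 2],
  .step 146 125 [13] [2, 2, 2, 0, 2, 2, 2, 1, 3, 3, 3],
  .step 33 125 [16] [0, 2, 0, 2, 2, 0, 2, 2, 0, 2, 2, 1, 2, 2, 2],
  .step 108 125 [17] [2, 0, 3, 3, 0, 3, 3, 0],
  .step 211 191 [12] [0, 3, 0, 3, 0, 3, 3, 3, 3, 3, 0, 2, 2, 2],
  .step 56 244 [12] [2, 2, 0, 2, 0, 2, 2, 2, 0, 2],
  .step 167 244 [17] [0, 2, 0, 3, 3, 3, 3, 0, 3, 3, 0, 3, 3, 1, 3],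
  .root 7 14 false [] [2, 2, 2, 2],
  .step 126 7 [14] [3, 3, 0, 3, 0, 2, 2, 2, 2, 1, 2, 2, 2],
  .step 189 7 [16] [2, 0, 2, 0, 2, 2, 2, 2, 2, 2, 0, 2, 2, 2],
  .step 242 7 [17] [0, 2, 2, 0, 2, 0, 2, 0, 3, 3, 3, 3, 3, 0, 3, 1],
  .step 181 126 [10] [0, 2, 0, 3, 3, 3, 0, 3, 3, 0, 3, 3, 1],
  .step 19 126 [12] [0, 3, 0, 2, 2, 2, 0, 2, 2, 2, 2, 2, 2],
  .step 144 126 [13] [2, 2, 2, 0, 2, 2, 2, 1, 3, 3, 3],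
  .step 17 126 [16] [0, 2, 0, 2, 2, 0, 2, 2, 0, 2, 2, 1, 2, 2, 2],
  .step 116 126 [17] [2, 0, 3, 3, 0, 3, 3, 0],
  .step 209 189 [12] [0, 3, 0, 3, 0, 3, 3, 3, 3, 3, 0, 2, 2, 2],
  .step 39 242 [12] [2, 2, 0, 2, 0, 2, 2, 2, 0, 2],
  .step 168 242 [17] [0, 2, 0, 3, 3, 3, 3, 0, 3, 3, 0, 3, 3, 1, 3],
  .root 8 23 false [] [0, 0, 2, 2, 2, 2],
  .step 127 8 [14] [3, 3, 0, 3, 0, 2, 2, 2, 2, 1, 2, 2, 2],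
  .step 190 8 [16] [2, 0, 2, 0, 2, 2, 2, 2, 2, 2, 0, 2, 2, 2],
  .step 241 8 [17] [0, 2, 2, 0, 2, 0, 2, 0, 3, 3, 3, 3, 3, 0, 3, 1],
  .step 180 127 [10] [0, 2, 0, 3, 3, 3, 0, 3, 3, 0, 3, 3, 1],
  .step 20 127 [12] [0, 3, 0, 2, 2, 2, 0, 2, 2, 2, 2, 2, 2],
  .step 143 127 [13] [2, 2, 2, 0, 2, 2, 2, 1, 3, 3, 3],
  .step 16 127 [16] [0, 2, 0, 2, 2, 0, 2, 2, 0, 2, 2, 1, 2, 2, 2],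
  .step 115 127 [17] [2, 0, 3, 3, 0, 3, 3, 0],
  .step 210 190 [12] [0, 3, 0, 3, 0, 3, 3, 3, 3, 3, 0, 2, 2, 2],
  .step 38 241 [12] [2, 2, 0, 2, 0, 2, 2, 2, 0, 2],
  .step 169 241 [17] [0, 2, 0, 3, 3, 3, 3, 0, 3, 3, 0, 3, 3, 1, 3],
  .root 1 32 false [] [],
  .step 227 1 [10] [0, 2, 0, 2, 2, 0, 2, 2, 2, 1],
  .step 152 1 [12] [2, 0, 2, 2, 0, 2, 2, 2, 2, 2, 2, 0, 3],
  .step 120 1 [13] [0, 2, 2, 2, 0, 2, 2, 2, 0, 3, 3],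
  .step 94 1 [14] [2, 2, 0, 3, 3, 3, 0, 2, 2, 2, 0, 3],
  .step 123 1 [16] [2, 0, 2, 2, 0, 3, 3, 3, 0, 3],
  .step 9 1 [17] [0, 3, 3, 0, 3, 3, 3, 0, 2, 2],
  .step 208 227 [13] [0, 2, 2, 0, 2, 2, 2, 2, 0, 3, 3, 3, 3],
  .step 184 227 [14] [2, 0, 2, 2, 2, 2, 0, 2, 0, 3, 3, 3, 1],
  .step 61 227 [16] [0, 2, 0, 2, 0, 2, 2, 2, 2, 2, 2, 0, 2, 0, 2],
  .step 133 152 [12] [0, 3, 0, 3, 0, 3, 3, 0, 3, 3, 1, 2, 2],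
  .step 50 152 [14] [0, 2, 2, 2, 0, 2, 2, 2, 2, 2, 1, 2, 2, 2],
  .step 24 152 [16] [3, 3, 0, 2, 2, 2, 2, 2, 0, 2, 1, 3, 3],
  .step 57 152 [17] [2, 2, 2, 0, 2, 2, 0, 2, 2, 2, 2, 1, 3],
  .step 117 120 [10] [2, 0, 3, 3, 3, 0, 3, 3, 1, 3, 3, 3],
  .step 104 120 [13] [0, 2, 0, 3, 3, 3, 0, 2, 2, 2, 1, 2, 2],
  .step 21 120 [14] [0, 2, 2, 0, 2, 2, 2, 0, 2, 1, 2, 2],
  .step 66 94 [12] [2, 0, 2, 2, 2, 2, 0, 2, 2, 0, 2],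
  .step 60 94 [16] [3, 0, 3, 3, 3, 0],
  .step 138 123 [10] [0, 3, 0, 3, 3, 3, 3, 0, 3, 3, 1, 3, 3, 3],
  .step 245 123 [13] [2, 2, 0, 2, 2, 2, 2, 0, 2, 2, 0, 3, 3, 3, 3],
  .step 110 123 [14] [0, 2, 0, 3, 3, 0, 3, 3, 0, 3, 3, 1, 3],
  .step 83 9 [10] [2, 2, 0, 3, 3, 3, 3, 0, 3, 3, 0, 3, 1, 2],
  .step 73 9 [12] [2, 0, 2, 0, 3, 3, 3, 3, 1, 3, 3],
  .step 218 208 [14] [2, 2, 0, 2, 0, 3, 3, 3, 1, 2, 2],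
  .step 207 184 [16] [0, 3, 0, 3, 3, 0, 3, 3, 0, 3, 3, 0, 2],
  .step 179 61 [10] [0, 2, 2, 0, 2, 0, 2, 0, 3, 3, 3, 3, 0, 3, 3],
  .step 35 61 [12] [3, 3, 3, 0, 3, 3, 0, 3, 1, 3],
  .step 170 61 [13] [2, 0, 2, 2, 2, 2, 2, 2, 0, 2, 0, 2, 2],
  .step 15 133 [14] [0, 2, 0, 2, 2, 0, 2, 2, 2, 0, 2, 1, 3, 3, 3],
  .step 12 50 [13] [3, 0, 3, 3, 3, 0, 3],
  .step 43 50 [16] [0, 2, 2, 0, 2, 2, 2, 0, 2, 0, 3, 3, 3, 0],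
  .step 86 50 [17] [3, 3, 3, 3, 3, 0, 3, 1, 3],
  .step 40 57 [12] [2, 0, 2, 2, 0, 2, 2, 2, 2, 2, 2, 0, 3],
  .step 101 104 [10] [2, 0, 3, 3, 3, 0, 3, 3, 1, 3, 3, 3],
  .step 206 60 [12] [0, 2, 0, 3, 3, 3, 0, 3, 3, 3, 3, 3, 0, 3, 0, 3],
  .root 10 33 false [] [],
  .step 237 10 [10] [0, 2, 0, 2, 2, 0, 2, 2, 2, 1],
  .step 188 10 [12] [2, 0, 2, 2, 0, 2, 2, 2, 2, 2, 2, 0, 3],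
  .step 160 10 [13] [0, 2, 2, 2, 0, 2, 2, 2, 0, 3, 3],
  .step 130 10 [14] [2, 2, 0, 3, 3, 3, 0, 2, 2, 2, 0, 3],
  .step 161 10 [16] [2, 0, 2, 2, 0, 3, 3, 3, 0, 3],
  .step 26 10 [17] [0, 3, 3, 0, 3, 3, 3, 0, 2, 2],
  .step 25 237 [12] [3, 0, 2, 2, 0, 2, 2, 2, 2, 0, 3, 3],
  .step 225 237 [13] [0, 2, 2, 0, 2, 2, 2, 2, 0, 3, 3, 3, 3],
  .step 204 237 [14] [2, 0, 2, 2, 2, 2, 0, 2, 0, 3, 3, 3, 1],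
  .step 100 237 [16] [0, 2, 0, 2, 0, 2, 2, 2, 2, 2, 2, 0, 2, 0, 2],
  .step 226 237 [17] [3, 3, 3, 0, 2, 2, 2, 1, 3, 3, 3],
  .step 172 188 [12] [0, 3, 0, 3, 0, 3, 3, 0, 3, 3, 1, 2, 2],
  .step 76 188 [14] [0, 2, 2, 2, 0, 2, 2, 2, 2, 2, 1, 2, 2, 2],
  .step 47 188 [16] [3, 3, 0, 2, 2, 2, 2, 2, 0, 2, 1, 3, 3],
  .step 81 188 [17] [2, 2, 2, 0, 2, 2, 0, 2, 2, 2, 2, 1, 3],
  .step 156 160 [10] [2, 0, 3, 3, 3, 0, 3, 3, 1, 3, 3, 3],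
  .step 140 160 [13] [0, 2, 0, 3, 3, 3, 0, 2, 2, 2, 1, 2, 2],
  .step 48 160 [14] [0, 2, 2, 0, 2, 2, 2, 0, 2, 1, 2, 2],
  .step 171 160 [17] [0, 2, 0, 3, 3, 3, 0, 3, 3, 0, 3, 3, 1],
  .step 97 130 [12] [2, 0, 2, 2, 2, 2, 0, 2, 2, 0, 2],
  .step 46 130 [13] [2, 2, 0, 2, 0, 2, 2, 2, 1, 2],
  .step 87 130 [16] [3, 0, 3, 3, 3, 0],
  .step 139 130 [17] [0, 3, 3, 0, 3, 0, 2, 2, 2, 2, 0, 2, 2, 0],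
  .step 175 161 [10] [0, 3, 0, 3, 3, 3, 3, 0, 3, 3, 1, 3, 3, 3],
  .step 249 161 [13] [2, 2, 0, 2, 2, 2, 2, 0, 2, 2, 0, 3, 3, 3, 3],
  .step 150 161 [14] [0, 2, 0, 3, 3, 0, 3, 3, 0, 3, 3, 1, 3],
  .step 151 161 [16] [2, 2, 1, 2, 2, 2, 2, 2, 2],
  .step 111 26 [10] [2, 2, 0, 3, 3, 3, 3, 0, 3, 3, 0, 3, 1, 2],
  .step 106 26 [12] [2, 0, 2, 0, 3, 3, 3, 3, 1, 3, 3],
  .step 238 26 [13] [2, 2, 0, 3, 3, 3, 3, 0, 3, 3, 1, 2],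
  .step 112 25 [10] [2, 2, 0, 3, 3, 3, 3, 0, 3, 3, 0, 3, 1, 2],
  .step 105 25 [12] [2, 0, 2, 0, 3, 3, 3, 3, 1, 3, 3],
  .step 11 25 [16] [0, 3, 0, 3, 3, 0, 3, 3, 1, 2],
  .step 159 25 [17] [0, 3, 3, 3, 0, 2, 2, 2, 1, 2, 2, 2, 2],
  .step 232 225 [14] [2, 2, 0, 2, 0, 3, 3, 3, 1, 2, 2],
  .step 98 225 [17] [0, 3, 3, 0, 3, 0, 2, 2, 2, 2, 0, 2],
  .step 220 204 [16] [0, 3, 0, 3, 3, 0, 3, 3, 0, 3, 3, 0, 2],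
  .step 198 100 [10] [0, 2, 2, 0, 2, 0, 2, 0, 3, 3, 3, 3, 0, 3, 3],
  .step 79 100 [12] [3, 3, 3, 0, 3, 3, 0, 3, 1, 3],
  .step 193 100 [13] [2, 0, 2, 2, 2, 2, 2, 2, 0, 2, 0, 2, 2],
  .step 203 226 [13] [3, 0, 3, 3, 3, 0, 3, 0, 3, 3],
  .step 233 226 [14] [2, 2, 0, 2, 0, 3, 3, 3, 1, 2, 2],
  .step 53 172 [14] [0, 2, 0, 2, 2, 0, 2, 2, 2, 0, 2, 1, 3, 3, 3],
  .step 88 76 [12] [0, 2, 0, 2, 2, 2, 2, 2, 0, 2, 2, 0, 2, 0, 3],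
  .step 29 76 [13] [3, 0, 3, 3, 3, 0, 3],
  .step 72 76 [16] [0, 2, 2, 0, 2, 2, 2, 0, 2, 0, 3, 3, 3, 0],
  .step 118 76 [17] [3, 3, 3, 3, 3, 0, 3, 1, 3],
  .step 129 47 [12] [3, 0, 3, 3, 3, 0, 3, 0, 3, 3],
  .step 71 81 [12] [2, 0, 2, 2, 0, 2, 2, 2, 2, 2, 2, 0, 3],
  .step 55 81 [13] [2, 0, 2, 2, 2, 1, 2],
  .step 30 81 [14] [2, 2, 2, 0, 3, 3, 3, 1, 2, 2],
  .step 78 156 [13] [3, 0, 3, 3, 0, 2, 2, 2, 2, 2, 2, 0, 2, 1],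
  .step 135 140 [10] [2, 0, 3, 3, 3, 0, 3, 3, 1, 3, 3, 3],
  .step 99 140 [14] [2, 0, 2, 2, 0, 2, 2, 0, 2, 2, 2, 2, 0],
  .step 70 48 [12] [0, 2, 2, 2, 2, 2, 2, 0, 3, 3, 3, 0],
  .step 176 48 [13] [2, 2, 0, 2, 2, 0, 2, 2, 1, 3, 3],
  .step 187 171 [13] [0, 3, 3, 0, 2, 2, 2, 2, 0, 2, 0, 2, 0],
  .step 219 171 [17] [0, 2, 0, 2, 2, 0, 2, 2, 2, 2, 0, 2],
  .step 197 97 [12] [3, 0, 2, 2, 2, 2, 0],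
  .step 119 46 [13] [0, 2, 2, 0, 2, 0, 2, 2, 2, 2, 1, 2],
  .step 49 46 [16] [0, 2, 0, 3, 3, 3, 3, 3, 0],
  .step 215 87 [12] [0, 2, 0, 3, 3, 3, 0, 3, 3, 3, 3, 3, 0, 3, 0, 3],
  .step 77 87 [13] [0, 2, 0, 3, 3, 3, 0, 3, 3, 3, 3, 3, 0, 3, 1],
  .step 134 139 [10] [2, 0, 3, 3, 3, 0, 3, 3, 1, 3, 3, 3],
  .step 162 150 [17] [2, 2, 2, 2, 2, 2, 0, 3, 3],
  .step 214 151 [13] [0, 3, 3, 3, 0, 3, 1, 2, 2, 2, 2],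
  .step 155 111 [13] [3, 3, 3, 3, 0, 3, 3, 0, 3, 0, 2],
  .step 248 111 [16] [0, 2, 0, 2, 2, 0, 2, 2, 0, 2, 2, 2, 2, 2, 1],
  .step 194 106 [17] [2, 2, 0, 2, 0, 2, 0, 3, 3, 3, 3],
  .step 69 105 [10] [3, 0, 3, 0, 2, 2, 2, 2, 0, 2, 2, 1, 2, 2],
  .step 82 53 [12] [3, 0, 3, 3, 3, 1, 3],
  .root 22 48 false [] [],
  .step 240 22 [10] [2, 0, 2, 2, 0, 2, 2, 2, 1],
  .step 186 22 [12] [0, 2, 0, 2, 2, 0, 2, 2, 2, 2, 2, 2, 1, 3],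
  .step 158 22 [13] [2, 2, 2, 0, 2, 2, 2, 0, 3, 3],
  .step 131 22 [14] [0, 2, 2, 0, 3, 3, 3, 0, 2, 2, 2, 1, 3],
  .step 165 22 [16] [0, 2, 0, 2, 2, 0, 3, 3, 3, 1, 3],
  .step 45 22 [17] [0, 3, 0, 2, 2, 0, 2, 2, 1, 2],
  .step 44 240 [12] [2, 2, 2, 0, 2, 2, 2, 2, 2, 2, 1, 2, 2],
  .step 223 240 [13] [0, 2, 2, 0, 2, 2, 2, 2, 0, 3, 3, 3, 3],
  .step 202 240 [14] [2, 0, 2, 2, 2, 2, 0, 2, 0, 3, 3, 3, 1],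
  .step 93 240 [16] [0, 2, 0, 2, 0, 2, 2, 2, 2, 2, 2, 0, 2, 0, 2],
  .step 224 240 [17] [3, 3, 3, 0, 2, 2, 2, 1, 3, 3, 3],
  .step 173 186 [12] [0, 3, 0, 3, 0, 3, 3, 0, 3, 3, 1, 2, 2],
  .step 74 186 [14] [0, 2, 2, 2, 0, 2, 2, 2, 2, 2, 1, 2, 2, 2],
  .step 68 186 [16] [3, 3, 0, 2, 2, 2, 2, 0, 2, 0, 2, 1, 3, 3],
  .step 85 186 [17] [2, 2, 2, 0, 2, 2, 0, 2, 2, 2, 2, 1, 3],
  .step 154 158 [10] [2, 0, 3, 3, 3, 0, 3, 3, 1, 3, 3, 3],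
  .step 141 158 [13] [0, 2, 0, 3, 3, 3, 0, 2, 2, 2, 1, 2, 2],
  .step 41 158 [14] [0, 2, 2, 0, 2, 2, 2, 0, 2, 1, 2, 2],
  .step 174 158 [17] [0, 2, 0, 3, 3, 3, 0, 3, 3, 0, 3, 3, 1],
  .step 95 131 [12] [2, 0, 2, 2, 2, 2, 0, 2, 2, 0, 2],
  .step 67 131 [13] [2, 2, 0, 2, 0, 2, 2, 2, 0, 2, 1],
  .step 90 131 [16] [3, 0, 3, 3, 3, 0],
  .step 142 131 [17] [0, 3, 3, 0, 3, 0, 2, 2, 2, 2, 0, 2, 2, 0],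
  .step 178 165 [10] [0, 3, 0, 3, 3, 3, 3, 0, 3, 3, 1, 3, 3, 3],
  .step 247 165 [13] [2, 2, 0, 2, 2, 2, 2, 0, 2, 2, 0, 3, 3, 3, 3],
  .step 148 165 [14] [0, 2, 0, 3, 3, 0, 3, 3, 0, 3, 3, 1, 3],
  .step 149 165 [16] [2, 2, 1, 2, 2, 2, 2, 2, 2],
  .step 114 45 [10] [0, 2, 2, 0, 3, 3, 3, 3, 0, 3, 3, 0, 3, 0, 2],
  .step 103 45 [12] [0, 2, 0, 2, 0, 3, 3, 3, 3, 0, 3, 3],
  .step 239 45 [13] [0, 2, 2, 0, 3, 3, 3, 3, 0, 3, 3, 0, 2],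
  .step 113 44 [10] [0, 2, 2, 0, 3, 3, 3, 3, 0, 3, 3, 0, 3, 0, 2],
  .step 102 44 [12] [0, 2, 0, 2, 0, 3, 3, 3, 3, 0, 3, 3],
  .step 23 44 [16] [0, 3, 3, 0, 2, 2, 2, 1, 2, 2],
  .step 157 44 [17] [3, 3, 3, 0, 2, 2, 2, 1, 2, 2, 2, 2],
  .step 235 223 [14] [2, 2, 0, 2, 0, 3, 3, 3, 1, 2, 2],
  .step 96 223 [17] [0, 3, 3, 0, 3, 0, 2, 2, 2, 2, 0, 2],
  .step 221 202 [16] [0, 3, 0, 3, 3, 0, 3, 3, 0, 3, 3, 0, 2],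
  .step 199 93 [10] [0, 2, 2, 0, 2, 0, 2, 0, 3, 3, 3, 3, 0, 3, 3],
  .step 59 93 [12] [3, 3, 3, 0, 3, 3, 0, 3, 1, 3],
  .step 196 93 [13] [2, 0, 2, 2, 2, 2, 2, 2, 0, 2, 0, 2, 2],
  .step 201 224 [13] [3, 0, 3, 3, 3, 0, 3, 0, 3, 3],
  .step 234 224 [14] [2, 2, 0, 2, 0, 3, 3, 3, 1, 2, 2],
  .step 36 173 [14] [0, 2, 0, 2, 2, 0, 2, 2, 2, 0, 2, 1, 3, 3, 3],
  .step 89 74 [12] [0, 2, 0, 2, 2, 2, 2, 2, 0, 2, 2, 0, 2, 0, 3],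
  .step 51 74 [13] [3, 0, 3, 3, 3, 0, 3, 0],
  .step 65 74 [16] [0, 2, 2, 0, 2, 2, 2, 0, 2, 0, 3, 3, 3, 0],
  .step 122 74 [17] [3, 3, 3, 3, 3, 0, 3, 1, 3],
  .step 132 68 [12] [0, 3, 0, 3, 3, 3, 0, 3, 1, 3, 3],
  .step 63 85 [12] [2, 0, 2, 2, 0, 2, 2, 2, 2, 2, 2, 0, 3],
  .step 37 85 [13] [2, 0, 2, 2, 2, 1, 2],
  .step 52 85 [14] [2, 2, 0, 2, 0, 3, 3, 3, 1, 2, 2],
  .step 58 154 [13] [3, 0, 3, 3, 0, 2, 2, 2, 2, 2, 2, 0, 2, 1],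
  .step 136 141 [10] [2, 0, 3, 3, 3, 0, 3, 3, 1, 3, 3, 3],
  .step 92 141 [14] [2, 0, 2, 2, 0, 2, 2, 0, 2, 2, 2, 2, 0],
  .step 64 41 [12] [0, 2, 2, 2, 2, 2, 2, 0, 3, 3, 3, 0],
  .step 177 41 [13] [2, 2, 0, 2, 2, 0, 2, 2, 1, 3, 3],
  .step 185 174 [13] [0, 3, 3, 0, 2, 2, 2, 2, 0, 2, 0, 2, 0],
  .step 222 174 [17] [0, 2, 0, 2, 2, 0, 2, 2, 2, 2, 0, 2],
  .step 200 95 [12] [3, 0, 2, 2, 2, 2, 0],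
  .step 121 67 [13] [2, 2, 0, 2, 0, 2, 2, 2, 2, 1, 2],
  .step 42 67 [16] [2, 0, 3, 3, 3, 3, 3, 0],
  .step 216 90 [12] [0, 2, 0, 3, 3, 3, 0, 3, 3, 3, 3, 3, 0, 3, 0, 3],
  .step 75 90 [13] [0, 2, 0, 3, 3, 3, 0, 3, 3, 3, 3, 3, 0, 3, 1],
  .step 137 142 [10] [2, 0, 3, 3, 3, 0, 3, 3, 1, 3, 3, 3],
  .step 164 148 [17] [2, 2, 2, 2, 2, 2, 0, 3, 3],
  .step 217 149 [13] [0, 3, 3, 3, 0, 3, 1, 2, 2, 2, 2],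
  .step 153 114 [13] [3, 3, 3, 3, 0, 3, 3, 0, 3, 0, 2],
  .step 246 114 [16] [0, 2, 0, 2, 2, 0, 2, 2, 0, 2, 2, 2, 2, 2, 1],
  .step 195 103 [17] [2, 2, 0, 2, 0, 2, 0, 3, 3, 3, 3],
  .step 62 102 [10] [3, 0, 3, 0, 2, 2, 2, 2, 0, 2, 2, 1, 2, 2],
  .step 84 36 [12] [3, 0, 3, 3, 3, 1, 3]]

/-- the cover of node 3 -/
def cv3 : List Cv := [
  .root 0 12 true [] [],
  .step 14 0 [22] [0, 2, 0, 2, 0, 3, 3, 3, 3, 3],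
  .root 4 13 true [] [],
  .step 2 4 [22] [0, 2, 0, 2, 0, 3, 3, 3, 3, 3],
  .root 7 14 true [] [0, 0, 2, 2, 2, 2],
  .step 27 7 [22] [2, 0, 2, 0, 3, 3, 3, 3, 3, 0],
  .root 8 15 false [] [0, 0, 2, 2, 2, 2],
  .step 13 8 [22] [2, 0, 2, 0, 3, 3, 3, 3, 3],
  .root 34 16 false [] [2, 0, 2, 2, 2, 0, 2, 0, 3, 3, 3, 0, 2],
  .step 166 34 [20] [0, 2, 0, 2, 2, 2, 2, 2, 0, 2, 2, 0, 2, 0, 3],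
  .step 124 34 [21] [2, 2, 2, 2, 0, 2, 2, 0, 3, 3, 3, 1, 2],
  .step 107 34 [22] [0, 2, 2, 2, 2, 2, 0, 2, 2, 0],
  .step 91 34 [23] [3, 3, 0, 3, 3, 3, 0, 3, 3, 0, 3],
  .step 145 166 [18] [0, 2, 0, 2, 2, 0, 3, 3, 3, 3, 3, 0, 2],
  .step 182 166 [20] [3, 3, 0, 2, 2, 2, 2, 0, 2, 1, 2],
  .step 128 166 [22] [0, 3, 3, 0, 3, 3, 0, 3, 1, 3, 3, 3],
  .step 6 124 [22] [2, 0, 2, 2, 0, 2, 2, 2, 1, 2, 2],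
  .step 147 124 [23] [2, 2, 0, 2, 0, 2, 2, 2, 0, 2, 0, 2, 2],
  .root 161 17 false [] [0, 2, 1, 2, 2],
  .step 175 161 [18] [0, 3, 0, 3, 3, 3, 3, 0, 3, 3, 1, 3, 3, 3],
  .step 249 161 [21] [2, 2, 0, 2, 2, 2, 2, 0, 2, 2, 0, 3, 3, 3, 3],
  .step 205 161 [22] [3, 0, 2, 2, 2, 0, 3, 3, 3, 1, 3],
  .step 163 161 [23] [0, 2, 0, 2, 0, 2, 0, 3, 3, 3, 3, 0, 3],
  .step 49 175 [20] [0, 2, 2, 0, 3, 3, 3, 3, 0, 3, 3],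
  .step 80 175 [22] [0, 3, 3, 3, 0, 3, 3, 1, 3, 3, 3, 3],
  .step 236 175 [23] [2, 2, 2, 0, 2, 2, 0, 2, 2, 2, 2, 0, 2],
  .step 72 249 [21] [3, 3, 0, 2, 2, 2, 1, 3],
  .step 18 249 [22] [2, 0, 2, 2, 2, 2, 2, 2, 0, 2, 2, 0],
  .step 5 236 [18] [0, 3, 3, 3, 0, 3, 3, 0, 3, 1],
  .step 233 72 [18] [3, 0, 3, 0, 2, 2, 2, 2, 2, 0, 2, 0, 3, 3, 3],
  .root 168 18 false [] [2, 2, 0, 2, 2, 2, 2, 2, 0, 2, 0, 2],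
  .step 144 168 [18] [0, 2, 0, 2, 2, 0, 3, 3, 3, 3, 3, 0, 2],
  .step 181 168 [20] [3, 3, 0, 2, 2, 2, 2, 0, 2, 1, 2],
  .step 19 168 [21] [0, 2, 0, 3, 3, 3, 0, 3, 3, 3, 3, 3, 0, 3, 1],
  .step 126 144 [20] [2, 2, 2, 0, 3, 3, 3, 1, 3, 3, 3],
  .root 230 19 false [] [0, 2, 0, 2, 0, 2, 2, 2, 2, 0, 3, 3, 3, 3],
  .step 213 230 [22] [0, 2, 0, 2, 0, 2, 2, 2, 0, 2, 2, 0, 2, 0],
  .root 229 20 false [] [],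
  .root 228 21 false [] [0, 3, 0, 3, 0, 2, 2, 2, 2, 0, 2, 2, 2, 0],
  .step 231 228 [22] [0, 2, 0, 2, 0, 2, 2, 2, 0, 2, 2, 0, 2, 0],
  .root 3 24 false [] [],
  .step 28 3 [22] [0, 2, 0, 2, 0, 3, 3, 3, 3, 3, 0],
  .root 138 36 false [] [0, 3, 0, 2, 2, 2, 2, 0, 2, 2, 1, 2, 2],
  .step 123 138 [18] [2, 2, 2, 0, 2, 2, 0, 2, 2, 2, 2, 0, 2, 1],
  .step 21 138 [20] [0, 2, 2, 0, 3, 3, 3, 3, 0, 3, 3],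
  .step 108 138 [22] [0, 3, 3, 3, 0, 3, 3, 1, 3, 3, 3, 3],
  .step 244 138 [23] [2, 2, 2, 0, 2, 2, 0, 2, 2, 2, 2, 0, 2],
  .step 245 123 [21] [2, 2, 0, 2, 2, 2, 2, 0, 2, 2, 0, 3, 3, 3, 3],
  .step 211 123 [22] [3, 0, 2, 2, 2, 0, 3, 3, 3, 1, 3],
  .step 191 123 [23] [0, 2, 0, 2, 0, 2, 0, 3, 3, 3, 3, 0, 3],
  .step 43 21 [20] [0, 2, 2, 2, 2, 2, 2, 0, 3, 3, 3, 0],
  .step 56 108 [21] [0, 3, 0, 2, 2, 2, 2, 0, 2, 0, 2, 1, 3],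
  .step 33 244 [18] [0, 3, 3, 3, 0, 3, 3, 0, 3, 1],
  .step 218 43 [18] [3, 0, 3, 0, 2, 2, 2, 2, 2, 0, 2, 0, 3, 3, 3],
  .root 101 37 true [] [3, 3, 0, 3, 0, 2, 2, 2, 2, 0, 2, 2, 1],
  .step 104 101 [18] [2, 2, 2, 0, 2, 2, 0, 2, 2, 2, 0, 3],
  .step 15 101 [20] [2, 2, 2, 2, 2, 1, 2, 2, 2],
  .step 207 101 [21] [2, 2, 2, 0, 2, 1, 2, 2],
  .step 79 101 [22] [0, 2, 2, 0, 2, 2, 0, 3, 3, 3, 0, 2, 2],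
  .step 118 101 [23] [2, 2, 2, 0, 2, 2, 0, 3],
  .step 120 104 [20] [0, 3, 0, 2, 2, 0, 2, 2, 0, 2, 2, 0, 3],
  .step 133 104 [21] [0, 2, 2, 0, 2, 2, 2, 0, 2, 0, 3, 3],
  .step 106 104 [22] [0, 2, 0, 2, 0, 2, 2, 2, 2, 1, 2, 2, 2],
  .step 238 104 [23] [2, 2, 2, 0, 2, 2, 2, 0, 3, 3, 3, 3],
  .step 66 15 [18] [2, 2, 0, 3, 3, 3, 3, 0, 3, 3, 0, 3, 0, 2],
  .step 57 15 [20] [3, 0, 3, 3, 3, 1, 3],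
  .step 193 15 [22] [2, 0, 3, 3, 0, 3, 3, 3, 3, 3, 1],
  .step 129 15 [23] [0, 2, 2, 0, 2, 0, 2, 2, 2, 2, 0, 2, 2],
  .step 40 207 [21] [0, 2, 2, 2, 0, 2, 2, 2, 2, 2, 0, 3, 3],
  .step 111 207 [22] [0, 3, 0, 3, 3, 0, 3, 0, 3, 3, 3, 3],
  .step 98 207 [23] [3, 3, 3, 3, 3, 0, 2, 2, 2, 2, 0],
  .step 215 79 [18] [0, 2, 0, 2, 0, 2, 0, 3, 3, 3, 0, 2, 2],
  .step 155 79 [20] [0, 3, 0, 2, 2, 2, 2, 2, 2, 0, 2, 2, 1, 2],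
  .step 100 79 [21] [2, 0, 2, 0, 2, 2, 0, 2, 2, 2],
  .step 50 79 [22] [0, 2, 2, 2, 2, 0, 2, 0, 2, 1, 3, 3],
  .step 81 118 [18] [3, 0, 3, 0, 2, 2, 2, 2, 0, 2, 2, 1, 2, 2],
  .step 47 118 [20] [0, 2, 0, 2, 0, 2, 2, 2, 2, 2, 0, 3],
  .step 198 118 [21] [0, 0, 2, 2, 2, 2],
  .step 117 120 [18] [2, 0, 3, 3, 3, 0, 3, 3, 1, 3, 3, 3],
  .step 1 120 [20] [0, 2, 0, 2, 2, 2, 0, 2, 0, 3, 3],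
  .step 110 133 [18] [0, 2, 0, 2, 0, 2, 0, 3, 3, 3, 1, 2, 2],
  .step 152 133 [21] [0, 3, 3, 0, 2, 2, 2, 2, 0, 2, 0, 2, 0],
  .step 226 133 [22] [2, 0, 3, 3, 3, 3, 3, 1, 2, 2, 2],
  .step 203 133 [23] [3, 0, 2, 2, 0, 2, 2, 0, 2, 2, 2, 0, 3],
  .step 71 106 [18] [3, 0, 3, 0, 2, 2, 2, 2, 0, 2, 2, 1, 2, 2],
  .step 26 106 [21] [2, 2, 0, 2, 2, 2, 0, 2, 0, 3, 3],
  .step 11 238 [18] [0, 3, 3, 3, 0, 3, 3, 0, 3, 1],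
  .step 179 66 [20] [3, 0, 2, 2, 2, 2, 0],
  .step 94 66 [21] [3, 0, 3, 3, 0, 3, 3, 3, 3, 1, 3],
  .step 220 66 [22] [0, 3, 3, 3, 3, 0, 2, 2, 2, 2, 2],
  .step 87 66 [23] [3, 0, 3, 0, 3, 0, 2, 2, 2, 2, 0],
  .step 86 57 [18] [3, 3, 0, 3, 3, 0, 3, 3, 3, 0, 3, 1, 2, 2],
  .step 12 193 [22] [2, 0, 3, 3, 0, 3, 3, 3, 0, 3, 3, 0, 3, 3],
  .step 187 129 [18] [0, 3, 0, 3, 0, 2, 2, 2, 0, 3, 3, 3, 1],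
  .step 73 40 [18] [3, 3, 0, 3, 3, 0, 3, 3, 3, 0, 3, 1, 2, 2],
  .step 60 111 [22] [0, 2, 0, 2, 2, 2, 2, 2, 0, 2, 2, 1],
  .step 55 98 [18] [0, 2, 2, 0, 2, 2, 2, 2, 0, 3, 3, 3, 0, 2],
  .step 150 215 [20] [3, 3, 3, 0, 3, 0, 2, 2, 2, 2, 0],
  .step 24 215 [22] [3, 3, 3, 0, 3, 3, 3, 0, 3, 1, 2, 2],
  .step 61 215 [23] [3, 3, 3, 3, 0, 2, 2, 2, 0],
  .step 159 155 [18] [2, 2, 2, 0, 2, 2, 0, 2, 2, 2, 0, 3],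
  .step 206 100 [22] [0, 3, 3, 3, 0, 2, 2, 2, 2],
  .step 184 50 [18] [3, 3, 0, 3, 0, 3, 3, 1],
  .step 83 117 [20] [0, 3, 0, 2, 2, 2, 1, 2, 2, 2, 2],
  .step 35 117 [21] [3, 0, 3, 3, 0, 2, 2, 2, 2, 2, 2, 0, 2, 1],
  .step 227 1 [18] [0, 2, 0, 2, 2, 0, 2, 2, 2, 1],
  .step 77 203 [18] [0, 2, 2, 0, 2, 0, 2, 2],
  .step 208 11 [23] [2, 0, 2, 2, 0, 2, 0],
  .step 30 94 [23] [0, 3, 0, 2, 2, 2, 0, 2, 2, 2, 0, 2, 0, 3],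
  .step 134 220 [20] [3, 3, 0, 3, 1, 3, 3, 3],
  .step 171 187 [20] [0, 3, 0, 3, 0, 3, 3, 0, 3, 3, 1, 2, 2],
  .step 9 187 [22] [0, 2, 0, 2, 2, 2, 2, 0, 2, 2, 2],
  .step 139 73 [23] [0, 3, 0, 3, 0, 2, 2, 2, 2, 2, 2, 0, 2],
  .step 170 60 [18] [3, 3, 0, 3, 0, 3, 3, 0],
  .root 162 43 true [] [0, 2, 0, 2, 2, 1, 2, 2, 2],
  .step 176 162 [18] [0, 3, 0, 3, 3, 3, 3, 0, 3, 3, 1, 3, 3, 3],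
  .step 248 162 [21] [2, 2, 0, 2, 2, 2, 2, 0, 2, 2, 0, 3, 3, 3, 3],
  .step 209 162 [22] [3, 0, 2, 2, 2, 0, 3, 3, 3, 1, 3],
  .step 189 162 [23] [0, 2, 0, 2, 0, 2, 0, 3, 3, 3, 3, 0, 3],
  .step 48 176 [20] [0, 2, 2, 0, 3, 3, 3, 3, 0, 3, 3],
  .step 116 176 [22] [0, 3, 3, 3, 0, 3, 3, 1, 3, 3, 3, 3],
  .step 242 176 [23] [2, 2, 2, 0, 2, 2, 0, 2, 2, 2, 2, 0, 2],
  .step 70 248 [21] [3, 3, 0, 2, 2, 2, 1, 3],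
  .step 39 248 [22] [2, 0, 2, 2, 2, 2, 2, 2, 0, 2, 2, 0],
  .step 17 242 [18] [0, 3, 3, 3, 0, 3, 3, 0, 3, 1],
  .step 232 70 [18] [3, 0, 3, 0, 2, 2, 2, 2, 2, 0, 2, 0, 3, 3, 3],
  .root 164 53 false [] [0, 3, 3, 0, 3, 3, 3, 0, 3],
  .step 177 164 [18] [0, 3, 0, 3, 3, 3, 3, 0, 3, 3, 1, 3, 3, 3],
  .step 246 164 [21] [2, 2, 0, 2, 2, 2, 2, 0, 2, 2, 0, 3, 3, 3, 3],
  .step 210 164 [22] [3, 0, 2, 2, 2, 0, 3, 3, 3, 1, 3],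
  .step 190 164 [23] [0, 2, 0, 2, 0, 2, 0, 3, 3, 3, 3, 0, 3],
  .step 41 177 [20] [0, 2, 2, 0, 3, 3, 3, 3, 0, 3, 3],
  .step 115 177 [22] [0, 3, 3, 3, 0, 3, 3, 1, 3, 3, 3, 3],
  .step 241 177 [23] [2, 2, 2, 0, 2, 2, 0, 2, 2, 2, 2, 0, 2],
  .step 64 246 [21] [3, 3, 0, 2, 2, 2, 1, 3],
  .step 38 246 [22] [2, 0, 2, 2, 2, 2, 2, 2, 0, 2, 2, 0],
  .step 16 241 [18] [0, 3, 3, 3, 0, 3, 3, 0, 3, 1],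
  .step 235 64 [18] [3, 0, 3, 0, 2, 2, 2, 2, 2, 0, 2, 0, 3, 3, 3],
  .root 109 61 true [] [3, 3, 0, 3, 3, 0, 2, 2, 2, 0, 3, 3],
  .step 192 109 [18] [0, 2, 2, 0, 2, 0, 2, 0, 3, 3, 3, 3, 1, 3, 3],
  .step 54 109 [21] [0, 3, 0, 2, 2, 2, 2, 0, 2, 0, 2, 1, 3],
  .step 42 109 [22] [0, 2, 0, 2, 2, 2, 2, 2, 0, 3, 3, 3, 0],
  .step 178 109 [23] [2, 2, 2, 2, 0, 2, 2, 0, 2, 2, 2, 0],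
  .step 212 192 [20] [0, 3, 0, 3, 0, 3, 3, 3, 3, 3, 0, 2, 2, 2],
  .step 165 192 [22] [0, 2, 2, 0, 3, 3, 3, 0, 3, 3, 3, 3, 0],
  .step 65 192 [23] [0, 3, 3, 3, 3, 3, 0, 2, 2, 2, 2, 2, 2, 1],
  .step 243 54 [21] [3, 0, 3, 3, 3, 0, 3, 1, 3, 3],
  .step 247 54 [22] [0, 2, 2, 2, 0, 2, 1, 3],
  .step 234 65 [18] [3, 0, 3, 0, 2, 2, 2, 2, 2, 0, 2, 0, 3, 3, 3],
  .step 31 243 [18] [0, 3, 3, 3, 0, 3, 3, 0, 3, 1],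
  .root 10 69 false [] [],
  .step 237 10 [18] [0, 2, 0, 2, 2, 0, 2, 2, 2, 1],
  .step 188 10 [20] [2, 0, 2, 2, 0, 2, 2, 2, 2, 2, 2, 0, 3],
  .step 160 10 [21] [0, 2, 2, 2, 0, 2, 2, 2, 0, 3, 3],
  .step 201 10 [22] [2, 0, 2, 0, 2, 2, 0, 2, 2, 2, 0, 2, 0],
  .step 224 10 [23] [2, 0, 2, 2, 0, 2, 0],
  .step 25 237 [20] [3, 0, 2, 2, 0, 2, 2, 2, 2, 0, 3, 3],
  .step 225 237 [21] [0, 2, 2, 0, 2, 2, 2, 2, 0, 3, 3, 3, 3],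
  .step 142 237 [22] [2, 2, 2, 2, 0, 3, 3, 3, 0, 3, 3, 3],
  .step 157 237 [23] [0, 2, 2, 2, 0, 2, 0, 2, 2, 2, 2, 2, 2],
  .step 130 188 [18] [0, 2, 0, 2, 0, 2, 0, 3, 3, 3, 0, 2, 2],
  .step 172 188 [20] [0, 3, 0, 3, 0, 3, 3, 0, 3, 3, 1, 2, 2],
  .step 45 188 [22] [0, 2, 0, 2, 2, 2, 2, 0, 2, 2, 2, 0],
  .step 156 160 [18] [2, 0, 3, 3, 3, 0, 3, 3, 1, 3, 3, 3],
  .step 140 160 [21] [0, 2, 0, 3, 3, 3, 0, 2, 2, 2, 1, 2, 2],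
  .step 239 160 [22] [2, 0, 3, 3, 3, 0, 3, 3, 3, 3, 3, 1, 2],
  .step 103 160 [23] [2, 2, 2, 0, 2, 2, 2, 0, 2, 0],
  .step 75 201 [18] [0, 2, 2, 0, 2, 0, 2, 2],
  .step 68 224 [18] [0, 3, 0, 3, 0, 2, 2, 2, 1, 3, 3, 3],
  .step 112 25 [18] [2, 2, 0, 3, 3, 3, 3, 0, 3, 3, 0, 3, 1, 2],
  .step 105 25 [20] [2, 0, 2, 0, 3, 3, 3, 3, 1, 3, 3],
  .step 185 25 [22] [0, 3, 3, 0, 3, 3, 0, 3, 3, 3, 0, 3, 3],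
  .step 46 225 [18] [0, 3, 0, 3, 0, 2, 2, 2, 0, 3, 3, 3, 0],
  .step 204 225 [21] [3, 0, 3, 3, 3, 0, 3, 0, 3, 3],
  .step 23 225 [22] [0, 3, 0, 3, 3, 0, 3, 1],
  .step 174 225 [23] [3, 3, 3, 0, 2, 2, 2, 2, 2, 1, 3],
  .step 137 142 [18] [2, 0, 3, 3, 3, 0, 3, 3, 1, 3, 3, 3],
  .step 153 157 [18] [2, 0, 3, 3, 3, 0, 3, 3, 1, 3, 3, 3],
  .step 97 130 [20] [2, 0, 2, 2, 2, 2, 0, 2, 2, 0, 2],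
  .step 37 130 [22] [0, 2, 0, 3, 3, 0, 3, 3, 3, 3, 3, 1, 3],
  .step 52 130 [23] [0, 3, 0, 2, 2, 2, 0, 2, 2, 2, 2, 1, 3],
  .step 151 172 [18] [0, 2, 0, 2, 0, 2, 0, 3, 3, 3, 1, 2, 2],
  .step 114 45 [18] [0, 2, 2, 0, 3, 3, 3, 3, 0, 3, 3, 0, 3, 0, 2],
  .step 78 156 [21] [3, 0, 3, 3, 0, 2, 2, 2, 2, 2, 2, 0, 2, 1],
  .step 148 156 [22] [3, 3, 0, 3, 3, 3, 3, 3, 0, 3, 1, 3],
  .step 85 156 [23] [0, 2, 0, 2, 0, 3, 3, 3, 3, 0, 3, 3, 3, 0, 2],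
  .step 135 140 [18] [2, 0, 3, 3, 3, 0, 3, 3, 1, 3, 3, 3],
  .step 63 103 [18] [3, 0, 3, 0, 2, 2, 2, 2, 0, 2, 2, 1, 2, 2],
  .step 90 75 [20] [0, 2, 0, 2, 2, 2, 2, 2, 0, 2, 2, 0, 2, 0, 3],
  .step 119 75 [22] [0, 3, 0, 3, 3, 0, 3, 3, 3, 0, 3, 1, 3],
  .step 132 68 [20] [0, 3, 0, 3, 3, 3, 0, 3, 1, 3, 3],
  .step 122 68 [21] [2, 2, 0, 2, 0, 2, 2, 2, 2, 1, 2],
  .step 69 68 [22] [3, 3, 0, 3, 3, 0, 3, 1],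
  .step 214 68 [23] [0, 3, 0, 3, 0, 2, 2, 2, 2, 1, 2, 2, 2],
  .step 194 112 [20] [0, 2, 2, 2, 2, 0, 2, 2, 2, 0, 2, 0, 2, 0],
  .step 221 112 [23] [2, 0, 2, 2, 2, 0, 2, 0, 2, 2, 0, 2],
  .step 216 46 [23] [3, 0, 3, 0, 2, 2, 2, 2, 0, 2, 2, 2],
  .step 76 204 [18] [0, 2, 2, 0, 2, 0, 2, 2],
  .step 59 153 [21] [3, 0, 3, 3, 0, 2, 2, 2, 2, 2, 2, 0, 2, 1],
  .step 82 153 [23] [0, 2, 0, 2, 0, 3, 3, 3, 3, 0, 3, 3, 3, 0, 2],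
  .step 53 97 [18] [0, 2, 2, 0, 2, 2, 2, 2, 0, 3, 3, 3, 0, 2],
  .step 197 97 [20] [3, 0, 2, 2, 2, 2, 0],
  .step 96 37 [18] [2, 2, 0, 3, 3, 3, 3, 0, 3, 3, 0, 3, 0, 2],
  .step 29 151 [20] [0, 2, 2, 2, 2, 2, 0, 2, 2, 2, 1],
  .step 199 151 [22] [2, 0, 2, 2, 0, 2, 2, 0, 2, 2, 0, 2, 1],
  .step 196 114 [20] [0, 2, 2, 2, 2, 0, 2, 2, 2, 0, 2, 0, 2, 0],
  .step 88 114 [22] [0, 2, 0, 2, 2, 2, 2, 2, 0, 2, 2, 1],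
  .step 219 114 [23] [2, 0, 2, 2, 2, 0, 2, 0, 2, 2, 0, 2],
  .step 99 78 [21] [2, 0, 2, 0, 2, 2, 0, 2, 2, 2],
  .step 93 69 [22] [0, 2, 2, 2, 1, 3],
  .root 20 120 false [] [],
  .step 169 20 [20] [0, 2, 0, 2, 2, 2, 2, 2, 0, 2, 2, 0, 2, 0, 3],
  .step 127 20 [21] [2, 2, 2, 2, 0, 2, 2, 0, 3, 3, 3, 1, 2],
  .step 146 20 [22] [0, 2, 2, 2, 2, 2, 0, 2, 2, 0],
  .step 125 20 [23] [3, 3, 0, 3, 3, 3, 0, 3, 3, 0, 3],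
  .step 143 169 [18] [0, 2, 0, 2, 2, 0, 3, 3, 3, 3, 3, 0, 2],
  .step 180 169 [20] [3, 3, 0, 2, 2, 2, 2, 0, 2, 1, 2],
  .step 167 169 [22] [0, 3, 3, 0, 3, 3, 0, 3, 1, 3, 3, 3],
  .step 32 127 [22] [2, 0, 2, 2, 0, 2, 2, 2, 1, 2, 2],
  .step 183 127 [23] [2, 2, 0, 2, 0, 2, 2, 2, 0, 2, 0, 2, 2],
  .root 22 131 false [] [],
  .step 240 22 [18] [2, 0, 2, 2, 0, 2, 2, 2, 1],
  .step 186 22 [20] [0, 2, 0, 2, 2, 0, 2, 2, 2, 2, 2, 2, 1, 3],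
  .step 158 22 [21] [2, 2, 2, 0, 2, 2, 2, 0, 3, 3],
  .step 202 22 [22] [0, 2, 0, 2, 0, 2, 2, 0, 2, 2, 2, 0, 2, 1],
  .step 223 22 [23] [0, 2, 0, 2, 2, 0, 2, 1],
  .step 44 240 [20] [2, 2, 2, 0, 2, 2, 2, 2, 2, 2, 1, 2, 2],
  .step 141 240 [22] [2, 2, 2, 2, 0, 3, 3, 3, 0, 3, 3, 3],
  .step 131 186 [18] [0, 2, 0, 2, 0, 2, 0, 3, 3, 3, 0, 2, 2],
  .step 173 186 [20] [0, 3, 0, 3, 0, 3, 3, 0, 3, 3, 1, 2, 2],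
  .step 154 158 [18] [2, 0, 3, 3, 3, 0, 3, 3, 1, 3, 3, 3],
  .step 102 158 [23] [2, 2, 2, 0, 2, 2, 2, 0, 2, 0],
  .step 74 202 [18] [0, 2, 2, 0, 2, 0, 2, 2],
  .step 67 223 [18] [0, 3, 0, 3, 0, 2, 2, 2, 1, 3, 3, 3],
  .step 113 44 [18] [0, 2, 2, 0, 3, 3, 3, 3, 0, 3, 3, 0, 3, 0, 2],
  .step 136 141 [18] [2, 0, 3, 3, 3, 0, 3, 3, 1, 3, 3, 3],
  .step 95 131 [20] [2, 0, 2, 2, 2, 2, 0, 2, 2, 0, 2],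
  .step 36 131 [22] [0, 2, 0, 3, 3, 0, 3, 3, 3, 3, 3, 1, 3],
  .step 51 131 [23] [0, 3, 0, 2, 2, 2, 0, 2, 2, 2, 2, 1, 3],
  .step 149 173 [18] [0, 2, 0, 2, 0, 2, 0, 3, 3, 3, 1, 2, 2],
  .step 58 154 [21] [3, 0, 3, 3, 0, 2, 2, 2, 2, 2, 2, 0, 2, 1],
  .step 84 154 [23] [0, 2, 0, 2, 0, 3, 3, 3, 3, 0, 3, 3, 3, 0, 2],
  .step 62 102 [18] [3, 0, 3, 0, 2, 2, 2, 2, 0, 2, 2, 1, 2, 2],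
  .step 89 74 [20] [0, 2, 0, 2, 2, 2, 2, 2, 0, 2, 2, 0, 2, 0, 3],
  .step 121 74 [22] [0, 3, 0, 3, 3, 0, 3, 3, 3, 0, 3, 1, 3],
  .step 217 67 [23] [0, 3, 0, 3, 0, 2, 2, 2, 2, 1, 2, 2, 2],
  .step 195 113 [20] [0, 2, 2, 2, 2, 0, 2, 2, 2, 0, 2, 0, 2, 0],
  .step 222 113 [23] [2, 0, 2, 2, 2, 0, 2, 0, 2, 2, 0, 2],
  .step 200 95 [20] [3, 0, 2, 2, 2, 2, 0],
  .step 92 58 [21] [2, 0, 2, 0, 2, 2, 0, 2, 2, 2]]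

/-- the cover of node 4 -/
def cv4 : List Cv := [
  .root 0 22 true [] [],
  .step 2 0 [30] [0, 3, 3, 3, 0, 3, 3, 0, 2, 2, 2, 1, 3, 3],
  .root 4 23 true [] [],
  .step 3 4 [24] [0, 0],
  .step 13 4 [30] [0, 3, 3, 3, 0, 3, 3, 0, 2, 2, 2, 1, 3, 3],
  .step 14 3 [30] [0, 3, 3, 3, 0, 3, 3, 0, 2, 2, 2, 1, 3, 3],
  .root 7 24 true [] [0, 0, 2, 2, 2, 2],
  .step 8 7 [24] [0, 0],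
  .step 28 7 [30] [2, 2, 2, 2, 0, 2, 0, 2, 0, 3, 3, 3, 3, 3],
  .step 27 8 [30] [2, 2, 2, 2, 0, 2, 0, 2, 0, 3, 3, 3, 3, 3],
  .root 6 25 false [] [2, 0, 2, 2, 2, 0, 2, 0, 3, 3, 3, 1, 2],
  .step 128 6 [28] [0, 2, 0, 2, 2, 2, 2, 2, 0, 2, 2, 0, 2, 1, 3],
  .step 91 6 [29] [2, 2, 2, 2, 0, 2, 2, 0, 3, 3, 3, 0, 2],
  .step 107 6 [31] [0, 2, 2, 2, 2, 2, 0, 2, 2, 0],
  .step 147 128 [28] [3, 3, 0, 2, 2, 2, 2, 0, 2, 0, 2],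
  .root 123 26 false [] [0, 2, 2, 0, 2, 2, 2, 2, 0, 2, 1, 2, 2, 2],
  .step 138 123 [26] [0, 3, 0, 3, 3, 3, 3, 0, 3, 3, 1, 3, 3, 3],
  .step 245 123 [29] [2, 2, 0, 2, 2, 2, 2, 0, 2, 2, 1, 3, 3, 3, 3],
  .step 163 123 [30] [0, 2, 0, 2, 0, 2, 0, 3, 3, 3, 3, 0, 3],
  .step 205 123 [31] [3, 0, 2, 2, 2, 0, 3, 3, 3, 1, 3],
  .step 21 138 [28] [0, 2, 2, 0, 3, 3, 3, 3, 1, 3, 3],
  .step 236 138 [30] [2, 2, 2, 0, 2, 2, 0, 2, 2, 2, 2, 0, 2],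
  .step 80 138 [31] [0, 3, 3, 3, 0, 3, 3, 1, 3, 3, 3, 3],
  .step 43 245 [29] [3, 3, 0, 2, 2, 2, 0, 3],
  .step 18 245 [30] [0, 2, 0, 3, 3, 3, 3, 0],
  .step 5 236 [26] [0, 3, 3, 3, 0, 3, 3, 0, 3, 1],
  .step 218 43 [26] [3, 0, 3, 0, 2, 2, 2, 2, 2, 0, 2, 0, 3, 3, 3],
  .root 207 27 false [] [2, 2, 2, 2, 2, 0, 2, 2, 0, 2, 2, 1, 2],
  .step 101 207 [28] [3, 3, 0, 3, 0, 3, 3, 3],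
  .step 40 207 [29] [0, 2, 2, 2, 0, 2, 2, 2, 2, 2, 1, 3, 3],
  .step 66 207 [30] [3, 3, 3, 3, 3, 0, 2, 2, 2, 2, 0],
  .step 83 207 [31] [0, 3, 0, 3, 3, 0, 3, 0, 3, 3, 3, 3],
  .step 104 101 [26] [2, 2, 2, 0, 2, 2, 0, 2, 2, 2, 0, 3],
  .step 15 101 [28] [2, 2, 2, 2, 2, 0, 2, 2, 2],
  .step 86 101 [30] [2, 2, 2, 0, 2, 2, 0, 3],
  .step 35 101 [31] [0, 2, 2, 0, 2, 2, 0, 3, 3, 3, 0, 2, 2],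
  .step 73 40 [26] [3, 3, 0, 3, 3, 0, 3, 3, 3, 0, 3, 1, 2, 2],
  .step 57 40 [29] [2, 0, 2, 2, 2, 2, 0, 2, 2, 0, 3, 3, 3],
  .step 24 40 [30] [0, 2, 0, 2, 2, 0, 2, 2, 1],
  .step 61 40 [31] [0, 2, 2, 2, 1, 3],
  .step 179 66 [28] [3, 0, 2, 2, 2, 2, 1],
  .step 94 66 [29] [3, 0, 3, 3, 0, 3, 3, 3, 3, 0, 3],
  .step 60 66 [30] [3, 0, 3, 0, 3, 0, 2, 2, 2, 2, 0],
  .step 9 83 [26] [0, 2, 2, 0, 2, 2, 2, 2, 0, 3, 3, 3, 1, 2],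
  .step 170 83 [28] [0, 2, 2, 2, 2, 0, 2, 2, 2, 0, 2, 0, 2, 1],
  .step 117 83 [29] [3, 3, 3, 3, 0, 3, 3, 0, 3, 1, 2],
  .step 120 104 [28] [0, 3, 0, 2, 2, 0, 2, 2, 0, 2, 2, 1, 3],
  .step 133 104 [29] [0, 2, 2, 0, 2, 2, 2, 0, 2, 1, 3, 3],
  .step 227 104 [30] [2, 2, 2, 0, 2, 2, 2, 0, 3, 3, 3, 3],
  .step 50 86 [30] [2, 0, 2, 0, 2, 2, 2, 0, 2, 2, 0, 2, 0],
  .step 206 35 [26] [0, 2, 0, 2, 0, 2, 0, 3, 3, 3, 0, 2, 2],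
  .step 184 73 [28] [3, 3, 3, 3, 3, 0, 3, 0],
  .step 208 24 [26] [0, 2, 0, 2, 0, 2, 0, 3, 3, 3, 1, 2, 2],
  .step 110 179 [30] [0, 3, 0, 3, 3, 0, 3, 3, 0, 3, 3, 0, 3],
  .step 152 94 [26] [0, 3, 0, 3, 0, 2, 2, 2, 0, 3, 3, 3, 1],
  .step 12 94 [30] [0, 3, 0, 2, 2, 2, 0, 2, 2, 2, 0, 2, 0, 3],
  .step 1 120 [28] [0, 2, 0, 2, 2, 2, 0, 2, 1, 3, 3],
  .root 213 28 false [] [0, 3, 0, 3, 0, 2, 2, 2, 2, 2, 0, 2, 0, 3, 3],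
  .root 145 29 false [] [0, 3, 3, 0, 3, 0, 3, 0, 2],
  .step 146 145 [24] [0, 0],
  .step 166 145 [26] [0, 2, 0, 3, 3, 3, 0, 3, 3, 0, 3, 3, 0],
  .step 125 145 [28] [2, 2, 2, 0, 3, 3, 3, 0, 3, 3, 3],
  .step 183 145 [29] [3, 0, 2, 2, 2, 2, 0, 2, 0, 2, 1, 3],
  .step 32 145 [30] [0, 3, 3, 0, 3, 3, 3, 3, 3, 1],
  .step 167 146 [26] [0, 2, 0, 3, 3, 3, 0, 3, 3, 0, 3, 3, 0],
  .step 124 146 [28] [2, 2, 2, 0, 3, 3, 3, 0, 3, 3, 3],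
  .step 182 146 [29] [3, 0, 2, 2, 2, 2, 0, 2, 0, 2, 1, 3],
  .step 34 146 [30] [0, 3, 3, 0, 3, 3, 3, 3, 3, 1],
  .root 231 30 false [] [],
  .step 230 231 [24] [0, 0],
  .root 229 31 false [] [0, 2, 2, 0, 3, 3, 3, 3, 0, 3, 3],
  .step 228 229 [24] [0, 0],
  .root 177 45 false [] [3, 3, 3, 3, 3, 0, 2, 2, 2, 0, 3],
  .step 178 177 [24] [0, 0],
  .step 164 177 [26] [2, 2, 2, 0, 2, 2, 0, 2, 2, 2, 2, 0, 2, 1],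
  .step 42 177 [28] [0, 2, 2, 0, 3, 3, 3, 3, 1, 3, 3],
  .step 165 177 [29] [0, 2, 2, 2, 2, 2, 2, 0, 2, 0, 2, 2],
  .step 242 177 [30] [2, 2, 2, 0, 2, 2, 0, 2, 2, 2, 2, 0, 2],
  .step 116 177 [31] [0, 3, 3, 3, 0, 3, 3, 1, 3, 3, 3, 3],
  .step 41 178 [28] [0, 2, 2, 0, 3, 3, 3, 3, 1, 3, 3],
  .step 241 178 [30] [2, 2, 2, 0, 2, 2, 0, 2, 2, 2, 2, 0, 2],
  .step 115 178 [31] [0, 3, 3, 3, 0, 3, 3, 1, 3, 3, 3, 3],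
  .step 247 164 [29] [2, 2, 0, 2, 2, 2, 2, 0, 2, 2, 1, 3, 3, 3, 3],
  .step 189 164 [30] [0, 2, 0, 2, 0, 2, 0, 3, 3, 3, 3, 0, 3],
  .step 209 164 [31] [3, 0, 2, 2, 2, 0, 3, 3, 3, 1, 3],
  .step 64 42 [28] [0, 2, 2, 2, 2, 2, 2, 0, 3, 3, 3, 1],
  .step 246 165 [29] [2, 2, 0, 2, 2, 2, 2, 0, 2, 2, 1, 3, 3, 3, 3],
  .step 190 165 [30] [0, 2, 0, 2, 0, 2, 0, 3, 3, 3, 3, 0, 3],
  .step 210 165 [31] [3, 0, 2, 2, 2, 0, 3, 3, 3, 1, 3],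
  .step 17 242 [26] [0, 3, 3, 3, 0, 3, 3, 0, 3, 1],
  .step 38 242 [28] [2, 2, 0, 2, 0, 2, 2, 2, 1, 2],
  .step 65 41 [28] [0, 2, 2, 2, 2, 2, 2, 0, 3, 3, 3, 1],
  .step 16 241 [26] [0, 3, 3, 3, 0, 3, 3, 0, 3, 1],
  .step 39 241 [28] [2, 2, 0, 2, 0, 2, 2, 2, 1, 2],
  .step 235 64 [26] [3, 0, 3, 0, 2, 2, 2, 2, 2, 0, 2, 0, 3, 3, 3],
  .step 234 65 [26] [3, 0, 3, 0, 2, 2, 2, 2, 2, 0, 2, 0, 3, 3, 3],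
  .root 70 57 false [] [0, 3, 0, 3, 0, 3, 3, 3, 0, 3, 3, 0, 3, 3, 3],
  .step 72 70 [24] [0, 0],
  .step 232 70 [26] [3, 0, 3, 0, 2, 2, 2, 2, 2, 0, 2, 0, 3, 3, 3],
  .step 249 70 [28] [2, 0, 3, 3, 3, 0, 2, 2],
  .step 49 70 [29] [0, 2, 2, 2, 0, 2, 2, 2, 2, 2, 2, 0],
  .step 211 70 [30] [3, 3, 3, 0, 3, 3, 3, 3, 3, 1],
  .step 191 70 [31] [0, 2, 2, 2, 2, 2, 2, 0, 2, 2, 2, 2, 2, 0],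
  .step 233 72 [26] [3, 0, 3, 0, 2, 2, 2, 2, 2, 0, 2, 0, 3, 3, 3],
  .step 248 72 [28] [2, 0, 3, 3, 3, 0, 2, 2],
  .step 48 72 [29] [0, 2, 2, 2, 0, 2, 2, 2, 2, 2, 2, 0],
  .step 212 72 [30] [3, 3, 3, 0, 3, 3, 3, 3, 3, 1],
  .step 192 72 [31] [0, 2, 2, 2, 2, 2, 2, 0, 2, 2, 2, 2, 2, 0],
  .step 33 232 [30] [2, 0, 2, 2, 2, 2, 2, 1, 2, 2, 2],
  .step 162 249 [28] [0, 2, 2, 2, 2, 0, 2, 2, 0, 2, 2, 2, 2, 2, 2],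
  .step 54 249 [30] [0, 2, 0, 3, 3, 3, 3, 0],
  .step 176 49 [29] [2, 2, 0, 2, 2, 0, 2, 2, 0, 3, 3],
  .step 109 49 [30] [0, 2, 2, 2, 0, 3, 3, 3, 3, 3, 0, 3, 0],
  .step 243 49 [31] [2, 2, 2, 0, 2, 0, 3, 3, 3, 1, 2, 2],
  .step 108 191 [26] [2, 0, 2, 2, 0, 3, 3, 3, 0, 3, 3, 3, 3, 3, 1],
  .step 31 233 [30] [2, 0, 2, 2, 2, 2, 2, 1, 2, 2, 2],
  .step 161 248 [28] [0, 2, 2, 2, 2, 0, 2, 2, 0, 2, 2, 2, 2, 2, 2],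
  .step 56 248 [30] [0, 2, 0, 3, 3, 3, 3, 0],
  .step 175 48 [29] [2, 2, 0, 2, 2, 0, 2, 2, 0, 3, 3],
  .step 244 48 [31] [2, 2, 2, 0, 2, 0, 3, 3, 3, 1, 2, 2],
  .root 181 125 true [] [3, 0, 3, 3, 0, 2, 2, 2, 2, 0, 2],
  .step 180 181 [24] [0, 0],
  .step 126 181 [26] [0, 2, 0, 2, 2, 0, 3, 3, 3, 3, 3, 1, 2],
  .step 143 181 [28] [0, 2, 0, 3, 3, 0, 3, 3, 3, 3, 1, 2],
  .step 169 181 [29] [3, 0, 3, 0, 3, 3, 3, 3, 1, 2, 2],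
  .step 127 181 [31] [3, 3, 0, 3, 0, 3, 3, 3, 0, 3, 0, 3, 3],
  .step 144 180 [28] [0, 2, 0, 3, 3, 0, 3, 3, 3, 3, 1, 2],
  .step 168 180 [29] [3, 0, 3, 0, 3, 3, 3, 3, 1, 2, 2],
  .step 20 126 [28] [0, 3, 0, 2, 2, 2, 1, 2, 2, 2, 2, 2, 2],
  .step 19 143 [30] [0, 3, 3, 0, 3, 3, 3, 3, 3, 1],
  .root 134 137 true [] [2, 0, 2, 2, 2, 0, 2, 2, 0],
  .step 135 134 [24] [0, 0],
  .step 139 134 [26] [2, 2, 2, 0, 2, 2, 0, 2, 2, 2, 0, 3],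
  .step 53 134 [28] [2, 2, 2, 2, 2, 0, 2, 2, 2],
  .step 219 134 [29] [2, 2, 2, 0, 2, 0, 2, 2],
  .step 119 134 [30] [2, 2, 2, 0, 2, 2, 0, 3],
  .step 78 134 [31] [0, 2, 2, 0, 2, 2, 0, 3, 3, 3, 0, 2, 2],
  .step 140 135 [26] [2, 2, 2, 0, 2, 2, 0, 2, 2, 2, 0, 3],
  .step 55 135 [28] [2, 2, 2, 2, 2, 0, 2, 2, 2],
  .step 220 135 [29] [2, 2, 2, 0, 2, 0, 2, 2],
  .step 118 135 [30] [2, 2, 2, 0, 2, 2, 0, 3],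
  .step 79 135 [31] [0, 2, 2, 0, 2, 2, 0, 3, 3, 3, 0, 2, 2],
  .step 160 139 [28] [0, 3, 0, 2, 2, 0, 2, 2, 0, 2, 2, 1, 3],
  .step 172 139 [29] [0, 2, 2, 0, 2, 2, 2, 0, 2, 1, 3, 3],
  .step 237 139 [30] [2, 2, 2, 0, 2, 2, 2, 0, 3, 3, 3, 3],
  .step 105 139 [31] [0, 2, 0, 2, 0, 2, 2, 2, 2, 1, 2, 2, 2],
  .step 97 53 [26] [2, 2, 0, 3, 3, 3, 3, 0, 3, 3, 0, 3, 0, 2],
  .step 81 53 [28] [3, 0, 3, 3, 3, 0, 3],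
  .step 129 53 [30] [0, 2, 2, 0, 2, 0, 2, 2, 2, 2, 0, 2, 2],
  .step 193 53 [31] [2, 0, 3, 3, 0, 3, 3, 3, 3, 3, 1],
  .step 71 219 [29] [0, 2, 2, 2, 0, 2, 2, 2, 2, 2, 1, 3, 3],
  .step 98 219 [30] [3, 3, 3, 3, 3, 0, 2, 2, 2, 2, 0],
  .step 111 219 [31] [0, 3, 0, 3, 3, 0, 3, 0, 3, 3, 3, 3],
  .step 82 119 [26] [3, 0, 3, 0, 2, 2, 2, 2, 0, 2, 2, 1, 2, 2],
  .step 47 119 [28] [0, 2, 0, 2, 0, 2, 2, 2, 2, 2, 1, 3],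
  .step 198 119 [29] [2, 2, 2, 2],
  .step 77 119 [30] [2, 0, 2, 0, 2, 2, 2, 0, 2, 2, 0, 2, 0],
  .step 214 78 [26] [0, 2, 0, 2, 0, 2, 0, 3, 3, 3, 0, 2, 2],
  .step 155 78 [28] [0, 3, 0, 2, 2, 2, 2, 2, 2, 0, 2, 2, 0, 2],
  .step 100 78 [29] [2, 0, 2, 0, 2, 2, 1, 2, 2, 2],
  .step 159 140 [28] [0, 3, 0, 2, 2, 0, 2, 2, 0, 2, 2, 1, 3],
  .step 171 140 [29] [0, 2, 2, 0, 2, 2, 2, 0, 2, 1, 3, 3],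
  .step 238 140 [30] [2, 2, 2, 0, 2, 2, 2, 0, 3, 3, 3, 3],
  .step 106 140 [31] [0, 2, 0, 2, 0, 2, 2, 2, 2, 1, 2, 2, 2],
  .step 130 55 [30] [0, 2, 2, 0, 2, 0, 2, 2, 2, 2, 0, 2, 2],
  .step 194 55 [31] [2, 0, 3, 3, 0, 3, 3, 3, 3, 3, 1],
  .step 69 220 [29] [0, 2, 2, 2, 0, 2, 2, 2, 2, 2, 1, 3, 3],
  .step 112 220 [31] [0, 3, 0, 3, 3, 0, 3, 0, 3, 3, 3, 3],
  .step 46 118 [28] [0, 2, 0, 2, 0, 2, 2, 2, 2, 2, 1, 3],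
  .step 197 118 [29] [2, 2, 2, 2],
  .step 76 118 [30] [2, 0, 2, 0, 2, 2, 2, 0, 2, 2, 0, 2, 0],
  .step 215 79 [26] [0, 2, 0, 2, 0, 2, 0, 3, 3, 3, 0, 2, 2],
  .step 156 79 [28] [0, 3, 0, 2, 2, 2, 2, 2, 2, 0, 2, 2, 0, 2],
  .step 99 79 [29] [2, 0, 2, 0, 2, 2, 1, 2, 2, 2],
  .step 11 160 [28] [0, 2, 0, 2, 2, 2, 0, 2, 1, 3, 3],
  .step 151 172 [26] [0, 2, 0, 2, 0, 2, 0, 3, 3, 3, 1, 2, 2],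
  .step 187 172 [29] [0, 3, 3, 0, 2, 2, 2, 2, 0, 2, 0, 2, 1],
  .step 203 172 [30] [3, 0, 2, 2, 0, 2, 2, 0, 2, 2, 2, 0, 3],
  .step 226 172 [31] [2, 0, 3, 3, 3, 3, 3, 1, 2, 2, 2],
  .step 10 237 [26] [0, 3, 3, 3, 0, 3, 3, 0, 3, 1],
  .step 26 237 [28] [3, 0, 2, 2, 0, 2, 2, 2, 2, 1, 3, 3],
  .step 87 97 [30] [3, 0, 3, 0, 3, 0, 2, 2, 2, 2, 0],
  .step 29 129 [30] [0, 3, 0, 2, 2, 2, 0, 2, 2, 2, 0, 2, 0, 3],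
  .step 88 98 [30] [3, 0, 3, 0, 3, 0, 2, 2, 2, 2, 0],
  .step 150 214 [28] [3, 3, 3, 0, 3, 0, 2, 2, 2, 2, 1],
  .step 188 171 [29] [0, 3, 3, 0, 2, 2, 2, 2, 0, 2, 0, 2, 1],
  .step 204 171 [30] [3, 0, 2, 2, 0, 2, 2, 0, 2, 2, 2, 0, 3],
  .step 225 171 [31] [2, 0, 3, 3, 3, 3, 3, 1, 2, 2, 2],
  .step 25 238 [28] [3, 0, 2, 2, 0, 2, 2, 2, 2, 1, 3, 3],
  .step 30 130 [30] [0, 3, 0, 2, 2, 2, 0, 2, 2, 2, 0, 2, 0, 3],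
  .root 74 142 true [] [0, 3, 0, 3, 3, 0, 2, 2, 2, 2, 1, 3],
  .step 75 74 [24] [0, 0],
  .step 202 74 [26] [3, 3, 0, 3, 0, 3, 3, 1],
  .step 90 74 [28] [0, 2, 0, 2, 2, 2, 2, 2, 0, 2, 2, 0, 2, 1, 3],
  .step 52 74 [29] [3, 0, 3, 3, 3, 0, 3, 1],
  .step 59 74 [30] [0, 2, 0, 2, 0, 2, 2, 2, 2, 2, 2, 1],
  .step 122 74 [31] [0, 3, 0, 3, 3, 0, 3, 3, 3, 0, 3, 1, 3],
  .step 201 75 [26] [3, 3, 0, 3, 0, 3, 3, 1],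
  .step 89 75 [28] [0, 2, 0, 2, 2, 2, 2, 2, 0, 2, 2, 0, 2, 1, 3],
  .step 51 75 [29] [3, 0, 3, 3, 3, 0, 3, 1],
  .step 58 75 [30] [0, 2, 0, 2, 0, 2, 2, 2, 2, 2, 2, 1],
  .step 121 75 [31] [0, 3, 0, 3, 3, 0, 3, 3, 3, 0, 3, 1, 3],
  .step 224 202 [28] [2, 2, 0, 2, 0, 2, 2, 2, 0, 2],
  .step 103 202 [29] [0, 2, 0, 2, 2, 2, 2, 2],
  .step 23 202 [30] [0, 3, 0, 3, 3, 0, 3, 3, 0, 2, 2, 2, 1, 2],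
  .step 174 202 [31] [2, 0, 3, 3, 3, 0, 3, 3, 0, 3, 3, 0, 2],
  .step 196 90 [26] [3, 3, 0, 3, 0, 3, 3, 0],
  .step 217 90 [28] [0, 2, 0, 3, 3, 3, 0, 3, 3, 3, 3, 3, 0, 3, 1, 3],
  .step 113 90 [30] [0, 3, 3, 0, 3, 3, 3, 3, 3, 0, 3, 1],
  .step 95 90 [31] [0, 3, 3, 0, 3, 0, 3, 0, 2, 2, 2],
  .step 149 52 [29] [3, 3, 3, 0, 3, 3, 3, 3, 3, 1],
  .step 195 52 [30] [0, 2, 0, 3, 3, 0, 3, 3, 3, 3, 3, 0, 2, 2, 2],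
  .step 131 52 [31] [2, 0, 3, 3, 3, 3, 0, 3, 3, 0, 3, 1, 2],
  .step 216 59 [26] [0, 2, 0, 2, 0, 2, 0, 3, 3, 3, 0, 2, 2],
  .step 154 59 [28] [0, 3, 0, 2, 2, 2, 2, 2, 2, 0, 2, 2, 0, 2],
  .step 92 59 [29] [2, 0, 2, 0, 2, 2, 1, 2, 2, 2],
  .step 136 59 [30] [3, 0, 3, 0, 2, 2, 2, 0, 3, 3, 3, 3, 0],
  .step 85 122 [26] [3, 0, 3, 0, 2, 2, 2, 2, 0, 2, 2, 1, 2, 2],
  .step 67 122 [28] [3, 0, 3, 3, 3, 3, 0, 3, 1, 3, 3],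
  .step 200 122 [29] [2, 2, 2, 2],
  .step 223 201 [28] [2, 2, 0, 2, 0, 2, 2, 2, 0, 2],
  .step 102 201 [29] [0, 2, 0, 2, 2, 2, 2, 2],
  .step 22 201 [30] [0, 3, 0, 3, 3, 0, 3, 3, 0, 2, 2, 2, 1, 2],
  .step 173 201 [31] [2, 0, 3, 3, 3, 0, 3, 3, 0, 3, 3, 0, 2],
  .step 114 89 [30] [0, 3, 3, 0, 3, 3, 3, 3, 3, 0, 3, 1],
  .step 96 89 [31] [0, 3, 3, 0, 3, 0, 3, 0, 2, 2, 2],
  .step 148 51 [29] [3, 3, 3, 0, 3, 3, 3, 3, 3, 1],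
  .step 132 51 [31] [2, 0, 3, 3, 3, 3, 0, 3, 3, 0, 3, 1, 2],
  .step 153 58 [28] [0, 3, 0, 2, 2, 2, 2, 2, 2, 0, 2, 2, 0, 2],
  .step 93 58 [29] [2, 0, 2, 0, 2, 2, 1, 2, 2, 2],
  .step 137 58 [30] [3, 0, 3, 0, 2, 2, 2, 0, 3, 3, 3, 3, 0],
  .step 84 121 [26] [3, 0, 3, 0, 2, 2, 2, 2, 0, 2, 2, 1, 2, 2],
  .step 68 121 [28] [3, 0, 3, 3, 3, 3, 0, 3, 1, 3, 3],
  .step 199 121 [29] [2, 2, 2, 2],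
  .step 240 224 [28] [0, 2, 2, 0, 2, 2, 2, 2, 0, 3, 3, 3, 3],
  .step 63 103 [26] [3, 0, 3, 0, 2, 2, 2, 2, 0, 2, 2, 1, 2, 2],
  .step 44 103 [29] [2, 0, 2, 2, 0, 3, 3, 3, 0, 3, 3, 3],
  .step 141 103 [30] [0, 3, 0, 3, 0, 2, 2, 2, 2, 2, 2, 0, 2],
  .step 158 103 [31] [0, 3, 0, 3, 3, 3, 1, 3, 3, 3],
  .step 239 23 [26] [2, 0, 2, 2, 0, 2, 2, 2, 1],
  .step 186 23 [28] [0, 2, 0, 2, 2, 0, 2, 2, 2, 2, 2, 2, 0, 3],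
  .step 36 196 [30] [0, 2, 2, 2, 2, 2, 0, 2, 2, 0, 3],
  .step 221 113 [30] [2, 0, 2, 2, 2, 0, 2, 0, 2, 2, 0, 2],
  .step 37 195 [30] [0, 2, 2, 2, 2, 2, 0, 2, 2, 0, 3],
  .step 62 85 [28] [2, 0, 2, 2, 0, 2, 2, 2, 2, 2, 2, 1, 3],
  .step 45 102 [29] [2, 0, 2, 2, 0, 3, 3, 3, 0, 3, 3, 3],
  .step 142 102 [30] [0, 3, 0, 3, 0, 2, 2, 2, 2, 2, 2, 0, 2],
  .step 157 102 [31] [0, 3, 0, 3, 3, 3, 1, 3, 3, 3],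
  .step 185 22 [28] [0, 2, 0, 2, 2, 0, 2, 2, 2, 2, 2, 2, 0, 3],
  .step 222 114 [30] [2, 0, 2, 2, 2, 0, 2, 0, 2, 2, 0, 2]]

/-- the cover of node 5 -/
def cv5 : List Cv := [
  .root 0 32 true [] [],
  .step 208 0 [38] [0, 3, 0, 2, 2, 0, 2, 2, 2, 2, 1, 3],
  .step 50 0 [39] [0, 2, 0, 2, 2, 2, 0, 2, 1, 3, 3, 3],
  .step 24 208 [32] [0, 3, 0, 3, 0, 2, 2, 2, 0, 3, 3, 3, 0],
  .step 35 208 [34] [0, 2, 0, 2, 0, 3, 3, 3, 0, 2, 2, 2, 2, 2],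
  .step 66 208 [36] [3, 0, 3, 3, 0, 3, 3, 1, 3, 3, 3, 3],
  .step 18 208 [37] [3, 0, 2, 2, 2, 2, 2, 2, 0, 2, 2, 1],
  .step 245 208 [38] [2, 0, 2, 0, 2, 2, 0, 2, 2, 2, 0],
  .step 184 50 [32] [3, 3, 0, 3, 0, 3, 3, 1],
  .step 133 50 [34] [0, 2, 2, 2, 2, 2, 0, 3, 3, 3, 3, 0, 2],
  .step 86 50 [36] [0, 2, 2, 0, 2, 2, 0, 3, 3, 3, 3, 0, 2],
  .step 2 50 [37] [3, 3, 3, 3, 0, 3, 3, 0, 3],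
  .step 9 24 [36] [0, 2, 0, 3, 3, 0, 3, 0],
  .step 15 24 [37] [3, 3, 0, 3, 3, 0, 3, 3, 3, 3, 3],
  .step 147 24 [38] [0, 2, 2, 2, 1, 3, 3, 3],
  .step 179 24 [39] [0, 3, 0, 2, 2, 0, 2, 2, 2, 2, 0],
  .step 206 35 [32] [0, 2, 0, 2, 0, 2, 0, 3, 3, 3, 0, 2, 2],
  .step 83 35 [36] [0, 3, 0, 2, 2, 2, 2, 2, 2, 1, 3, 3, 3],
  .step 101 35 [38] [0, 2, 2, 2, 2, 0, 2, 2, 0, 2, 2, 2, 1, 3],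
  .step 73 35 [39] [0, 2, 0, 2, 2, 2, 2, 2, 0, 2, 2, 0, 2, 0, 2],
  .step 60 66 [38] [0, 2, 2, 2, 0, 2, 0, 2],
  .step 94 66 [39] [2, 2, 0, 2, 2, 1],
  .step 104 18 [38] [0, 2, 2, 2, 2, 0, 2, 2, 0, 2, 2, 2, 0, 2],
  .step 91 18 [39] [0, 2, 2, 2, 0, 2, 0, 3, 3, 3, 3, 0],
  .step 21 245 [36] [2, 0, 3, 3, 3, 0, 2, 2, 2, 2, 2, 2, 1, 3],
  .step 117 184 [36] [2, 2, 2, 2, 0, 2, 2, 2],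
  .step 57 184 [37] [2, 0, 2, 2, 0, 2, 2, 0, 2, 2, 2, 1, 2],
  .step 163 184 [39] [0, 2, 0, 2, 2, 0, 2, 2, 2, 2, 2, 0, 2, 0, 2],
  .step 110 133 [32] [0, 2, 0, 2, 0, 2, 0, 3, 3, 3, 1, 2, 2],
  .step 120 133 [36] [2, 2, 2, 0, 2, 2, 0, 3, 3, 3, 0, 2, 2],
  .step 80 133 [38] [2, 0, 3, 3, 3, 0, 3, 3, 3, 3, 3, 0, 2],
  .step 227 86 [38] [3, 3, 1, 2, 2],
  .step 107 86 [39] [0, 3, 0, 3, 0, 3, 3, 3, 3, 3, 1, 2],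
  .step 40 2 [39] [2, 0, 3, 3, 0, 3, 3, 1, 3, 3, 3, 3],
  .step 207 9 [36] [0, 2, 2, 2, 2, 0, 2, 1, 3, 3],
  .step 236 9 [38] [0, 2, 2, 0, 2, 1, 3, 3, 3, 3],
  .step 61 9 [39] [0, 3, 0, 3, 0, 3, 3, 0],
  .step 12 15 [38] [2, 0, 2, 2, 0, 3, 3, 3, 0, 2, 2, 2],
  .step 152 179 [34] [2, 2, 0, 3, 3, 3, 0, 2, 2, 2, 1, 2, 2, 2, 2],
  .step 6 179 [39] [0, 2, 2, 0, 2, 2, 2, 2, 2, 0, 2, 2, 2, 1],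
  .step 1 206 [38] [3, 3, 0, 3, 0, 3, 3, 3, 3, 3, 0, 2, 2],
  .step 128 83 [38] [0, 2, 2, 2, 2, 2, 0, 2, 2, 2, 2, 2, 0],
  .step 5 83 [39] [0, 3, 0, 3, 3, 3, 0, 3, 3, 0, 3, 3, 0, 3],
  .step 170 60 [32] [3, 3, 0, 3, 0, 3, 3, 0],
  .step 218 60 [38] [2, 2, 2, 2, 0, 2, 2, 2, 2, 2, 0, 2, 2],
  .step 213 94 [39] [2, 0, 2, 0, 2, 2, 2, 2, 1, 2, 2, 2],
  .step 138 104 [38] [0, 3, 3, 3, 3, 3, 0, 3, 0, 3, 3, 0, 3],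
  .step 43 91 [39] [0, 2, 2, 2, 2, 0, 2, 0, 2, 0],
  .step 123 21 [39] [0, 2, 2, 2, 2, 2, 2, 0, 2, 0, 2, 2, 1, 2],
  .step 205 57 [38] [0, 3, 3, 3, 0, 3, 0, 3, 3, 1, 3, 3],
  .root 3 34 false [] [],
  .step 4 3 [36] [0, 3, 3, 3, 0, 3, 3, 0, 3, 3, 1, 3],
  .step 224 3 [38] [0, 3, 0, 2, 2, 0, 2, 2, 2, 2, 1, 3],
  .step 74 3 [39] [0, 2, 0, 2, 2, 2, 0, 2, 1, 3, 3, 3],
  .step 223 4 [38] [0, 3, 0, 2, 2, 0, 2, 2, 2, 2, 1, 3],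
  .step 75 4 [39] [0, 2, 0, 2, 2, 2, 0, 2, 1, 3, 3, 3],
  .step 68 224 [32] [0, 3, 0, 3, 0, 2, 2, 2, 1, 3, 3, 3],
  .step 59 224 [34] [0, 2, 0, 2, 0, 3, 3, 3, 0, 2, 2, 2, 2, 2],
  .step 95 224 [36] [3, 0, 3, 3, 0, 3, 3, 1, 3, 3, 3, 3],
  .step 38 224 [37] [3, 0, 2, 2, 2, 2, 2, 2, 0, 2, 2, 1],
  .step 249 224 [38] [2, 0, 2, 0, 2, 2, 0, 2, 2, 2, 0],
  .step 202 74 [32] [3, 3, 0, 3, 0, 3, 3, 1],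
  .step 173 74 [34] [0, 2, 2, 2, 2, 2, 0, 3, 3, 3, 3, 0, 2],
  .step 122 74 [36] [0, 2, 2, 0, 2, 2, 0, 3, 3, 3, 3, 0, 2],
  .step 28 74 [37] [3, 3, 3, 3, 0, 3, 3, 0, 3, 0],
  .step 67 223 [32] [0, 3, 0, 3, 0, 2, 2, 2, 1, 3, 3, 3],
  .step 58 223 [34] [0, 2, 0, 2, 0, 3, 3, 3, 0, 2, 2, 2, 2, 2],
  .step 96 223 [36] [3, 0, 3, 3, 0, 3, 3, 1, 3, 3, 3, 3],
  .step 39 223 [37] [3, 0, 2, 2, 2, 2, 2, 2, 0, 2, 2, 1],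
  .step 248 223 [38] [2, 0, 2, 0, 2, 2, 0, 2, 2, 2, 0],
  .step 201 75 [32] [3, 3, 0, 3, 0, 3, 3, 1],
  .step 174 75 [34] [0, 2, 2, 2, 2, 2, 0, 3, 3, 3, 3, 0, 2],
  .step 121 75 [36] [0, 2, 2, 0, 2, 2, 0, 3, 3, 3, 3, 0, 2],
  .step 27 75 [37] [3, 3, 3, 3, 0, 3, 3, 0, 3, 0],
  .step 44 68 [36] [2, 0, 3, 3, 1, 3],
  .step 36 68 [37] [0, 3, 3, 0, 3, 3, 1, 3, 3, 3, 3, 3],
  .step 182 68 [38] [2, 2, 2, 1, 3, 3, 3],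
  .step 197 68 [39] [3, 0, 2, 2, 0, 2, 2, 2, 2, 0],
  .step 216 59 [32] [0, 2, 0, 2, 0, 2, 0, 3, 3, 3, 0, 2, 2],
  .step 113 59 [36] [0, 3, 0, 2, 2, 2, 2, 2, 2, 1, 3, 3, 3],
  .step 134 59 [38] [0, 2, 2, 2, 2, 0, 2, 2, 0, 2, 2, 2, 1, 3],
  .step 105 59 [39] [0, 2, 0, 2, 2, 2, 2, 2, 0, 2, 2, 0, 2, 0, 2],
  .step 88 95 [38] [0, 2, 2, 2, 0, 2, 0, 2],
  .step 129 95 [39] [2, 2, 0, 2, 2, 1],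
  .step 140 38 [38] [0, 2, 2, 2, 2, 0, 2, 2, 0, 2, 2, 2, 0, 2],
  .step 124 38 [39] [0, 2, 2, 2, 0, 2, 0, 3, 3, 3, 3, 0],
  .step 48 249 [36] [2, 0, 3, 3, 3, 0, 2, 2, 2, 2, 2, 2, 1, 3],
  .step 153 202 [36] [2, 2, 2, 2, 0, 2, 2, 2],
  .step 85 202 [37] [2, 0, 2, 2, 0, 2, 2, 0, 2, 2, 2, 1, 2],
  .step 191 202 [39] [0, 2, 0, 2, 2, 0, 2, 2, 2, 2, 2, 0, 2, 0, 2],
  .step 149 173 [32] [0, 2, 0, 2, 0, 2, 0, 3, 3, 3, 1, 2, 2],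
  .step 157 173 [36] [2, 2, 2, 0, 2, 2, 0, 3, 3, 3, 0, 2, 2],
  .step 109 173 [38] [2, 0, 3, 3, 3, 0, 3, 3, 3, 3, 3, 0, 2],
  .step 238 122 [38] [3, 3, 1, 2, 2],
  .step 146 122 [39] [0, 3, 0, 3, 0, 3, 3, 3, 3, 3, 1, 2],
  .step 145 28 [38] [0, 3, 0, 2, 2, 2, 2, 1, 2, 2, 2],
  .step 69 28 [39] [0, 2, 0, 3, 3, 0, 3, 3, 0, 3, 3, 3, 3],
  .step 45 67 [36] [2, 0, 3, 3, 1, 3],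
  .step 37 67 [37] [0, 3, 3, 0, 3, 3, 1, 3, 3, 3, 3, 3],
  .step 183 67 [38] [2, 2, 2, 1, 3, 3, 3],
  .step 198 67 [39] [3, 0, 2, 2, 0, 2, 2, 2, 2, 0],
  .step 217 58 [32] [0, 2, 0, 2, 0, 2, 0, 3, 3, 3, 0, 2, 2],
  .step 114 58 [36] [0, 3, 0, 2, 2, 2, 2, 2, 2, 1, 3, 3, 3],
  .step 135 58 [38] [0, 2, 2, 2, 2, 0, 2, 2, 0, 2, 2, 2, 1, 3],
  .step 106 58 [39] [0, 2, 0, 2, 2, 2, 2, 2, 0, 2, 2, 0, 2, 0, 2],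
  .step 87 96 [38] [0, 2, 2, 2, 0, 2, 0, 2],
  .step 130 96 [39] [2, 2, 0, 2, 2, 1],
  .step 139 39 [38] [0, 2, 2, 2, 2, 0, 2, 2, 0, 2, 2, 2, 0, 2],
  .step 125 39 [39] [0, 2, 2, 2, 0, 2, 0, 3, 3, 3, 3, 0],
  .step 49 248 [36] [2, 0, 3, 3, 3, 0, 2, 2, 2, 2, 2, 2, 1, 3],
  .step 154 201 [36] [2, 2, 2, 2, 0, 2, 2, 2],
  .step 84 201 [37] [2, 0, 2, 2, 0, 2, 2, 0, 2, 2, 2, 1, 2],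
  .step 192 201 [39] [0, 2, 0, 2, 2, 0, 2, 2, 2, 2, 2, 0, 2, 0, 2],
  .step 148 174 [32] [0, 2, 0, 2, 0, 2, 0, 3, 3, 3, 1, 2, 2],
  .step 158 174 [36] [2, 2, 2, 0, 2, 2, 0, 3, 3, 3, 0, 2, 2],
  .step 108 174 [38] [2, 0, 3, 3, 3, 0, 3, 3, 3, 3, 3, 0, 2],
  .step 237 121 [38] [3, 3, 1, 2, 2],
  .step 71 27 [39] [0, 2, 0, 3, 3, 0, 3, 3, 0, 3, 3, 3, 3],
  .step 221 44 [36] [2, 2, 2, 2, 0, 2, 1, 3, 3],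
  .step 243 44 [38] [2, 2, 0, 2, 1, 3, 3, 3, 3],
  .step 100 44 [39] [3, 0, 3, 0, 3, 3, 0],
  .step 29 36 [38] [2, 0, 2, 2, 0, 3, 3, 3, 0, 2, 2, 2],
  .step 244 182 [34] [3, 3, 0, 3, 3, 0, 2, 2, 2, 0, 3, 3],
  .step 99 197 [32] [2, 0, 2, 2, 0, 3, 3, 3, 0, 3, 3, 3, 3, 3, 0],
  .step 188 197 [34] [2, 2, 0, 3, 3, 3, 0, 2, 2, 2, 1, 2, 2, 2, 2],
  .step 19 197 [39] [0, 2, 2, 0, 2, 2, 2, 2, 2, 0, 2, 2, 2, 1],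
  .step 11 216 [38] [3, 3, 0, 3, 0, 3, 3, 3, 3, 3, 0, 2, 2],
  .step 167 113 [38] [0, 2, 2, 2, 2, 2, 0, 2, 2, 2, 2, 2, 0],
  .step 33 113 [39] [0, 3, 0, 3, 3, 3, 0, 3, 3, 0, 3, 3, 0, 3],
  .step 10 105 [34] [3, 0, 2, 2, 2, 2, 0],
  .step 166 105 [37] [2, 0, 2, 2, 2, 2, 1],
  .step 194 88 [32] [3, 3, 0, 3, 0, 3, 3, 0],
  .step 234 88 [38] [2, 2, 2, 2, 0, 2, 2, 2, 2, 2, 0, 2, 2],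
  .step 187 129 [32] [0, 3, 0, 3, 0, 2, 2, 2, 0, 3, 3, 3, 1],
  .step 228 129 [39] [2, 0, 2, 0, 2, 2, 2, 2, 1, 2, 2, 2],
  .step 178 140 [38] [0, 3, 3, 3, 3, 3, 0, 3, 0, 3, 3, 0, 3],
  .step 65 124 [39] [0, 2, 2, 2, 2, 0, 2, 0, 2, 0],
  .step 164 48 [39] [0, 2, 2, 2, 2, 2, 2, 0, 2, 0, 2, 2, 1, 2],
  .step 211 85 [38] [0, 3, 3, 3, 0, 3, 0, 3, 3, 1, 3, 3],
  .step 212 85 [39] [2, 0, 2, 2, 0, 2, 2, 0, 2, 2, 2, 2, 1, 2],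
  .step 193 146 [36] [0, 3, 3, 3, 0, 3, 0, 2, 2, 2, 0],
  .step 222 45 [36] [2, 2, 2, 2, 0, 2, 1, 3, 3],
  .step 30 37 [38] [2, 0, 2, 2, 0, 3, 3, 3, 0, 2, 2, 2],
  .step 20 198 [39] [0, 2, 2, 0, 2, 2, 2, 2, 2, 0, 2, 2, 2, 1],
  .step 31 114 [39] [0, 3, 0, 3, 3, 3, 0, 3, 3, 0, 3, 3, 0, 3],
  .step 235 87 [38] [2, 2, 2, 2, 0, 2, 2, 2, 2, 2, 0, 2, 2],
  .step 229 130 [39] [2, 0, 2, 0, 2, 2, 2, 2, 1, 2, 2, 2],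
  .step 177 139 [38] [0, 3, 3, 3, 3, 3, 0, 3, 0, 3, 3, 0, 3],
  .step 64 125 [39] [0, 2, 2, 2, 2, 0, 2, 0, 2, 0],
  .step 165 49 [39] [0, 2, 2, 2, 2, 2, 2, 0, 2, 0, 2, 2, 1, 2],
  .root 8 49 false [] [0, 0],
  .step 7 8 [36] [3, 3, 3, 0, 3, 3, 0, 3, 3, 0, 3, 1],
  .step 226 8 [38] [3, 0, 2, 2, 0, 2, 2, 2, 2, 1, 3],
  .step 76 8 [39] [2, 0, 2, 2, 2, 0, 2, 1, 3, 3, 3],
  .step 225 7 [38] [3, 0, 2, 2, 0, 2, 2, 2, 2, 1, 3],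
  .step 77 7 [39] [2, 0, 2, 2, 2, 0, 2, 1, 3, 3, 3],
  .step 47 226 [32] [0, 3, 0, 3, 0, 2, 2, 2, 0, 3, 3, 3, 0],
  .step 79 226 [34] [0, 2, 0, 2, 0, 3, 3, 3, 0, 2, 2, 2, 2, 2],
  .step 97 226 [36] [3, 0, 3, 3, 0, 3, 3, 1, 3, 3, 3, 3],
  .step 54 226 [37] [3, 0, 2, 2, 2, 2, 2, 2, 0, 2, 2, 1],
  .step 246 226 [38] [2, 0, 2, 0, 2, 2, 0, 2, 2, 2, 0],
  .step 204 76 [32] [3, 3, 0, 3, 0, 3, 3, 1],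
  .step 172 76 [34] [0, 2, 2, 2, 2, 2, 0, 3, 3, 3, 3, 0, 2],
  .step 118 76 [36] [0, 2, 2, 0, 2, 2, 0, 3, 3, 3, 3, 0, 2],
  .step 14 76 [37] [3, 3, 3, 3, 0, 3, 3, 0, 3],
  .step 46 225 [32] [0, 3, 0, 3, 0, 2, 2, 2, 0, 3, 3, 3, 0],
  .step 78 225 [34] [0, 2, 0, 2, 0, 3, 3, 3, 0, 2, 2, 2, 2, 2],
  .step 98 225 [36] [3, 0, 3, 3, 0, 3, 3, 1, 3, 3, 3, 3],
  .step 56 225 [37] [3, 0, 2, 2, 2, 2, 2, 2, 0, 2, 2, 1],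
  .step 247 225 [38] [2, 0, 2, 0, 2, 2, 0, 2, 2, 2, 0],
  .step 203 77 [32] [3, 3, 0, 3, 0, 3, 3, 1],
  .step 171 77 [34] [0, 2, 2, 2, 2, 2, 0, 3, 3, 3, 3, 0, 2],
  .step 119 77 [36] [0, 2, 2, 0, 2, 2, 0, 3, 3, 3, 3, 0, 2],
  .step 13 77 [37] [3, 3, 3, 3, 0, 3, 3, 0, 3],
  .step 25 47 [36] [0, 2, 0, 3, 3, 0, 3, 0],
  .step 53 47 [37] [3, 3, 0, 3, 3, 0, 3, 3, 3, 3, 3],
  .step 181 47 [38] [0, 2, 2, 2, 1, 3, 3, 3],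
  .step 199 47 [39] [0, 3, 0, 2, 2, 0, 2, 2, 2, 2, 0],
  .step 215 79 [32] [0, 2, 0, 2, 0, 2, 0, 3, 3, 3, 0, 2, 2],
  .step 112 79 [36] [0, 3, 0, 2, 2, 2, 2, 2, 2, 1, 3, 3, 3],
  .step 136 79 [38] [0, 2, 2, 2, 2, 0, 2, 2, 0, 2, 2, 2, 1, 3],
  .step 103 79 [39] [0, 2, 0, 2, 2, 2, 2, 2, 0, 2, 2, 0, 2, 0, 2],
  .step 90 97 [38] [0, 2, 2, 2, 0, 2, 0, 2],
  .step 131 97 [39] [2, 2, 0, 2, 2, 1],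
  .step 142 54 [38] [0, 2, 2, 2, 2, 0, 2, 2, 0, 2, 2, 2, 0, 2],
  .step 126 54 [39] [0, 2, 2, 2, 0, 2, 0, 3, 3, 3, 3, 0],
  .step 42 246 [36] [2, 0, 3, 3, 3, 0, 2, 2, 2, 2, 2, 2, 1, 3],
  .step 155 204 [36] [2, 2, 2, 2, 0, 2, 2, 2],
  .step 81 204 [37] [2, 0, 2, 2, 0, 2, 2, 0, 2, 2, 2, 1, 2],
  .step 190 204 [39] [0, 2, 0, 2, 2, 0, 2, 2, 2, 2, 2, 0, 2, 0, 2],
  .step 151 172 [32] [0, 2, 0, 2, 0, 2, 0, 3, 3, 3, 1, 2, 2],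
  .step 159 172 [36] [2, 2, 2, 0, 2, 2, 0, 3, 3, 3, 0, 2, 2],
  .step 116 172 [38] [2, 0, 3, 3, 3, 0, 3, 3, 3, 3, 3, 0, 2],
  .step 240 118 [38] [3, 3, 1, 2, 2],
  .step 143 118 [39] [0, 3, 0, 3, 0, 3, 3, 3, 3, 3, 1, 2],
  .step 144 14 [38] [3, 0, 2, 2, 2, 2, 0, 2, 2, 2],
  .step 63 14 [39] [2, 0, 3, 3, 0, 3, 3, 1, 3, 3, 3, 3],
  .step 26 46 [36] [0, 2, 0, 3, 3, 0, 3, 0],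
  .step 55 46 [37] [3, 3, 0, 3, 3, 0, 3, 3, 3, 3, 3],
  .step 180 46 [38] [0, 2, 2, 2, 1, 3, 3, 3],
  .step 200 46 [39] [0, 3, 0, 2, 2, 0, 2, 2, 2, 2, 0],
  .step 214 78 [32] [0, 2, 0, 2, 0, 2, 0, 3, 3, 3, 0, 2, 2],
  .step 111 78 [36] [0, 3, 0, 2, 2, 2, 2, 2, 2, 1, 3, 3, 3],
  .step 137 78 [38] [0, 2, 2, 2, 2, 0, 2, 2, 0, 2, 2, 2, 1, 3],
  .step 102 78 [39] [0, 2, 0, 2, 2, 2, 2, 2, 0, 2, 2, 0, 2, 0, 2],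
  .step 89 98 [38] [0, 2, 2, 2, 0, 2, 0, 2],
  .step 132 98 [39] [2, 2, 0, 2, 2, 1],
  .step 141 56 [38] [0, 2, 2, 2, 2, 0, 2, 2, 0, 2, 2, 2, 0, 2],
  .step 127 56 [39] [0, 2, 2, 2, 0, 2, 0, 3, 3, 3, 3, 0],
  .step 41 247 [36] [2, 0, 3, 3, 3, 0, 2, 2, 2, 2, 2, 2, 1, 3],
  .step 156 203 [36] [2, 2, 2, 2, 0, 2, 2, 2],
  .step 82 203 [37] [2, 0, 2, 2, 0, 2, 2, 0, 2, 2, 2, 1, 2],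
  .step 189 203 [39] [0, 2, 0, 2, 2, 0, 2, 2, 2, 2, 2, 0, 2, 0, 2],
  .step 150 171 [32] [0, 2, 0, 2, 0, 2, 0, 3, 3, 3, 1, 2, 2],
  .step 160 171 [36] [2, 2, 2, 0, 2, 2, 0, 3, 3, 3, 0, 2, 2],
  .step 115 171 [38] [2, 0, 3, 3, 3, 0, 3, 3, 3, 3, 3, 0, 2],
  .step 239 119 [38] [3, 3, 1, 2, 2],
  .step 62 13 [39] [2, 0, 3, 3, 0, 3, 3, 1, 3, 3, 3, 3],
  .step 220 25 [36] [0, 2, 2, 2, 2, 0, 2, 1, 3, 3],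
  .step 242 25 [38] [0, 2, 2, 0, 2, 1, 3, 3, 3, 3],
  .step 92 25 [39] [0, 3, 0, 3, 0, 3, 3, 0],
  .step 52 53 [38] [0, 2, 0, 2, 2, 0, 3, 3, 3, 0, 2, 2, 2],
  .step 241 181 [34] [3, 3, 0, 3, 3, 0, 2, 2, 2, 0, 3, 3],
  .step 93 199 [32] [2, 0, 2, 2, 0, 3, 3, 3, 0, 3, 3, 3, 3, 3, 0],
  .step 185 199 [34] [2, 2, 0, 3, 3, 3, 0, 2, 2, 2, 1, 2, 2, 2, 2],
  .step 32 199 [39] [0, 2, 2, 0, 2, 2, 2, 2, 2, 0, 2, 2, 2, 1],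
  .step 22 215 [38] [3, 3, 0, 3, 0, 3, 3, 3, 0, 3, 3, 0, 2, 2],
  .step 169 112 [38] [0, 2, 2, 2, 2, 2, 0, 2, 2, 2, 2, 2, 0],
  .step 16 112 [39] [0, 3, 0, 3, 3, 3, 0, 3, 3, 0, 3, 3, 0, 3],
  .step 23 103 [34] [3, 1, 2, 2, 2, 2],
  .step 168 103 [37] [2, 0, 2, 2, 2, 2, 1],
  .step 196 90 [32] [3, 3, 0, 3, 0, 3, 3, 0],
  .step 233 90 [38] [2, 2, 2, 2, 0, 2, 2, 2, 2, 2, 0, 2, 2],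
  .step 186 131 [32] [0, 3, 0, 3, 0, 2, 2, 2, 0, 3, 3, 3, 1],
  .step 230 131 [39] [2, 0, 2, 0, 2, 2, 2, 2, 1, 2, 2, 2],
  .step 175 142 [38] [0, 3, 3, 3, 3, 3, 0, 3, 0, 3, 3, 0, 3],
  .step 72 126 [39] [0, 2, 2, 2, 2, 0, 2, 0, 2, 0],
  .step 162 42 [39] [0, 2, 2, 2, 2, 2, 2, 0, 2, 0, 2, 2, 1, 2],
  .step 210 81 [38] [0, 3, 3, 3, 0, 3, 0, 3, 3, 1, 3, 3],
  .step 209 81 [39] [2, 0, 2, 2, 0, 2, 2, 0, 2, 2, 2, 2, 1, 2],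
  .step 195 143 [36] [0, 3, 3, 3, 0, 3, 0, 2, 2, 2, 0],
  .step 219 26 [36] [0, 2, 2, 2, 2, 0, 2, 1, 3, 3],
  .step 51 55 [38] [0, 2, 0, 2, 2, 0, 3, 3, 3, 0, 2, 2, 2],
  .step 34 200 [39] [0, 2, 2, 0, 2, 2, 2, 2, 2, 0, 2, 2, 2, 1],
  .step 17 111 [39] [0, 3, 0, 3, 3, 3, 0, 3, 3, 0, 3, 3, 0, 3],
  .step 232 89 [38] [2, 2, 2, 2, 0, 2, 2, 2, 2, 2, 0, 2, 2],
  .step 231 132 [39] [2, 0, 2, 0, 2, 2, 2, 2, 1, 2, 2, 2],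
  .step 176 141 [38] [0, 3, 3, 3, 3, 3, 0, 3, 0, 3, 3, 0, 3],
  .step 70 127 [39] [0, 2, 2, 2, 2, 0, 2, 0, 2, 0],
  .step 161 41 [39] [0, 2, 2, 2, 2, 2, 2, 0, 2, 0, 2, 2, 1, 2]]

/-- the cover of node 6 -/
def cv6 : List Cv := [
  .root 0 33 true [] [],
  .step 12 0 [44] [0, 2, 0, 2, 2, 0, 3, 3, 3, 3, 0, 3, 1, 3],
  .root 3 34 true [] [2, 2, 0, 2, 2, 2, 0, 2, 2, 2, 2, 0],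
  .step 30 3 [44] [0, 2, 0, 2, 2, 0, 3, 3, 3, 3, 0, 3, 1, 3],
  .root 8 35 false [] [0, 0],
  .step 51 8 [44] [0, 2, 2, 0, 2, 0, 3, 3, 3, 1, 2, 2, 2, 2],
  .root 205 36 true [] [2, 2, 2, 0, 2, 2, 2, 0, 2, 0, 3],
  .step 21 205 [44] [2, 0, 2, 2, 0, 2, 1, 2],
  .root 208 37 false [] [3, 3, 3, 3, 3, 0, 3, 3, 3, 3, 3, 1],
  .step 24 208 [40] [0, 3, 0, 3, 0, 2, 2, 2, 0, 3, 3, 3, 0],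
  .step 35 208 [42] [0, 2, 0, 2, 0, 3, 3, 3, 0, 2, 2, 2, 2, 2],
  .step 86 208 [44] [2, 0, 3, 3, 0, 3, 3, 0, 3, 3, 3, 1, 2],
  .step 120 208 [45] [3, 0, 3, 3, 3, 0, 3, 3, 0, 3, 0, 3],
  .step 2 24 [44] [0, 3, 0, 3, 3, 0, 2, 2, 2, 1],
  .step 57 24 [45] [0, 3, 0, 3, 3, 0, 2, 2, 2, 0, 3, 3, 3, 3],
  .step 206 35 [40] [0, 2, 0, 2, 0, 2, 0, 3, 3, 3, 0, 2, 2],
  .step 207 86 [44] [2, 0, 3, 3, 0, 3, 3, 3, 3, 3, 1, 3],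
  .step 117 120 [40] [2, 0, 3, 3, 3, 0, 3, 3, 1, 3, 3, 3],
  .root 15 38 false [] [2, 0, 2, 0, 3, 3, 3, 3, 3, 0, 3, 3, 0, 3, 3],
  .step 66 15 [40] [2, 2, 0, 3, 3, 3, 3, 0, 3, 3, 0, 3, 0, 2],
  .step 83 15 [42] [0, 3, 3, 0, 2, 2, 2, 2, 0, 2, 0, 2, 0],
  .step 18 66 [44] [0, 2, 2, 2, 0, 3, 3, 3],
  .step 9 83 [40] [0, 2, 2, 0, 2, 2, 2, 2, 0, 3, 3, 3, 1, 2],
  .root 138 39 false [] [2, 2, 0, 2, 2, 0, 2, 2, 0, 2, 2, 2, 2],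
  .step 123 138 [40] [2, 2, 2, 0, 2, 2, 0, 2, 2, 2, 2, 0, 2, 1],
  .step 6 138 [44] [0, 3, 3, 0, 3, 3, 0, 3, 3, 0, 3, 3, 0, 3, 1],
  .step 50 138 [45] [3, 3, 0, 3, 3, 3, 0, 3, 0],
  .step 218 123 [42] [0, 2, 0, 2, 0, 2, 2, 0, 2, 2, 0, 2],
  .step 184 123 [44] [2, 0, 2, 0, 2, 2, 2, 0, 2, 0, 3],
  .step 133 123 [45] [2, 2, 2, 0, 2, 2, 0, 2, 2, 0, 2, 2, 0, 2],
  .step 110 6 [42] [3, 0, 3, 3, 3, 3, 3, 0, 3, 0, 3, 1],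
  .step 43 218 [40] [2, 2, 0, 2, 0, 2, 2, 2, 2, 2, 2, 0, 2, 0, 2],
  .step 213 184 [44] [0, 2, 0, 3, 3, 3, 3, 0, 3, 3, 0, 3, 3, 3, 1, 2],
  .root 60 40 false [] [2, 0, 3, 3, 0, 3, 3, 1, 3],
  .step 170 60 [40] [3, 3, 0, 3, 0, 3, 3, 0],
  .step 40 60 [42] [0, 3, 0, 2, 2, 2, 2, 0, 2, 2, 1, 2, 2],
  .step 61 60 [44] [0, 2, 0, 2, 2, 1, 2],
  .step 104 60 [45] [3, 3, 3, 3, 3, 0, 3, 3, 3, 3, 3, 1],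
  .step 5 170 [42] [0, 2, 0, 2, 2, 0, 2, 2, 0, 3, 3, 3, 3],
  .step 107 170 [44] [0, 3, 3],
  .step 80 170 [45] [2, 2, 0, 2, 2, 2, 2, 2, 2, 1, 3, 3],
  .step 73 40 [40] [3, 3, 0, 3, 3, 0, 3, 3, 3, 0, 3, 1, 2, 2],
  .step 179 40 [44] [2, 0, 3, 3, 3, 3, 0, 3, 3, 0, 3],
  .step 128 40 [45] [0, 3, 3, 3, 3, 0, 3, 3, 0, 3, 3, 0, 2],
  .step 163 61 [42] [2, 2, 2, 0, 3, 3, 3, 1, 2, 2],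
  .step 1 61 [44] [3, 0, 3, 3, 0, 2, 2, 2, 1],
  .step 101 104 [40] [2, 0, 3, 3, 3, 0, 3, 3, 1, 3, 3, 3],
  .step 236 5 [40] [0, 2, 0, 2, 2, 0, 2, 2, 2, 1],
  .step 147 107 [44] [0, 2, 2, 2, 0, 2, 2, 0, 2, 2, 2, 0, 2, 1],
  .step 94 73 [45] [2, 2, 2, 0, 2, 2, 2, 2, 2, 0, 2, 2, 1],
  .step 152 179 [42] [2, 2, 0, 3, 3, 3, 0, 2, 2, 2, 1, 2, 2, 2, 2],
  .step 227 163 [44] [2, 0, 2, 0, 2, 0, 3, 3, 3, 1, 2, 2, 2],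
  .step 91 101 [44] [2, 0, 3, 3, 3, 3, 3, 0, 2, 2, 2, 2],
  .root 245 41 false [] [0, 2, 2, 0, 2, 2, 2, 2, 0, 2, 0],
  .root 226 42 false [] [0, 2, 0, 2, 0, 2, 2, 2, 2, 2, 2, 1, 3],
  .step 47 226 [40] [0, 3, 0, 3, 0, 2, 2, 2, 0, 3, 3, 3, 0],
  .step 79 226 [42] [0, 2, 0, 2, 0, 3, 3, 3, 0, 2, 2, 2, 2, 2],
  .step 119 226 [44] [2, 0, 3, 3, 0, 3, 3, 0, 3, 3, 3, 1, 2],
  .step 160 226 [45] [3, 0, 3, 3, 3, 0, 3, 3, 0, 3, 0, 3],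
  .step 13 47 [44] [0, 3, 0, 3, 3, 0, 2, 2, 2, 1],
  .step 82 47 [45] [0, 3, 0, 3, 3, 0, 2, 2, 2, 0, 3, 3, 3, 3],
  .step 215 79 [40] [0, 2, 0, 2, 0, 2, 0, 3, 3, 3, 0, 2, 2],
  .step 220 119 [44] [2, 0, 3, 3, 0, 3, 3, 3, 3, 3, 1, 3],
  .step 156 160 [40] [2, 0, 3, 3, 3, 0, 3, 3, 1, 3, 3, 3],
  .root 210 43 false [] [2, 0, 2, 2, 0, 2, 2, 0, 3, 3, 3, 3],
  .step 42 210 [44] [2, 0, 2, 2, 0, 2, 1, 2],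
  .root 209 44 false [] [3, 3, 3, 0, 3, 3, 0, 3],
  .step 41 209 [44] [2, 0, 2, 2, 0, 2, 1, 2],
  .root 246 45 true [] [2, 2, 2, 2, 2, 2, 0, 2, 2],
  .step 247 246 [44] [0, 2, 2, 2, 2, 0, 3, 3, 3, 3, 1, 3],
  .root 202 46 false [] [2, 0, 2, 2, 2, 2, 2, 1, 3, 3, 3, 3, 3],
  .step 74 202 [40] [0, 2, 2, 0, 2, 0, 2, 2],
  .step 228 202 [44] [0, 2, 0, 3, 3, 3, 3, 0, 3, 3, 0, 3, 3, 3, 1, 2],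
  .step 165 202 [45] [0, 2, 0, 3, 3, 3, 3, 0, 3, 0, 3],
  .step 173 74 [42] [0, 2, 2, 2, 2, 2, 0, 3, 3, 3, 3, 0, 2],
  .step 178 74 [44] [0, 2, 0, 2, 2, 2, 1, 2, 2],
  .step 234 74 [45] [0, 3, 3, 3, 3, 3, 0, 2, 2, 2, 1, 2, 2],
  .step 65 228 [42] [2, 0, 3, 3, 3, 0, 2, 2, 2, 0, 2, 2, 2, 2],
  .step 149 173 [40] [0, 2, 0, 2, 0, 2, 0, 3, 3, 3, 1, 2, 2],
  .step 19 178 [44] [0, 3, 3, 0, 3, 3, 0, 3, 3, 0, 3, 3, 0, 3, 1],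
  .root 204 47 false [] [2, 0, 2, 2, 0, 3, 3, 3, 3, 3, 0, 3, 0],
  .step 76 204 [40] [0, 2, 2, 0, 2, 0, 2, 2],
  .step 230 204 [44] [0, 2, 0, 3, 3, 3, 3, 0, 3, 3, 0, 3, 3, 3, 1, 2],
  .step 161 204 [45] [0, 2, 0, 3, 3, 3, 3, 0, 3, 0, 3],
  .step 172 76 [42] [0, 2, 2, 2, 2, 2, 0, 3, 3, 3, 3, 0, 2],
  .step 175 76 [44] [0, 2, 0, 2, 2, 2, 1, 2, 2],
  .step 233 76 [45] [0, 3, 3, 3, 3, 3, 0, 2, 2, 2, 1, 2, 2],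
  .step 72 230 [42] [2, 0, 3, 3, 3, 0, 2, 2, 2, 0, 2, 2, 2, 2],
  .step 151 172 [40] [0, 2, 0, 2, 0, 2, 0, 3, 3, 3, 1, 2, 2],
  .step 32 175 [44] [0, 3, 3, 0, 3, 3, 0, 3, 3, 0, 3, 3, 0, 3, 1],
  .root 7 50 false [] [],
  .step 52 7 [44] [0, 2, 2, 0, 2, 0, 3, 3, 3, 1, 2, 2, 2, 2],
  .root 4 51 false [] [0, 0],
  .step 29 4 [44] [0, 2, 0, 2, 2, 0, 3, 3, 3, 3, 0, 3, 1, 3],
  .root 212 64 true [] [0, 2, 0, 2, 2, 0, 2, 2, 2, 2, 2, 0, 2, 1, 3],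
  .step 49 212 [44] [2, 0, 2, 2, 0, 2, 1, 2],
  .root 48 65 false [] [3, 3, 3, 3, 0, 3, 3, 0, 3, 3, 0, 2],
  .step 211 48 [44] [0, 2, 2, 0, 3, 3, 3, 3, 3, 0, 3, 1, 3, 3],
  .root 248 67 false [] [3, 3, 3, 0, 2, 2, 2, 1, 3, 3, 3],
  .step 249 248 [44] [0, 2, 2, 2, 2, 0, 3, 3, 3, 3, 1, 3],
  .root 223 70 false [] [2, 0, 2, 0, 2, 2, 2, 2, 2, 2, 0, 3],
  .step 67 223 [40] [0, 3, 0, 3, 0, 2, 2, 2, 1, 3, 3, 3],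
  .step 58 223 [42] [0, 2, 0, 2, 0, 3, 3, 3, 0, 2, 2, 2, 2, 2],
  .step 122 223 [44] [2, 0, 3, 3, 0, 3, 3, 0, 3, 3, 3, 1, 2],
  .step 157 223 [45] [3, 0, 3, 3, 3, 0, 3, 3, 0, 3, 0, 3],
  .step 28 67 [44] [3, 0, 3, 3, 0, 2, 2, 2],
  .step 85 67 [45] [3, 0, 3, 3, 0, 2, 2, 2, 0, 3, 3, 3, 3],
  .step 217 58 [40] [0, 2, 0, 2, 0, 2, 0, 3, 3, 3, 0, 2, 2],
  .step 222 122 [44] [2, 0, 3, 3, 0, 3, 3, 3, 3, 3, 1, 3],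
  .step 153 157 [40] [2, 0, 3, 3, 3, 0, 3, 3, 1, 3, 3, 3],
  .root 225 71 false [] [0, 2, 0, 2, 0, 2, 2, 2, 2, 2, 2, 0, 3],
  .step 46 225 [40] [0, 3, 0, 3, 0, 2, 2, 2, 0, 3, 3, 3, 0],
  .step 78 225 [42] [0, 2, 0, 2, 0, 3, 3, 3, 0, 2, 2, 2, 2, 2],
  .step 118 225 [44] [2, 0, 3, 3, 0, 3, 3, 0, 3, 3, 3, 1, 2],
  .step 159 225 [45] [3, 0, 3, 3, 3, 0, 3, 3, 0, 3, 0, 3],
  .step 14 46 [44] [0, 3, 0, 3, 3, 0, 2, 2, 2, 1],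
  .step 81 46 [45] [0, 3, 0, 3, 3, 0, 2, 2, 2, 0, 3, 3, 3, 3],
  .step 214 78 [40] [0, 2, 0, 2, 0, 2, 0, 3, 3, 3, 0, 2, 2],
  .step 219 118 [44] [2, 0, 3, 3, 0, 3, 3, 3, 3, 3, 1, 3],
  .step 155 159 [40] [2, 0, 3, 3, 3, 0, 3, 3, 1, 3, 3, 3],
  .root 174 73 false [] [2, 2, 0, 2, 0, 2, 2, 2, 0, 2, 2, 0, 2, 2],
  .step 148 174 [40] [0, 2, 0, 2, 0, 2, 0, 3, 3, 3, 1, 2, 2],
  .step 75 174 [42] [0, 3, 3, 3, 0, 3, 3, 0, 3, 1, 3, 3, 3],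
  .step 164 174 [44] [2, 2, 2, 0, 2, 2, 0, 2, 2, 0, 2, 2, 0, 2],
  .step 229 174 [45] [0, 2, 2, 2, 2, 2, 2, 0, 2, 2, 2, 1, 2],
  .step 20 148 [42] [0, 2, 0, 2, 0, 2, 2, 2, 2, 2, 1, 2],
  .step 64 148 [44] [2, 2, 0, 2, 0, 2, 2, 2, 0, 2, 2, 1, 3, 3],
  .step 201 75 [40] [3, 3, 0, 3, 0, 3, 3, 1],
  .step 177 75 [44] [0, 2, 0, 2, 2, 2, 1, 2, 2],
  .step 235 75 [45] [0, 3, 3, 3, 3, 3, 0, 2, 2, 2, 1, 2, 2],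
  .root 38 77 true [] [0, 2, 2, 2, 0, 2, 2, 0, 2, 2, 2, 2, 1, 2],
  .step 44 38 [42] [3, 0, 3, 3, 0, 2, 2, 2, 0, 2, 2, 2],
  .step 114 38 [44] [0, 2, 0, 2, 2, 0, 3, 3, 3, 3, 3, 0, 3],
  .step 96 38 [45] [2, 2, 2, 0, 3, 3, 3, 0],
  .step 113 44 [40] [0, 2, 2, 0, 3, 3, 3, 3, 0, 3, 3, 0, 3, 0, 2],
  .step 45 44 [44] [0, 2, 0, 2, 0, 2, 2, 0, 2, 2, 0, 3, 3, 3],
  .step 37 114 [42] [0, 3, 0, 3, 0, 3, 3, 0, 3, 3, 1, 2, 2],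
  .step 36 114 [44] [0, 2, 2, 0, 2, 0, 2, 2, 2, 0, 2, 0, 2],
  .step 39 113 [45] [2, 0, 2, 2, 2, 0, 2, 2, 0, 3, 3, 3, 0],
  .step 95 37 [44] [0, 2, 0, 2, 2, 0, 2, 0, 2, 2, 2, 2, 2, 0, 3, 3],
  .root 176 83 false [] [2, 2, 2, 2, 0, 2, 2, 0, 3, 3, 3, 1],
  .step 162 176 [40] [2, 2, 2, 0, 2, 2, 0, 2, 2, 2, 2, 0, 2, 1],
  .step 34 176 [44] [0, 3, 3, 0, 3, 3, 0, 3, 3, 0, 3, 3, 0, 3, 1],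
  .step 77 176 [45] [3, 3, 0, 3, 3, 3, 0, 3, 0],
  .step 232 162 [42] [0, 2, 0, 2, 0, 2, 2, 0, 2, 2, 0, 2],
  .step 203 162 [44] [2, 0, 2, 0, 2, 2, 2, 0, 2, 0, 3],
  .step 171 162 [45] [2, 2, 2, 0, 2, 2, 0, 2, 2, 0, 2, 2, 0, 2],
  .step 150 34 [42] [3, 0, 3, 3, 3, 3, 3, 0, 3, 0, 3, 1],
  .step 70 232 [40] [2, 2, 0, 2, 0, 2, 2, 2, 2, 2, 2, 0, 2, 0, 2],
  .step 231 203 [44] [0, 2, 0, 3, 3, 3, 3, 0, 3, 3, 0, 3, 3, 3, 1, 2],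
  .root 25 86 true [] [0, 2, 2, 2, 2, 2, 2, 0, 2, 2, 1, 2, 2, 2],
  .step 112 25 [40] [2, 2, 0, 3, 3, 3, 3, 0, 3, 3, 0, 3, 1, 2],
  .step 54 25 [42] [3, 0, 3, 0, 2, 2, 2, 2, 1, 2, 2],
  .step 26 25 [44] [0, 3, 3, 0, 3, 3, 0, 2, 2, 2, 1, 3, 3, 3],
  .step 53 112 [42] [0, 3, 0, 3, 0, 3, 3, 0, 3, 3, 1, 2, 2],
  .step 55 112 [44] [0, 2, 2, 0, 2, 0, 2, 2, 2, 0, 2, 0, 2],
  .step 56 112 [45] [2, 0, 2, 2, 2, 0, 2, 2, 0, 3, 3, 3, 0],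
  .step 111 54 [44] [0, 2, 0, 2, 2, 0, 3, 3, 3, 3, 3, 0, 3],
  .step 98 54 [45] [2, 2, 2, 0, 3, 3, 3, 0],
  .step 97 53 [40] [2, 2, 0, 3, 3, 3, 3, 0, 3, 3, 0, 3, 0, 2],
  .root 99 87 true [] [3, 3, 0, 3, 3, 3, 0, 3, 3, 1, 3, 3, 3],
  .step 197 99 [40] [0, 2, 2, 0, 2, 0, 2, 0, 3, 3, 3, 3, 0, 3, 3],
  .step 192 99 [42] [2, 2, 2, 0, 3, 3, 3, 1, 2, 2],
  .step 11 99 [44] [3, 0, 3, 3, 0, 2, 2, 2, 1],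
  .step 87 99 [45] [3, 0, 3, 3, 0, 3, 0],
  .step 188 197 [42] [2, 2, 0, 3, 3, 3, 0, 2, 2, 2, 1, 2, 2, 2, 2],
  .step 33 197 [44] [0, 3, 3, 0, 2, 2, 2, 2, 2, 0, 2],
  .step 71 197 [45] [2, 0, 2, 2, 0, 2, 2, 2, 2, 1, 3],
  .step 109 192 [40] [2, 0, 2, 2, 0, 3, 3, 3, 0, 3, 3, 3, 3, 3, 1],
  .step 238 192 [44] [2, 0, 2, 0, 2, 0, 3, 3, 3, 1, 2, 2, 2],
  .step 244 192 [45] [0, 3, 1, 2],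
  .step 106 11 [42] [0, 3, 3, 3, 3, 0, 2],
  .step 140 11 [44] [0, 2, 2, 2, 0, 2, 2, 2, 2, 2, 0, 2, 2, 1],
  .step 193 87 [40] [3, 3, 0, 3, 0, 3, 3, 0],
  .step 130 188 [40] [0, 2, 0, 2, 0, 2, 0, 3, 3, 3, 0, 2, 2],
  .step 167 33 [44] [2, 2, 2, 2, 2, 2, 0, 3, 3, 3, 1, 2, 2],
  .step 182 109 [45] [0, 2, 0, 3, 3, 3, 0, 2, 2, 2, 1, 3, 3],
  .step 124 238 [42] [0, 2, 0, 2, 0, 2, 2, 2, 2, 0, 3, 3, 3, 0],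
  .step 135 106 [44] [0, 3, 3, 3, 0, 3, 3, 0, 2, 2, 2, 2, 1],
  .step 146 193 [44] [0, 3, 3],
  .root 10 92 false [] [0, 2, 0, 2, 0, 2, 0, 3, 3, 3, 3, 3, 0, 3, 0, 3],
  .step 237 10 [40] [0, 2, 0, 2, 2, 0, 2, 2, 2, 1],
  .step 105 10 [42] [0, 3, 3, 3, 3, 0, 2],
  .step 139 10 [44] [0, 2, 2, 2, 0, 2, 2, 2, 2, 2, 0, 2, 2, 1],
  .step 100 10 [45] [0, 3, 0, 3, 3, 0, 2, 2, 2],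
  .step 125 237 [42] [0, 2, 0, 2, 0, 2, 2, 2, 2, 0, 3, 3, 3, 0],
  .step 187 237 [44] [0, 3, 0, 3, 3, 0, 3, 3, 0, 3, 3, 3, 0, 3, 1],
  .step 191 237 [45] [3, 0, 3, 0, 3, 0, 2, 2, 2, 1, 3, 3, 3],
  .step 69 105 [40] [3, 0, 3, 0, 2, 2, 2, 2, 0, 2, 2, 1, 2, 2],
  .step 134 105 [44] [0, 3, 3, 3, 0, 3, 3, 0, 2, 2, 2, 2, 1],
  .step 129 105 [45] [2, 2, 2, 0, 2, 2, 2, 2, 2, 0, 2, 2, 1],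
  .step 108 139 [42] [0, 2, 0, 2, 2, 2, 0, 3, 3, 3, 3, 3],
  .step 88 139 [44] [0, 2, 2, 2, 2, 2, 1, 2, 2, 2, 2, 2],
  .step 198 100 [40] [0, 2, 2, 0, 2, 0, 2, 0, 3, 3, 3, 3, 0, 3, 3],
  .step 183 125 [40] [0, 2, 0, 3, 3, 3, 0, 3, 3, 0, 3, 3, 1],
  .step 243 187 [44] [0, 2, 2, 0, 3, 3, 3, 0, 3, 3, 3, 3],
  .step 166 69 [45] [0, 3, 3, 3, 3, 0, 3, 3, 0, 3, 3, 0, 2],
  .step 145 134 [42] [0, 3, 3, 3, 0, 3, 0, 3, 3, 1, 3],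
  .step 194 108 [44] [2, 2, 0, 2, 2, 2, 2, 2, 2, 1, 3, 3],
  .step 31 198 [44] [0, 3, 3, 0, 2, 2, 2, 2, 2, 0, 2],
  .root 224 132 false [] [2, 0, 2, 0, 2, 2, 2, 2, 2, 2, 1, 3],
  .step 68 224 [40] [0, 3, 0, 3, 0, 2, 2, 2, 1, 3, 3, 3],
  .step 59 224 [42] [0, 2, 0, 2, 0, 3, 3, 3, 0, 2, 2, 2, 2, 2],
  .step 121 224 [44] [2, 0, 3, 3, 0, 3, 3, 0, 3, 3, 3, 1, 2],
  .step 158 224 [45] [3, 0, 3, 3, 3, 0, 3, 3, 0, 3, 0, 3],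
  .step 27 68 [44] [3, 0, 3, 3, 0, 2, 2, 2],
  .step 84 68 [45] [3, 0, 3, 3, 0, 2, 2, 2, 0, 3, 3, 3, 3],
  .step 216 59 [40] [0, 2, 0, 2, 0, 2, 0, 3, 3, 3, 0, 2, 2],
  .step 221 121 [44] [2, 0, 3, 3, 0, 3, 3, 3, 3, 3, 1, 3],
  .step 154 158 [40] [2, 0, 3, 3, 3, 0, 3, 3, 1, 3, 3, 3],
  .root 16 173 false [] [],
  .step 241 16 [40] [0, 2, 0, 2, 2, 0, 2, 2, 2, 1],
  .step 195 16 [42] [2, 2, 0, 2, 2, 0, 3, 3, 3, 3, 0, 3, 0],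
  .step 169 16 [44] [2, 2, 2, 2, 2, 2, 0, 3, 3, 3, 1, 2, 2],
  .step 199 16 [45] [3, 0, 3, 3, 3, 0, 3, 3, 1, 2, 2],
  .step 181 241 [42] [2, 0, 2, 0, 3, 3, 3, 1, 2, 2, 2, 2],
  .step 189 241 [44] [0, 3, 1, 2],
  .step 185 241 [45] [2, 0, 2, 0, 2, 0, 3, 3, 3, 3, 1, 3],
  .step 89 195 [40] [0, 2, 2, 0, 2, 1, 2, 2],
  .step 143 195 [44] [0, 3, 3],
  .step 116 195 [45] [2, 2, 0, 2, 2, 2, 2, 2, 2, 1, 3, 3],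
  .step 132 169 [42] [0, 3, 0, 3, 3, 0, 3, 3],
  .step 62 169 [44] [2, 0, 2, 2, 2, 2, 2, 2, 1, 3, 3, 3, 3],
  .step 93 199 [40] [2, 0, 2, 2, 0, 3, 3, 3, 0, 3, 3, 3, 3, 3, 0],
  .step 126 181 [40] [0, 2, 0, 2, 2, 0, 3, 3, 3, 3, 3, 1, 2],
  .step 240 189 [44] [2, 0, 2, 0, 2, 0, 3, 3, 3, 1, 2, 2, 2],
  .step 142 89 [45] [3, 3, 3, 3, 3, 0, 3, 3, 3, 3, 3, 1],
  .step 137 143 [42] [0, 2, 0, 2, 2, 0, 2, 1, 2, 2, 2],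
  .step 102 132 [44] [0, 3, 3, 0, 3, 3, 3, 3, 3, 0, 3, 3, 3],
  .step 22 93 [44] [3, 0, 3, 3, 0, 2, 2, 2],
  .root 242 174 true [] [0, 2, 0, 2, 2, 0, 2, 2, 2, 1],
  .step 17 242 [40] [0, 3, 3, 3, 0, 3, 3, 0, 3, 1],
  .step 180 242 [42] [2, 0, 2, 0, 3, 3, 3, 1, 2, 2, 2, 2],
  .step 190 242 [44] [0, 3, 1, 2],
  .step 186 242 [45] [2, 0, 2, 0, 2, 0, 3, 3, 3, 3, 1, 3],
  .step 196 17 [42] [2, 2, 0, 2, 2, 0, 3, 3, 3, 3, 0, 3, 0],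
  .step 168 17 [44] [2, 2, 2, 2, 2, 2, 0, 3, 3, 3, 1, 2, 2],
  .step 200 17 [45] [3, 0, 3, 3, 3, 0, 3, 3, 1, 2, 2],
  .step 127 180 [40] [0, 2, 0, 2, 2, 0, 3, 3, 3, 3, 3, 1, 2],
  .step 115 180 [44] [2, 0, 2, 0, 3, 3, 3, 0, 2, 2, 2, 1, 3],
  .step 144 180 [45] [0, 3, 0, 3, 3, 3, 0, 3, 3, 0, 3, 3, 3, 0],
  .step 92 190 [42] [3, 3, 0, 2, 2, 2, 1, 3, 3, 3],
  .step 239 190 [44] [2, 0, 2, 0, 2, 0, 3, 3, 3, 1, 2, 2, 2],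
  .step 131 186 [40] [0, 2, 0, 2, 0, 2, 0, 3, 3, 3, 0, 2, 2],
  .step 90 196 [40] [0, 2, 2, 0, 2, 1, 2, 2],
  .step 63 168 [44] [2, 0, 2, 2, 2, 2, 2, 2, 1, 3, 3, 3, 3],
  .step 136 127 [45] [2, 0, 3, 3, 3, 3, 3, 0, 2, 2, 2, 2],
  .step 141 115 [42] [0, 2, 2, 2, 0, 2, 0, 2, 2, 0, 2, 2],
  .step 23 92 [44] [3, 0, 3, 3, 0, 2, 2, 2],
  .step 103 131 [44] [0, 3, 3, 0, 3, 3, 3, 3, 3, 0, 3, 3, 3]]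

/-- the cover of node 7 -/
def cv7 : List Cv := [
  .root 0 48 true [] [],
  .step 42 0 [50] [0, 2, 2, 0, 2, 2, 2, 2, 0, 2, 2, 1, 3],
  .root 3 49 true [] [3, 3, 3, 0, 3, 3, 0, 3, 3, 0, 3, 1],
  .step 41 3 [50] [0, 2, 2, 0, 2, 2, 2, 2, 0, 2, 2, 1, 3],
  .root 4 50 true [] [3, 3, 3, 0, 3, 3, 0, 3, 3, 0, 3, 0],
  .step 49 4 [50] [0, 2, 2, 0, 2, 2, 2, 2, 0, 2, 2, 1, 3],
  .root 7 51 true [] [0, 0],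
  .step 48 7 [50] [2, 2, 0, 2, 2, 2, 2, 0, 2, 2, 1, 3],
  .root 8 52 false [] [0, 0],
  .step 21 8 [50] [2, 2, 0, 2, 2, 2, 2, 0, 2, 2, 1, 3],
  .root 207 53 true [] [0, 2, 0, 3, 3, 3, 0, 2, 2, 2, 2, 2, 0, 2, 1, 3],
  .step 247 207 [50] [0, 3, 3, 0, 3, 0, 3, 3, 1, 3, 3, 3, 3],
  .root 206 54 false [] [3, 0, 2, 2, 0, 2, 2, 2, 2, 1, 3, 3],
  .step 35 206 [46] [0, 3, 0, 3, 0, 2, 2, 2, 0, 3, 3, 3, 1],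
  .step 24 206 [48] [0, 2, 0, 2, 0, 3, 3, 3, 0, 2, 2, 2, 2, 2],
  .step 178 206 [50] [0, 2, 2, 2, 0, 2, 2, 2, 2, 1, 3, 3],
  .step 234 35 [50] [2, 2, 0, 2, 2, 2, 0, 2, 1, 3, 3],
  .step 228 35 [51] [2, 2, 0, 2, 0, 2, 2, 2, 0, 2, 2, 0],
  .step 208 24 [46] [0, 2, 0, 2, 0, 2, 0, 3, 3, 3, 1, 2, 2],
  .step 65 24 [50] [0, 2, 2, 0, 3, 3, 3, 3, 1, 2, 2, 2, 2],
  .step 165 24 [51] [2, 0, 2, 0, 3, 3, 3, 3, 1, 3, 3, 3, 3, 3],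
  .step 205 208 [48] [2, 2, 2, 2, 0, 2, 2, 0, 2, 2, 2, 1, 2, 2],
  .root 245 55 false [] [0, 2, 0, 2, 2, 0, 2, 2, 0, 2, 2, 2, 2, 0, 2],
  .step 221 245 [50] [0, 3, 0, 2, 2, 2, 0, 2, 2, 2, 2, 2, 0, 2, 0],
  .root 170 56 false [] [3, 3, 3, 0, 3, 3, 3, 0, 2],
  .step 60 170 [46] [0, 2, 2, 0, 2, 1, 2, 2],
  .step 185 170 [50] [2, 2, 0, 2, 0, 3, 3, 3, 3],
  .step 28 170 [51] [0, 2, 2, 0, 2, 0, 2, 2, 2, 1, 2, 2, 2],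
  .step 152 60 [48] [0, 2, 2, 2, 2, 2, 0, 3, 3, 3, 3, 0, 2],
  .step 90 60 [50] [0, 3, 0, 2, 2, 2, 2, 0, 2, 2, 0, 2, 2, 0],
  .step 132 185 [46] [0, 2, 0, 2, 0, 2, 0, 3, 3, 3, 0, 2, 2],
  .step 94 185 [50] [0, 3, 0, 2, 2, 0, 2, 2, 2, 0, 2, 2, 2],
  .step 196 152 [51] [2, 2, 2, 0, 2, 0, 3, 3, 3],
  .step 2 132 [50] [2, 2, 0, 2, 2, 2, 2, 2, 0, 2, 0, 3],
  .root 18 57 true [] [0, 2, 2, 2, 0, 2, 2, 0, 2, 2, 0, 2],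
  .step 39 18 [50] [0, 2, 2, 0, 2, 2, 0, 2, 2, 2, 0, 2, 0, 3],
  .root 15 59 false [] [0, 2, 2, 0, 2, 2, 0, 2, 2, 2, 0, 2, 0, 2],
  .step 66 15 [46] [2, 2, 0, 3, 3, 3, 3, 0, 3, 3, 0, 3, 0, 2],
  .step 12 15 [48] [3, 0, 3, 0, 2, 2, 2, 2, 0, 2, 2],
  .step 20 15 [50] [0, 2, 0, 2, 0, 2, 2, 0, 2, 2, 1, 2, 2, 2],
  .step 142 15 [51] [0, 3, 0, 2, 2, 2, 0, 2, 2],
  .step 9 66 [48] [0, 3, 0, 3, 0, 3, 3, 0, 3, 3, 1, 2, 2],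
  .step 137 66 [50] [0, 3, 0, 2, 2, 2, 2, 0, 2],
  .step 103 66 [51] [2, 0, 2, 2, 2, 0, 2, 1, 2, 2],
  .step 83 20 [50] [0, 2, 2, 0, 2, 2, 0, 2, 0, 2, 2, 2, 2, 0, 2],
  .step 63 142 [48] [0, 2, 0, 3, 3, 0, 3, 3, 3, 0, 3, 1, 3, 3, 3],
  .root 40 60 false [] [3, 3, 3, 0, 3, 3, 3, 3, 1, 2],
  .step 73 40 [46] [3, 3, 0, 3, 3, 0, 3, 3, 3, 0, 3, 1, 2, 2],
  .step 104 40 [48] [0, 2, 0, 2, 0, 3, 3, 3, 3, 3, 0, 3, 1, 3, 3],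
  .step 45 40 [50] [0, 3, 3, 0, 2, 2, 2, 0, 3, 3, 3, 0],
  .step 96 73 [50] [3, 3, 0, 3, 0, 3, 3, 3, 0, 3],
  .step 52 73 [51] [0, 3, 3, 3, 3, 0],
  .step 101 104 [46] [2, 0, 3, 3, 3, 0, 3, 3, 1, 3, 3, 3],
  .step 37 104 [50] [3, 3, 0, 3, 3, 0, 3, 1, 2],
  .step 114 104 [51] [0, 2, 0, 2, 0, 2, 0, 3, 3, 3, 3, 3, 1, 3],
  .step 6 101 [48] [0, 2, 2, 2, 0, 2, 2, 2, 2, 2, 1, 2, 2],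
  .root 220 61 false [] [2, 2, 2, 0, 3, 3, 3, 3, 3, 0, 3, 1],
  .step 249 220 [50] [0, 3, 3, 0, 3, 0, 3, 3, 1, 3, 3, 3, 3],
  .root 87 62 false [] [0, 2, 0, 2, 0, 3, 3, 3, 3, 0, 3, 3, 1],
  .step 193 87 [46] [3, 3, 0, 3, 0, 3, 3, 0],
  .step 187 87 [48] [0, 2, 2, 2, 2, 2, 0, 3, 3, 3, 3, 0, 2],
  .step 14 193 [51] [2, 2, 0, 3, 3, 3, 3, 3, 0, 3, 3, 3],
  .step 129 187 [46] [0, 2, 0, 2, 0, 2, 0, 3, 3, 3, 0, 2, 2],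
  .root 56 63 false [] [0, 3, 3, 3, 0, 3, 1, 3, 3],
  .root 248 64 false [] [0, 2, 2, 0, 2, 0, 2, 2, 2, 2, 2, 0, 2, 2, 0, 2],
  .step 222 248 [50] [0, 3, 0, 2, 2, 2, 0, 2, 2, 2, 2, 2, 0, 2, 0],
  .root 219 65 true [] [2, 0, 2, 2, 2, 0, 2, 2, 2, 2, 1],
  .step 246 219 [50] [0, 3, 3, 0, 3, 0, 3, 3, 1, 3, 3, 3, 3],
  .root 194 66 false [] [0, 3, 3, 3, 1, 2],
  .step 88 194 [46] [0, 2, 2, 0, 2, 1, 2, 2],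
  .step 186 194 [50] [2, 2, 0, 2, 0, 3, 3, 3, 3],
  .step 27 194 [51] [0, 2, 2, 0, 2, 0, 2, 2, 2, 1, 2, 2, 2],
  .step 188 88 [48] [0, 2, 2, 2, 2, 2, 0, 3, 3, 3, 3, 0, 2],
  .step 89 88 [50] [0, 3, 0, 2, 2, 2, 2, 0, 2, 2, 0, 2, 2, 0],
  .step 131 186 [46] [0, 2, 0, 2, 0, 2, 0, 3, 3, 3, 0, 2, 2],
  .step 130 186 [50] [0, 3, 0, 2, 2, 0, 2, 2, 2, 0, 2, 2, 2],
  .step 195 188 [51] [2, 2, 2, 0, 2, 0, 3, 3, 3],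
  .step 13 131 [50] [2, 2, 0, 2, 2, 2, 2, 2, 0, 2, 0, 3],
  .root 38 67 true [] [3, 0, 3, 3, 3, 3, 3, 0, 2, 2, 2, 0, 2],
  .step 54 38 [50] [0, 2, 2, 0, 2, 2, 0, 2, 2, 2, 0, 2, 0, 3],
  .root 95 68 false [] [0, 2, 2, 0, 2, 0, 2, 2, 0, 2, 2, 0, 2, 2],
  .step 36 95 [46] [0, 2, 2, 0, 2, 2, 2, 2, 0, 3, 3, 3, 0, 2],
  .step 44 95 [48] [0, 3, 0, 3, 0, 3, 3, 3, 3, 0, 2, 2],
  .step 135 95 [50] [0, 3, 0, 2, 2, 2, 2, 0, 2],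
  .step 105 95 [51] [2, 0, 2, 2, 2, 0, 2, 1, 2, 2],
  .step 51 36 [48] [3, 0, 3, 0, 2, 2, 2, 2, 0, 2, 2, 0],
  .step 32 36 [50] [0, 2, 0, 2, 0, 2, 2, 0, 2, 2, 1, 2, 2, 2],
  .step 140 36 [51] [0, 3, 0, 2, 2, 2, 0, 2, 2],
  .step 113 44 [46] [0, 2, 2, 0, 3, 3, 3, 3, 0, 3, 3, 0, 3, 0, 2],
  .step 69 44 [50] [3, 0, 3, 3, 3, 0, 3, 3, 0, 3, 3, 3, 0, 3],
  .root 139 74 false [] [0, 2, 2, 0, 2, 0, 2, 2, 1],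
  .step 134 139 [46] [2, 0, 3, 3, 3, 0, 3, 3, 1, 3, 3, 3],
  .step 71 139 [48] [0, 2, 0, 3, 3, 0, 3, 3, 3, 0, 3, 1, 3, 3, 3],
  .step 55 139 [50] [3, 3, 0, 3, 3, 0, 3, 1, 2],
  .step 111 139 [51] [0, 2, 0, 2, 0, 2, 0, 3, 3, 3, 3, 3, 1, 3],
  .step 34 134 [48] [0, 2, 2, 2, 0, 2, 2, 2, 2, 2, 1, 2, 2],
  .step 30 134 [50] [2, 0, 2, 2, 2, 0, 2, 0, 2, 2],
  .step 98 134 [51] [3, 0, 3, 3, 3, 0, 3, 1, 2],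
  .step 106 71 [46] [3, 3, 0, 3, 3, 0, 3, 3, 3, 0, 3, 1, 2, 2],
  .step 26 71 [50] [0, 3, 3, 0, 2, 2, 2, 0, 3, 3, 3],
  .root 197 84 true [] [0, 2, 2, 0, 2, 2, 2, 2, 2, 2],
  .step 99 197 [46] [2, 0, 2, 2, 0, 3, 3, 3, 0, 3, 3, 3, 3, 3, 0],
  .step 109 197 [48] [3, 3, 0, 2, 2, 2, 1, 3, 3, 3],
  .step 241 197 [50] [0, 2, 0, 3, 3, 3, 3, 3, 0, 3, 3, 1, 3, 3, 3],
  .step 84 197 [51] [3, 3, 0, 3, 0, 3, 3, 3, 3, 3, 1, 2],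
  .step 160 99 [48] [0, 2, 2, 2, 0, 2, 0, 2, 2, 1, 2, 2],
  .step 144 99 [50] [2, 2, 0, 2, 2, 2, 2, 0],
  .step 22 99 [51] [3, 0, 3, 3, 3, 0, 3, 3, 0, 3, 3, 3, 0, 3],
  .step 192 109 [46] [0, 2, 2, 0, 2, 0, 2, 0, 3, 3, 3, 3, 1, 3, 3],
  .step 202 109 [50] [3, 0, 2, 2, 0, 2, 1, 3, 3, 3, 3],
  .step 121 109 [51] [2, 0, 2, 2, 2, 0, 2, 0, 2, 0, 3, 3, 3, 3],
  .step 16 241 [46] [0, 3, 3, 3, 0, 3, 3, 0, 3, 1],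
  .step 156 241 [50] [0, 2, 2, 2, 0, 2, 0, 2, 1, 3, 3, 3],
  .step 74 84 [48] [3, 3, 0, 3, 3, 0, 3, 3, 3, 0, 3, 0, 2],
  .step 240 160 [51] [3, 3, 3, 0, 3, 0, 3, 3, 1],
  .step 168 144 [46] [0, 2, 0, 3, 3, 3, 0, 3, 3, 0, 3, 3, 0],
  .step 172 192 [48] [2, 2, 0, 3, 3, 3, 0, 2, 2, 2, 1, 2, 2, 2, 2],
  .step 151 202 [50] [0, 3, 3, 0, 2, 2, 2, 1, 2, 2, 2, 2, 2, 2],
  .step 125 16 [50] [0, 2, 2, 0, 2, 0, 3, 3, 3, 3, 0, 3, 3, 1, 3],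
  .step 183 74 [50] [3, 0, 3, 3, 0, 2, 2, 2, 1, 2, 2, 2, 2, 2],
  .root 119 85 true [] [0, 2, 0, 3, 3, 0, 3, 3, 3, 0, 3, 3, 1, 3],
  .step 82 119 [46] [3, 0, 3, 0, 2, 2, 2, 2, 0, 2, 2, 1, 2, 2],
  .step 31 119 [48] [3, 0, 2, 2, 2, 2, 0],
  .step 115 119 [50] [2, 2, 0, 2, 0, 2, 0, 3, 3, 3, 3, 3, 0, 3],
  .step 149 119 [51] [3, 3, 0, 3, 3, 3, 3, 3, 0, 3, 0, 3, 1],
  .step 76 82 [48] [3, 3, 0, 3, 3, 0, 3, 3, 3, 0, 3, 0, 2],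
  .step 200 82 [50] [3, 0, 2, 2, 2, 2, 2, 0, 2, 0, 2, 2],
  .step 154 82 [51] [3, 0, 3, 3, 3, 3, 1, 2, 2],
  .step 243 31 [46] [0, 2, 0, 2, 2, 0, 2, 2, 2, 1],
  .step 126 31 [50] [0, 2, 2, 0, 2, 0, 3, 3, 3, 3, 0, 3, 3, 1, 3],
  .step 173 31 [51] [0, 2, 2, 2, 0, 3, 3, 3, 3, 0, 3, 3, 0],
  .step 190 115 [46] [0, 2, 2, 0, 2, 0, 2, 0, 3, 3, 3, 3, 1, 3, 3],
  .step 204 115 [50] [3, 0, 2, 2, 0, 2, 1, 3, 3, 3, 3],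
  .step 181 149 [48] [2, 2, 0, 2, 2, 0, 2, 1],
  .step 158 76 [51] [3, 3, 0, 2, 2, 2, 2, 2, 2, 0, 3, 3],
  .step 92 200 [46] [2, 0, 2, 2, 0, 3, 3, 3, 0, 3, 3, 3, 3, 3, 0],
  .step 146 243 [48] [0, 2, 0, 2, 0, 2, 2, 2, 2, 0, 3, 3, 3, 0],
  .step 167 126 [50] [2, 0, 2, 2, 2, 2, 0, 2, 2, 0, 2, 2, 0, 2],
  .step 10 190 [50] [1],
  .step 237 181 [50] [0, 3, 0, 3, 0, 3, 3, 3, 0, 3, 3, 1, 2, 2, 2],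
  .root 102 95 true [] [3, 0, 3, 0, 3, 0],
  .step 62 102 [46] [3, 0, 3, 0, 2, 2, 2, 2, 0, 2, 2, 1, 2, 2],
  .step 97 102 [50] [3, 3, 0, 3, 0, 3, 3, 3, 0, 3],
  .step 29 102 [51] [0, 3, 3, 3, 3],
  .step 141 62 [48] [0, 2, 0, 2, 0, 3, 3, 3, 3, 3, 0, 3, 1, 3, 3],
  .step 25 62 [50] [0, 3, 3, 0, 2, 2, 2, 0, 3, 3, 3],
  .step 53 97 [46] [0, 2, 2, 0, 2, 2, 2, 2, 0, 3, 3, 3, 0, 2],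
  .step 136 97 [50] [0, 3, 0, 2, 2, 2, 2, 0, 2],
  .step 112 141 [51] [0, 2, 0, 2, 0, 2, 0, 3, 3, 3, 3, 3, 1, 3],
  .step 19 53 [50] [0, 2, 0, 2, 0, 2, 2, 0, 2, 2, 1, 2, 2, 2],
  .root 229 97 false [] [0, 2, 0, 2, 0, 3, 3, 3, 3, 1, 3, 3, 3, 3],
  .step 64 229 [48] [2, 2, 2, 0, 3, 3, 3, 0, 2, 2, 2, 2, 2, 0],
  .step 78 229 [50] [0, 3, 3, 0, 3, 3, 3, 0, 3, 0, 3, 3],
  .step 225 229 [51] [2, 2, 0, 2, 2, 2, 0, 2, 2, 0, 2, 2, 2, 2],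
  .step 235 64 [46] [3, 0, 3, 0, 2, 2, 2, 2, 2, 0, 2, 0, 3, 3, 3],
  .step 212 64 [50] [],
  .step 46 64 [51] [0, 2, 2, 0, 3, 3, 3, 3, 0, 2, 2, 2, 2],
  .step 214 78 [46] [0, 2, 0, 2, 0, 2, 0, 3, 3, 3, 0, 2, 2],
  .step 177 235 [48] [0, 2, 2, 0, 2, 2, 2, 2, 0, 2, 2, 0, 2, 2],
  .step 164 212 [50] [0, 2, 0, 2, 0, 2, 2, 0, 2, 2, 1, 2, 2, 2, 2],
  .root 232 106 true [] [0, 3, 3, 0, 3, 3, 3, 3, 0, 2, 2, 2, 1],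
  .step 70 232 [46] [2, 2, 0, 2, 0, 2, 2, 2, 2, 2, 2, 0, 2, 0, 2],
  .step 176 232 [48] [0, 2, 2, 0, 2, 2, 2, 2, 0, 2, 2, 0, 2, 2],
  .step 223 232 [50] [0, 2, 0, 3, 3, 3, 0, 3, 3, 3, 3, 3, 0],
  .step 58 232 [51] [2, 0, 2, 0, 3, 3, 3, 3, 0, 3, 3],
  .step 231 70 [48] [0, 3, 3, 3, 3, 3, 0, 2, 2, 2, 1, 3, 3, 3],
  .step 210 70 [50] [],
  .step 67 70 [51] [3, 3, 3, 3, 0, 2, 2, 2, 2, 1, 3, 3],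
  .step 162 176 [46] [2, 2, 2, 0, 2, 2, 0, 2, 2, 2, 2, 0, 2, 1],
  .step 217 176 [50] [0, 3, 0, 3, 0, 3, 0, 2, 2, 2, 1, 3],
  .root 218 134 false [] [0, 2, 2, 2, 0, 2, 2, 2, 2, 2, 2, 0],
  .step 43 218 [46] [2, 2, 0, 2, 0, 2, 2, 2, 2, 2, 2, 0, 2, 0, 2],
  .step 138 218 [48] [0, 2, 2, 0, 2, 2, 2, 2, 0, 2, 2, 0, 2, 2],
  .step 224 218 [50] [0, 2, 0, 3, 3, 3, 0, 3, 3, 3, 3, 3, 0],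
  .step 59 218 [51] [2, 0, 2, 0, 3, 3, 3, 3, 0, 3, 3],
  .step 213 43 [48] [0, 3, 3, 3, 3, 3, 0, 2, 2, 2, 1, 3, 3, 3],
  .step 209 43 [50] [],
  .step 68 43 [51] [3, 3, 3, 3, 0, 2, 2, 2, 2, 1, 3, 3],
  .step 123 138 [46] [2, 2, 2, 0, 2, 2, 0, 2, 2, 2, 2, 0, 2, 1],
  .step 216 138 [50] [0, 3, 0, 3, 0, 3, 0, 2, 2, 2, 1, 3],
  .root 227 135 true [] [2, 2, 0, 3, 3, 3, 1, 3, 3, 3, 3, 3],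
  .step 1 227 [46] [0, 3, 3, 3, 0, 3, 3, 0, 3, 1],
  .step 128 227 [48] [2, 0, 2, 0, 3, 3, 3, 1, 2, 2, 2, 2],
  .step 157 227 [50] [0, 2, 2, 0, 2, 0, 2, 2, 2],
  .step 180 227 [51] [0, 2, 0, 2, 2, 2, 0, 2, 2, 2, 2, 2, 2, 1, 3],
  .step 184 1 [48] [2, 2, 0, 2, 2, 0, 3, 3, 3, 3, 0, 3, 1],
  .step 93 1 [50] [0, 2, 0, 2, 2, 2, 0, 2, 2, 0, 2, 2, 2, 0, 2],
  .step 189 1 [51] [0],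
  .step 107 128 [46] [0, 2, 0, 2, 2, 0, 3, 3, 3, 3, 3, 0, 2],
  .step 174 128 [50] [0, 3, 0, 3, 3, 0, 3, 3, 0, 3, 3, 3, 3, 0],
  .step 127 128 [51] [2, 0, 2, 2, 2, 2, 0, 2, 2, 0, 2, 2, 0, 2],
  .step 153 157 [46] [2, 0, 3, 3, 3, 0, 3, 3, 1, 3, 3, 3],
  .step 50 157 [50] [2, 2, 0, 2, 2, 2, 2, 2, 2, 0, 2, 2],
  .step 148 180 [48] [0, 3, 0, 3, 3, 0, 3, 3],
  .step 116 184 [51] [2, 2, 2, 0, 2, 0, 3, 3, 3, 0, 2],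
  .step 199 93 [46] [0, 2, 2, 0, 2, 0, 2, 0, 3, 3, 3, 3, 0, 3, 3],
  .step 236 107 [48] [0, 2, 2, 2, 0, 3, 3, 3, 3, 0, 3, 0, 3, 1],
  .step 5 174 [50] [0, 2, 2, 0, 2, 2, 2, 2, 0, 3, 3, 3, 0],
  .step 57 153 [50] [3, 3, 0, 2, 2, 2, 2, 1, 2],
  .step 86 148 [50] [0, 2, 0, 2, 0, 2, 2, 2, 2, 2, 1, 2, 2],
  .root 110 136 true [] [0, 3, 3, 3, 0, 3, 3, 0, 2, 2, 2, 1, 3],
  .step 133 110 [46] [0, 3, 0, 3, 0, 2, 2, 2, 0, 3, 3, 3, 0],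
  .step 147 110 [48] [2, 2, 0, 2, 2, 0, 2, 1],
  .step 122 110 [50] [0, 2, 0, 2, 0, 2, 2, 2, 2, 2, 1, 2, 2],
  .step 201 110 [51] [2, 2, 2, 2, 2, 0, 2, 0, 3, 3, 3, 0, 2, 2],
  .step 163 133 [48] [0, 2, 0, 2, 2, 2, 0, 2, 0, 2, 2, 2, 2, 1, 2],
  .step 17 133 [50] [0, 2, 2, 0, 2, 2, 2, 2, 0, 3, 3, 3, 0],
  .step 169 133 [51] [0, 2, 2, 2, 2, 0, 2, 2, 0, 2, 2, 0, 2, 1],
  .step 91 147 [46] [0, 2, 0, 2, 2, 0, 3, 3, 3, 3, 3, 1, 2],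
  .step 239 147 [50] [0, 3, 0, 3, 0, 3, 3, 3, 0, 3, 3, 1, 2, 2, 2],
  .step 75 147 [51] [3, 3, 0, 3, 0, 3, 0, 2, 2, 2, 2, 1, 2, 2],
  .step 85 122 [46] [3, 0, 3, 0, 2, 2, 2, 2, 0, 2, 2, 1, 2, 2],
  .step 80 122 [50] [2, 2, 0, 2, 0, 2, 0, 3, 3, 3, 3, 3, 0, 3],
  .step 23 201 [48] [0, 2, 0, 2, 2, 0, 2, 2, 0, 3, 3, 3, 3, 1],
  .step 143 163 [51] [2, 0, 2, 0, 2, 2, 2, 0, 2, 1, 2, 2],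
  .step 242 17 [46] [0, 2, 0, 2, 2, 0, 2, 2, 2, 1],
  .step 117 91 [48] [0, 2, 0, 2, 2, 0, 2, 0, 2, 2, 2],
  .step 120 239 [50] [0, 2, 2, 0, 2, 0, 2, 2, 2],
  .step 179 85 [50] [3, 0, 2, 2, 2, 2, 2, 0, 2, 0, 2, 2],
  .step 61 23 [50] [2, 0, 2, 2, 2, 0, 2, 2, 0, 2, 2, 2, 0, 2],
  .root 215 138 true [] [2, 0, 2, 0, 2, 2, 2, 2, 0, 3, 3, 3, 1],
  .step 79 215 [46] [0, 3, 0, 3, 0, 2, 2, 2, 0, 3, 3, 3, 1],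
  .step 47 215 [48] [0, 2, 0, 2, 0, 3, 3, 3, 0, 2, 2, 2, 2, 2],
  .step 175 215 [50] [0, 2, 2, 2, 0, 2, 2, 2, 2, 1, 3, 3],
  .step 233 79 [50] [2, 2, 0, 2, 2, 2, 0, 2, 1, 3, 3],
  .step 230 79 [51] [2, 2, 0, 2, 0, 2, 2, 2, 0, 2, 2, 0],
  .step 226 47 [46] [0, 2, 0, 2, 0, 2, 0, 3, 3, 3, 1, 2, 2],
  .step 72 47 [50] [0, 2, 2, 0, 3, 3, 3, 3, 1, 2, 2, 2, 2],
  .step 161 47 [51] [2, 0, 2, 0, 3, 3, 3, 3, 1, 3, 3, 3, 3, 3],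
  .step 211 226 [48] [2, 2, 2, 2, 0, 2, 2, 0, 2, 2, 2, 1, 2, 2],
  .root 198 181 true [] [3, 3, 3, 0, 3, 0, 3, 0, 2],
  .step 100 198 [46] [2, 0, 2, 2, 0, 3, 3, 3, 0, 3, 3, 3, 3, 3, 0],
  .step 108 198 [48] [3, 3, 0, 2, 2, 2, 1, 3, 3, 3],
  .step 244 198 [50] [0, 2, 0, 3, 3, 3, 3, 3, 0, 3, 3, 1, 3, 3, 3],
  .step 81 198 [51] [3, 3, 0, 3, 0, 3, 3, 3, 3, 3, 1, 2],
  .step 159 100 [48] [0, 2, 2, 2, 0, 2, 0, 2, 2, 1, 2, 2],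
  .step 145 100 [50] [2, 2, 0, 2, 2, 2, 2, 0],
  .step 11 100 [51] [0, 3, 0, 3, 3, 3, 0, 3, 3, 0, 3, 3, 3, 1, 3],
  .step 191 108 [46] [0, 2, 2, 0, 2, 0, 2, 0, 3, 3, 3, 3, 1, 3, 3],
  .step 203 108 [50] [3, 0, 2, 2, 0, 2, 1, 3, 3, 3, 3],
  .step 118 108 [51] [2, 0, 2, 2, 2, 0, 2, 0, 2, 0, 3, 3, 3, 3],
  .step 33 244 [46] [0, 3, 3, 3, 0, 3, 3, 0, 3, 1],
  .step 155 244 [50] [0, 2, 2, 2, 0, 2, 0, 2, 1, 3, 3, 3],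
  .step 77 81 [48] [3, 3, 0, 3, 3, 0, 3, 3, 3, 0, 3, 0, 2],
  .step 238 159 [51] [3, 3, 3, 0, 3, 0, 3, 3, 1],
  .step 166 145 [46] [0, 2, 0, 3, 3, 3, 0, 3, 3, 0, 3, 3, 0],
  .step 171 191 [48] [2, 2, 0, 3, 3, 3, 0, 2, 2, 2, 1, 2, 2, 2, 2],
  .step 150 203 [50] [0, 3, 3, 0, 2, 2, 2, 1, 2, 2, 2, 2, 2, 2],
  .step 124 33 [50] [0, 2, 2, 0, 2, 0, 3, 3, 3, 3, 0, 3, 3, 1, 3],
  .step 182 77 [50] [3, 0, 3, 3, 0, 2, 2, 2, 1, 2, 2, 2, 2, 2]]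

/-- the cover of node 8 -/
def cv8 : List Cv := [
  .root 0 69 true [] [],
  .step 39 0 [54] [0, 3, 3, 3, 3, 3, 0, 2, 2, 2, 0, 2, 2],
  .root 8 70 true [] [0, 2, 2, 0, 2, 2, 0, 2, 2, 1, 2, 2, 2, 2],
  .step 18 8 [54] [3, 3, 3, 3, 3, 0, 2, 2, 2, 0, 2, 2],
  .root 3 71 true [] [0, 0],
  .step 38 3 [54] [0, 3, 3, 3, 3, 3, 0, 2, 2, 2, 0, 2, 2],
  .root 7 72 false [] [],
  .step 54 7 [54] [3, 3, 3, 3, 3, 0, 2, 2, 2, 0, 2, 2],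
  .root 6 73 true [] [0, 3, 0, 3, 0, 2, 2, 2, 1],
  .step 20 6 [54] [0, 2, 0, 2, 0, 3, 3, 3, 3, 3, 0, 3, 1, 3, 3, 3],
  .root 52 74 true [] [0, 2, 0, 2, 2, 2, 2, 1, 3],
  .step 12 52 [54] [2, 2, 2, 0, 2, 0, 3, 3, 3, 3, 1],
  .root 96 75 false [] [3, 0, 2, 2, 2, 0, 3, 3, 3, 3, 1],
  .step 37 96 [52] [0, 2, 2, 0, 2, 2, 2, 2, 0, 3, 3, 3, 0, 2],
  .step 15 96 [54] [0, 2, 2, 0, 2, 0, 2, 1],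
  .step 66 37 [54] [0, 3, 0, 3, 0, 3, 3, 1],
  .root 21 76 false [] [0, 2, 0, 2, 0, 2, 2, 0, 2, 2, 0, 3, 3],
  .step 28 21 [54] [0, 2, 2, 2, 2, 2, 2, 0, 3, 3, 3, 0, 3, 3],
  .root 42 77 false [] [0, 2, 0, 2, 2, 2, 0, 2, 2, 0, 2, 2, 2, 1, 3],
  .step 2 42 [54] [2, 2, 2, 0, 2, 0, 3, 3, 3, 1, 2, 2, 2],
  .root 153 78 false [] [3, 0, 3, 3, 3, 0, 3, 3, 0, 3, 3, 1, 3, 3],
  .step 157 153 [52] [2, 2, 2, 0, 2, 2, 0, 2, 2, 2, 0, 3],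
  .step 117 153 [54] [2, 2, 2, 2, 0, 3, 3, 3, 3, 3, 0, 2],
  .step 120 157 [54] [0, 2, 2, 0, 2, 2, 0, 3, 3, 3, 3, 1],
  .root 45 79 false [] [0, 3, 3, 0, 3, 3, 0, 3, 1],
  .step 114 45 [52] [0, 2, 2, 0, 3, 3, 3, 3, 0, 3, 3, 0, 3, 0, 2],
  .step 9 45 [54] [0, 2, 2, 2, 2, 0, 3, 3, 3, 3, 3, 1, 2],
  .step 83 114 [54] [2, 2, 2, 2, 2, 2, 0, 2, 2, 2, 2, 2, 0, 2],
  .root 86 80 false [] [0, 3, 3, 0, 3, 3, 0, 2, 2, 2, 0],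
  .step 57 86 [52] [3, 0, 3, 0, 2, 2, 2, 2, 0, 2, 2, 1, 2, 2],
  .step 85 86 [54] [3, 0, 3, 3, 3, 1, 2, 2, 2, 2, 2, 2],
  .step 122 57 [54] [2, 2, 2, 2, 2, 2, 0, 2, 2, 2, 1, 2],
  .root 245 81 false [] [2, 0, 2, 0, 2, 2, 2, 2, 1, 2],
  .step 247 245 [54] [0, 3, 0, 3, 0, 3, 3, 0, 3, 3, 1, 3],
  .root 50 82 false [] [0, 2, 0, 2, 0, 2, 2, 0, 2, 2, 1, 3, 3],
  .step 184 50 [52] [3, 3, 0, 3, 0, 3, 3, 1],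
  .step 174 50 [54] [0, 2, 2, 0, 2, 2, 2, 2, 0, 2, 2, 0, 2, 2, 2, 2, 2],
  .step 148 184 [54] [3, 3, 3, 3, 0, 3, 0, 3, 3, 1, 3, 3],
  .root 110 82 true [] [2, 2, 0, 2, 2, 2, 2, 0, 2],
  .step 133 110 [52] [0, 3, 0, 3, 0, 2, 2, 2, 0, 3, 3, 3, 0],
  .step 201 110 [54] [2, 2, 0, 2, 2, 0, 2, 0, 2, 2, 2, 2],
  .step 75 133 [54] [0, 2, 2, 0, 2, 2, 2, 2, 0, 2, 2, 1, 2, 2, 2, 2, 2],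
  .root 32 83 true [] [0, 2, 2, 0, 2, 0, 2, 2, 2, 2, 0, 3, 3, 3],
  .step 19 32 [54] [0, 2, 0, 2, 0, 3, 3, 3, 3, 3, 0, 3, 1, 3, 3, 3],
  .root 146 84 false [] [0, 2, 0, 2, 0, 3, 3, 3, 3, 0, 3, 3, 3, 1, 2],
  .step 167 146 [52] [0, 2, 0, 3, 3, 3, 0, 3, 3, 0, 3, 3, 0],
  .step 102 146 [54] [3, 3, 0, 2, 2, 2, 0, 2],
  .step 62 167 [54] [0, 3, 3, 3, 0, 3, 3, 0, 3, 0, 3, 3, 3],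
  .root 183 85 false [] [2, 2, 0, 2, 2, 2, 2, 2, 0, 3, 3],
  .step 125 183 [52] [0, 2, 0, 2, 2, 0, 3, 3, 3, 3, 3, 1, 2],
  .step 141 183 [54] [0, 3, 3, 3, 3, 3, 0, 3, 3, 0, 3, 3, 3, 1, 3],
  .step 136 125 [54] [3, 0, 3, 3, 3, 0, 2, 2, 2, 2, 2, 2, 1, 2],
  .root 13 86 false [] [2, 2, 0, 2, 2, 0, 2, 2, 2, 0, 2, 0],
  .step 41 13 [54] [3, 0, 3, 3, 0, 2, 2, 2, 0, 3, 3, 3, 3],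
  .root 237 87 false [] [3, 0, 2, 2, 2, 2, 0, 2, 0, 2, 1, 3],
  .step 10 237 [52] [0, 3, 3, 3, 0, 3, 3, 0, 3, 1],
  .step 22 237 [54] [0, 3, 0, 2, 2, 0, 2, 2, 1, 2, 2, 2, 2],
  .step 240 10 [54] [0, 3, 3, 3, 0, 3, 3, 0, 2, 2, 2, 1, 2, 2],
  .root 69 88 false [] [0, 2, 2, 2, 2, 1, 3, 3, 3, 3, 3],
  .step 105 69 [52] [3, 3, 0, 3, 3, 0, 3, 3, 3, 0, 3, 1, 2, 2],
  .step 168 69 [54] [0, 2, 2, 2, 2, 2, 0, 3, 3, 3, 3, 1, 2],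
  .step 144 105 [54] [3, 0, 3, 3, 3, 0, 2, 2],
  .root 135 88 true [] [0, 2, 2, 2, 2, 2, 2, 0, 2, 2, 0, 2, 2, 2],
  .step 140 135 [52] [2, 2, 2, 0, 2, 2, 0, 2, 2, 2, 0, 3],
  .step 126 135 [54] [3, 0, 2, 2, 2, 2, 2, 2, 0, 2, 2, 2, 0, 2],
  .step 181 140 [54] [0, 3, 3, 3, 3, 3, 0, 3, 3, 0, 3, 3, 3, 0, 3],
  .root 176 89 false [] [0, 3, 3, 3, 3, 3, 0, 3, 1],
  .step 162 176 [52] [2, 2, 2, 0, 2, 2, 0, 2, 2, 2, 2, 0, 2, 1],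
  .step 186 176 [54] [2, 2, 2, 2, 2, 0, 2, 2, 2, 0, 2, 1, 2],
  .step 131 162 [54] [0, 3, 3, 3, 3, 3, 0, 2, 2, 2, 2, 1],
  .root 172 90 false [] [2, 2, 2, 0, 2, 2, 2, 2, 0, 2, 0],
  .step 151 172 [52] [0, 2, 0, 2, 0, 2, 0, 3, 3, 3, 1, 2, 2],
  .step 74 172 [54] [0, 2, 2, 0, 2, 2, 2, 2, 0, 2, 2, 1, 2, 2, 2, 2, 2],
  .step 202 151 [54] [2, 2, 0, 2, 2, 0, 2, 0, 2, 2, 2, 2],
  .root 204 90 true [] [3, 3, 3, 1, 2, 2, 2, 2],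
  .step 76 204 [52] [0, 2, 2, 0, 2, 0, 2, 2],
  .step 149 204 [54] [3, 3, 3, 3, 0, 3, 0, 3, 3, 1, 3, 3],
  .step 173 76 [54] [0, 2, 2, 0, 2, 2, 2, 2, 0, 2, 2, 0, 2, 2, 2, 2, 2],
  .root 192 91 false [] [3, 0, 3, 3, 3, 0, 3, 3, 0, 3, 3],
  .step 109 192 [52] [2, 0, 2, 2, 0, 3, 3, 3, 0, 3, 3, 3, 3, 3, 1],
  .step 67 192 [54] [0, 3, 3, 0],
  .step 223 109 [54] [2, 0, 2, 2, 2, 2, 2, 0, 3, 3, 3, 3, 0],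
  .root 99 92 true [] [3, 0, 3, 3, 3, 0, 3, 3, 0, 2, 2, 2, 0],
  .step 197 99 [52] [0, 2, 2, 0, 2, 0, 2, 0, 3, 3, 3, 3, 0, 3, 3],
  .step 92 99 [54] [0, 3, 0, 3, 0, 3, 3, 3, 0, 3, 1, 3],
  .step 200 197 [54] [0, 2, 2, 2, 2, 2, 2, 1],
  .root 225 93 false [] [0, 3, 3, 0, 3, 3, 0, 2, 2, 2, 2, 2, 2],
  .step 46 225 [52] [0, 3, 0, 3, 0, 2, 2, 2, 0, 3, 3, 3, 0],
  .step 115 225 [54] [0, 2, 2, 2, 2, 0, 3, 3, 3, 3, 3, 1, 3],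
  .step 190 46 [54] [2, 2, 1],
  .root 70 94 false [] [2, 0, 2, 0, 2, 2, 2, 0, 2, 2, 0, 3, 3, 3],
  .step 232 70 [52] [3, 0, 3, 0, 2, 2, 2, 2, 2, 0, 2, 0, 3, 3, 3],
  .step 195 70 [54] [3, 0, 3, 0, 3, 3, 3, 3, 3, 0, 3, 3, 0, 3, 0],
  .step 89 232 [54] [0, 0, 2, 2, 2, 2, 2, 2],
  .root 29 95 false [] [0, 2, 0, 2, 2, 2, 2, 1, 3, 3, 3, 3, 3],
  .step 51 29 [54] [0, 2, 2, 2, 0, 2, 0, 3, 3, 3, 3],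
  .root 53 96 false [] [0, 3, 3, 3, 3, 0, 3, 3, 0, 3, 1, 2],
  .step 97 53 [52] [2, 2, 0, 3, 3, 3, 3, 0, 3, 3, 0, 3, 0, 2],
  .step 95 53 [54] [0, 3, 0, 3, 0, 3, 3, 1],
  .step 36 97 [54] [0, 2, 2, 0, 2, 0, 2, 1],
  .root 112 96 true [] [2, 0, 2, 2, 0, 2, 2, 2, 2, 0, 2, 0],
  .step 25 112 [52] [0, 2, 2, 0, 2, 2, 2, 2, 0, 3, 3, 3, 1, 2],
  .step 113 112 [54] [2, 2, 2, 2, 2, 2, 0, 2, 2, 2, 2, 2, 0, 2],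
  .step 44 25 [54] [2, 2, 0, 2, 0, 2, 2, 0, 2, 2, 2, 1, 3],
  .root 219 97 true [] [0, 3, 3, 0, 3, 0, 3, 3, 0],
  .step 229 219 [54] [0, 2, 2, 0, 3, 3, 3, 0, 2, 2, 2],
  .root 212 98 false [] [0, 3, 0, 3, 3, 0, 3, 3, 3, 1, 3, 3],
  .step 210 212 [54] [3, 0, 2, 2, 2, 2, 0, 2, 2, 2, 2, 2],
  .root 243 99 false [] [0, 3, 0, 3, 3, 3, 3, 1, 2, 2, 2, 2],
  .step 31 243 [52] [0, 3, 3, 3, 0, 3, 3, 0, 3, 1],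
  .step 58 243 [54] [3, 3, 3, 0, 3, 3, 1, 3],
  .step 217 31 [54] [0, 3, 0, 3, 0, 2, 2, 2, 0, 3, 3],
  .root 88 100 false [] [2, 2, 2, 0, 3, 3, 3, 3, 3, 0, 3, 1],
  .step 194 88 [52] [3, 3, 0, 3, 0, 3, 3, 0],
  .step 235 88 [54] [0, 0, 2, 2, 2, 2, 2, 2],
  .step 64 194 [54] [0, 2, 0, 2, 2, 0, 2, 2, 2, 2, 2, 0, 2, 1, 2],
  .root 130 100 true [] [0, 3, 3, 3, 0, 3, 0, 2, 2, 2, 1],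
  .step 188 130 [52] [0, 3, 0, 3, 0, 2, 2, 2, 0, 3, 3, 3, 1],
  .step 164 130 [54] [0, 3, 3, 3, 3, 0, 2, 2, 2, 2, 2, 0],
  .step 177 188 [54] [0, 2, 0, 2, 2, 0, 2, 1, 2, 2, 2, 2, 2],
  .root 160 101 false [] [0, 3, 0, 3, 3, 3, 0, 2, 2, 2],
  .step 156 160 [52] [2, 0, 3, 3, 3, 0, 3, 3, 1, 3, 3, 3],
  .step 158 160 [54] [0, 2, 2, 0, 2, 2, 0, 3, 3, 3, 3, 1],
  .step 154 156 [54] [2, 2, 2, 2, 0, 3, 3, 3, 3, 3, 0, 2],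
  .root 48 102 false [] [2, 2, 2, 2, 2, 2, 0, 2, 2, 1, 2, 2, 2],
  .step 27 48 [54] [0, 2, 2, 2, 2, 2, 2, 0, 3, 3, 3, 0, 3, 3],
  .root 248 103 false [] [0, 2, 0, 2, 0, 2, 2, 0, 2, 2, 1, 3, 3, 3],
  .step 246 248 [54] [0, 3, 0, 3, 0, 3, 3, 0, 3, 3, 1, 3],
  .root 16 104 false [] [2, 2, 0, 3, 3, 3, 3, 3, 1, 3],
  .step 241 16 [52] [0, 2, 0, 2, 2, 0, 2, 2, 2, 1],
  .step 214 16 [54] [0, 3, 0, 3, 0, 2, 2, 2, 0, 3, 3],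
  .step 78 241 [54] [3, 3, 3, 0, 3, 3, 1, 3],
  .root 82 105 false [] [3, 3, 1, 2, 2, 2, 2, 2],
  .step 119 82 [52] [3, 3, 0, 3, 3, 0, 3, 3, 3, 0, 3, 1, 2, 2],
  .step 121 82 [54] [2, 2, 2, 2, 2, 2, 0, 2, 2, 2, 1, 2],
  .step 84 119 [54] [3, 0, 3, 3, 3, 1, 2, 2, 2, 2, 2, 2],
  .root 231 106 false [] [0, 3, 3, 0, 2, 2, 2, 0, 3, 3, 3, 3, 0],
  .step 222 231 [54] [3, 3, 0, 3, 0, 2, 2, 2, 1, 3, 3],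
  .root 228 107 false [] [2, 2, 2, 0, 2, 2, 2, 2, 2, 2, 1, 2],
  .step 207 228 [54] [3, 3, 0, 3, 0, 2, 2, 2, 1, 3, 3],
  .root 206 108 false [] [0, 2, 2, 0, 2, 2, 0, 2, 2, 0, 2, 2, 2, 0],
  .step 35 206 [52] [0, 3, 0, 3, 0, 2, 2, 2, 0, 3, 3, 3, 1],
  .step 17 206 [54] [0, 2, 0, 2, 0, 3, 3, 3, 0, 2, 2],
  .step 242 35 [54] [2, 0, 2, 2, 1, 2, 2, 2],
  .root 116 109 false [] [0, 3, 0, 3, 3, 3, 3, 0, 2, 2, 2, 2],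
  .step 189 116 [52] [0, 2, 2, 0, 2, 0, 2, 0, 3, 3, 3, 3, 1, 3, 3],
  .step 208 116 [54] [2, 0, 2, 2, 2, 2, 2, 0, 3, 3, 3, 3, 0],
  .step 24 189 [54] [0, 3, 3],
  .root 100 110 false [] [0, 3, 0, 3, 3, 0, 3, 3, 3, 0],
  .step 198 100 [52] [0, 2, 2, 0, 2, 0, 2, 0, 3, 3, 3, 3, 0, 3, 3],
  .root 238 110 true [] [0, 3, 0, 2, 2, 2, 0, 2, 2, 0, 2],
  .step 11 238 [52] [0, 3, 3, 3, 0, 3, 3, 0, 3, 1],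
  .root 14 111 false [] [0, 3, 0, 2, 2, 2, 0, 2, 0],
  .step 49 14 [54] [3, 0, 3, 3, 0, 2, 2, 2, 0, 3, 3, 3, 3],
  .root 34 112 false [] [2, 0, 3, 3, 3, 3, 3, 1, 2, 2],
  .root 30 113 false [] [0, 2, 2, 0, 3, 3, 3, 3, 3, 0, 2],
  .root 55 114 false [] [0, 2, 2, 0, 2, 2, 0, 3, 3, 3, 1, 3],
  .step 98 55 [52] [2, 2, 0, 3, 3, 3, 3, 0, 3, 3, 0, 3, 0, 2],
  .root 111 114 true [] [2, 2, 0, 3, 3, 3, 3, 0, 3, 3, 0, 3, 1, 2],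
  .step 26 111 [52] [0, 2, 2, 0, 2, 2, 2, 2, 0, 3, 3, 3, 1, 2],
  .root 81 115 false [] [0, 2, 2, 2, 2, 2, 2, 0, 2, 2, 2, 2, 2, 2, 0],
  .step 118 81 [52] [3, 3, 0, 3, 3, 0, 3, 3, 3, 0, 3, 1, 2, 2],
  .root 155 116 false [] [0, 2, 0, 2, 2, 2, 2, 0, 2, 2, 0, 2, 1],
  .step 159 155 [52] [2, 2, 2, 0, 2, 2, 0, 2, 2, 2, 0, 3],
  .root 249 117 false [] [0, 3, 3, 3, 3, 0, 2, 2, 2, 2, 0],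
  .root 129 118 false [] [2, 0, 2, 0, 2, 2, 2, 2, 2, 2, 0],
  .step 187 129 [52] [0, 3, 0, 3, 0, 2, 2, 2, 0, 3, 3, 3, 1],
  .step 161 129 [54] [0, 3, 3, 3, 3, 0, 2, 2, 2, 2, 2, 0],
  .step 175 187 [54] [0, 2, 0, 2, 2, 0, 2, 1, 2, 2, 2, 2, 2],
  .root 72 118 true [] [],
  .step 233 72 [52] [3, 0, 3, 0, 2, 2, 2, 2, 2, 0, 2, 0, 3, 3, 3],
  .step 193 72 [54] [3, 0, 3, 0, 3, 3, 3, 3, 3, 0, 3, 3, 0, 3, 0],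
  .step 87 233 [54] [0, 0, 2, 2, 2, 2, 2, 2],
  .root 211 119 false [] [3, 0, 2, 2, 2, 2, 1, 2, 2, 2, 2, 2],
  .root 209 122 true [] [0, 2, 0, 2, 2, 2, 2, 2, 2, 0],
  .step 205 209 [54] [3, 0, 2, 2, 2, 2, 0, 2, 2, 2, 2, 2],
  .root 4 133 false [] [0, 0],
  .step 56 4 [54] [0, 3, 3, 3, 3, 3, 0, 2, 2, 2, 0, 2, 2],
  .root 147 139 true [] [2, 2, 2, 2, 2, 0, 2, 2, 2, 2, 2, 0, 2, 2],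
  .step 91 147 [52] [0, 2, 0, 2, 2, 0, 3, 3, 3, 3, 3, 1, 2],
  .step 142 147 [54] [0, 3, 3, 3, 3, 3, 0, 3, 3, 0, 3, 3, 3, 1, 3],
  .step 137 91 [54] [3, 0, 3, 3, 3, 0, 2, 2, 2, 2, 2, 2, 1, 2],
  .root 128 140 true [] [2, 2, 1, 3, 3, 3, 3, 3],
  .step 107 128 [52] [0, 2, 0, 2, 2, 0, 3, 3, 3, 3, 3, 0, 2],
  .step 63 128 [54] [0, 3, 3, 3, 0, 3, 3, 0, 3, 0, 3, 3, 3],
  .step 103 107 [54] [3, 3, 0, 2, 2, 2, 0, 2],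
  .root 213 141 false [] [0, 3, 3, 0, 3, 1, 2],
  .step 221 213 [54] [3, 3, 0, 3, 0, 2, 2, 2, 1, 3, 3],
  .root 236 144 true [] [2, 2, 0, 3, 3, 3, 0, 2, 2, 2, 2, 0, 3],
  .step 5 236 [52] [0, 3, 3, 3, 0, 3, 3, 0, 3, 1],
  .step 59 236 [54] [3, 3, 3, 0, 3, 3, 1, 3],
  .step 216 5 [54] [0, 3, 0, 3, 0, 2, 2, 2, 0, 3, 3],
  .root 163 145 true [] [0, 2, 0, 3, 3, 0, 3, 3, 0, 3, 3, 3, 0, 3, 1],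
  .step 80 163 [52] [2, 0, 2, 2, 0, 3, 3, 3, 0, 3, 3, 3, 3, 3, 1],
  .step 68 163 [54] [0, 3, 3, 0],
  .step 224 80 [54] [2, 0, 2, 2, 2, 2, 2, 0, 3, 3, 3, 3, 0],
  .root 226 158 true [] [0, 3, 0, 3, 3, 3, 3, 3, 0, 3, 1],
  .step 47 226 [52] [0, 3, 0, 3, 0, 2, 2, 2, 0, 3, 3, 3, 0],
  .step 108 226 [54] [0, 2, 2, 2, 2, 0, 3, 3, 3, 3, 3, 1, 3],
  .step 191 47 [54] [2, 2, 1],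
  .root 33 160 true [] [3, 0, 2, 2, 2, 2, 2, 0, 2, 1, 2],
  .step 244 33 [52] [0, 2, 0, 2, 2, 0, 2, 2, 2, 1],
  .step 215 33 [54] [0, 3, 0, 3, 0, 2, 2, 2, 0, 3, 3],
  .step 79 244 [54] [3, 3, 3, 0, 3, 3, 1, 3],
  .root 134 161 false [] [0, 2, 2, 2, 0, 3, 3, 3, 1, 3, 3, 3, 3],
  .step 139 134 [52] [2, 2, 2, 0, 2, 2, 0, 2, 2, 2, 0, 3],
  .step 124 134 [54] [3, 0, 2, 2, 2, 2, 2, 2, 0, 2, 2, 2, 0, 2],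
  .step 182 139 [54] [0, 3, 3, 3, 3, 3, 0, 3, 3, 0, 3, 3, 3, 0, 3],
  .root 145 162 true [] [0, 2, 0, 2, 2, 0, 3, 3, 3, 3, 3, 0, 2],
  .step 166 145 [52] [0, 2, 0, 3, 3, 3, 0, 3, 3, 0, 3, 3, 0],
  .step 106 145 [54] [3, 3, 0, 2, 2, 2, 0, 2],
  .step 71 166 [54] [0, 3, 3, 3, 0, 3, 3, 0, 3, 0, 3, 3, 3],
  .root 220 164 true [] [3, 3, 0, 3, 3, 0, 3, 3, 3, 3, 0, 3],
  .step 230 220 [54] [0, 2, 2, 0, 3, 3, 3, 0, 2, 2, 2],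
  .root 93 175 false [] [0, 3, 0, 3, 3, 0, 3, 3, 3, 1],
  .step 199 93 [52] [0, 2, 2, 0, 2, 0, 2, 0, 3, 3, 3, 3, 0, 3, 3],
  .step 61 93 [54] [0, 3, 0, 3, 0, 3, 3, 3, 0, 3, 1, 3],
  .step 179 199 [54] [0, 2, 2, 2, 2, 2, 2, 1],
  .root 239 176 false [] [0, 3, 0, 2, 2, 0, 2, 2, 2, 0, 2, 2, 0],
  .step 23 239 [52] [0, 3, 3, 3, 0, 3, 3, 0, 3],
  .step 1 239 [54] [0, 2, 0, 2, 2, 2, 2, 2, 2, 1, 3, 3, 3, 3],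
  .step 227 23 [54] [3, 3, 3, 0, 3, 3, 0, 2, 2, 2, 1, 2, 2],
  .root 123 178 false [] [2, 2, 2, 2, 0, 2, 2, 2, 2, 2, 0],
  .step 138 123 [52] [0, 3, 0, 3, 3, 3, 3, 0, 3, 3, 1, 3, 3, 3],
  .step 132 123 [54] [0, 3, 3, 3, 3, 3, 0, 2, 2, 2, 2, 1],
  .step 185 138 [54] [2, 2, 2, 2, 2, 0, 2, 2, 2, 0, 2, 1, 2],
  .root 101 179 true [] [2, 0, 2, 0, 2, 2, 2, 0, 2, 0, 2, 2, 2, 2, 0],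
  .step 104 101 [52] [2, 2, 2, 0, 2, 2, 0, 2, 2, 2, 0, 3],
  .step 127 101 [54] [3, 0, 2, 2, 2, 2, 2, 2, 0, 2, 2, 2, 0, 2],
  .step 180 104 [54] [0, 3, 3, 3, 3, 3, 0, 3, 3, 0, 3, 3, 3, 0, 3],
  .root 43 182 false [] [2, 2, 0, 3, 3, 3, 0, 2, 2, 2, 0, 2],
  .step 218 43 [52] [3, 0, 3, 0, 2, 2, 2, 2, 2, 0, 2, 0, 3, 3, 3],
  .step 196 43 [54] [3, 0, 3, 0, 3, 3, 3, 3, 3, 0, 3, 3, 0, 3, 0],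
  .step 90 218 [54] [0, 0, 2, 2, 2, 2, 2, 2],
  .root 60 184 true [] [3, 3, 0, 3, 3, 3, 3, 3, 0, 3, 3, 0, 3, 0],
  .step 170 60 [52] [3, 3, 0, 3, 0, 3, 3, 0],
  .step 234 60 [54] [0, 0, 2, 2, 2, 2, 2, 2],
  .step 65 170 [54] [0, 2, 0, 2, 2, 0, 2, 2, 2, 2, 2, 0, 2, 1, 2],
  .root 40 185 true [] [0, 2, 0, 3, 3, 3, 3, 3, 0, 3, 0, 3],
  .step 73 40 [52] [3, 3, 0, 3, 3, 0, 3, 3, 3, 0, 3, 1, 2, 2],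
  .step 169 40 [54] [0, 2, 2, 2, 2, 2, 0, 3, 3, 3, 3, 1, 2],
  .step 143 73 [54] [3, 0, 3, 3, 3, 0, 2, 2],
  .root 94 186 true [] [3, 3, 3, 0, 2, 2, 2, 2, 0, 3],
  .step 152 94 [52] [0, 3, 0, 3, 0, 2, 2, 2, 0, 3, 3, 3, 1],
  .step 165 94 [54] [0, 3, 3, 3, 3, 0, 2, 2, 2, 2, 2, 0],
  .step 178 152 [54] [0, 2, 0, 2, 2, 0, 2, 1, 2, 2, 2, 2, 2],
  .root 77 202 false [] [],
  .step 203 77 [52] [3, 3, 0, 3, 0, 3, 3, 1],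
  .step 171 77 [54] [0, 2, 2, 0, 2, 2, 2, 2, 0, 2, 2, 0, 2, 2, 2, 2, 2],
  .step 150 203 [54] [3, 3, 3, 3, 0, 3, 0, 3, 3, 1, 3, 3]]

/-- the cover of node 9 -/
def cv9 : List Cv := [
  .root 0 120 true [] [],
  .step 8 0 [60] [2, 0, 3, 3, 0, 2],
  .step 4 0 [61] [0, 2, 0, 3, 3, 0, 2],
  .step 1 0 [62] [0, 2, 0, 3, 3, 3, 0, 2, 2, 2, 1, 2],
  .step 7 8 [60] [0, 2, 0, 3, 3, 1, 2],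
  .step 23 8 [62] [2, 2, 0, 2, 2, 2, 0, 3, 3, 3],
  .step 11 4 [62] [0, 2, 0, 3, 3, 3, 0, 2, 2, 2, 1, 2],
  .step 22 7 [62] [2, 2, 0, 2, 2, 2, 0, 3, 3, 3],
  .root 3 121 false [] [2, 0, 3, 3, 1, 2],
  .step 10 3 [62] [0, 2, 0, 3, 3, 3, 0, 2, 2, 2, 1, 2],
  .root 138 122 false [] [0, 3, 3, 0, 3, 3, 0, 3, 3, 0, 3, 3, 1, 2],
  .step 43 138 [56] [2, 2, 0, 2, 0, 2, 2, 2, 0, 2, 1],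
  .step 245 138 [57] [0, 2, 2, 2, 0, 2, 0, 3, 3, 3, 1, 2, 2],
  .step 21 138 [58] [2, 0, 3, 3, 3, 1, 3],
  .step 213 138 [59] [3, 0, 3, 0, 2, 2, 2, 2, 2, 0, 2, 1, 2],
  .step 165 138 [60] [3, 3, 3, 3, 3, 0, 2, 2, 2, 0, 3],
  .step 161 138 [61] [3, 3, 3, 3, 3, 0, 2, 2, 2, 1, 3],
  .step 15 138 [62] [0, 3, 0, 3, 3, 0, 2, 2, 2, 2, 2, 2, 0, 2, 1],
  .step 123 43 [58] [2, 0, 2, 2, 2, 0, 2, 2, 0, 2, 2, 2, 1],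
  .step 247 43 [60] [3, 3, 3, 3, 3, 0, 2, 2, 2, 0, 3],
  .step 249 43 [61] [3, 3, 3, 3, 3, 0, 2, 2, 2, 1, 3],
  .step 6 43 [62] [0, 2, 0, 3, 3, 3, 0, 2, 2, 2, 0, 3],
  .step 65 245 [60] [2, 0, 3, 3, 3, 1, 2, 2, 2, 2, 2],
  .step 72 245 [61] [2, 0, 3, 3, 3, 0, 2, 2, 2, 2, 2],
  .step 86 245 [62] [0, 2, 0, 2, 2, 0, 2, 2, 2, 2, 2, 2, 1],
  .step 228 21 [60] [2, 0, 2, 2, 0, 2, 0],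
  .step 230 21 [61] [2, 0, 2, 2, 0, 2, 1],
  .step 170 21 [62] [0, 2, 0, 2, 2, 0, 2, 0, 3],
  .step 42 213 [60] [0, 3, 0, 3, 3, 0, 3],
  .step 49 213 [61] [0, 3, 0, 3, 3, 1, 3],
  .step 236 213 [62] [2, 2, 2, 0, 2, 2, 2, 2, 2, 0, 2, 2, 2, 2],
  .step 177 165 [60] [2, 0, 3, 3, 3, 1, 2, 2, 2, 2, 2],
  .step 216 165 [62] [0, 2, 0, 2, 2, 2, 2, 0, 2, 2, 0, 2, 2, 0, 2, 1],
  .step 215 161 [62] [0, 2, 0, 2, 2, 2, 2, 0, 2, 2, 0, 2, 2, 0, 2, 1],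
  .step 242 15 [60] [2, 0, 2, 2, 0, 2, 1],
  .step 244 15 [61] [2, 0, 2, 2, 0, 2, 0],
  .step 178 123 [60] [2, 0, 3, 3, 3, 1, 2, 2, 2, 2, 2],
  .step 175 123 [61] [2, 0, 3, 3, 3, 0, 2, 2, 2, 2, 2],
  .step 206 123 [62] [0, 2, 0, 2, 2, 2, 2, 0, 2, 2, 0, 2, 2, 0, 2, 1],
  .step 64 247 [60] [2, 0, 3, 3, 3, 1, 2, 2, 2, 2, 2],
  .step 122 247 [62] [0, 2, 0, 2, 2, 0, 2, 2, 2, 2, 2, 2, 1],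
  .step 118 249 [62] [0, 2, 0, 2, 2, 0, 2, 2, 2, 2, 2, 2, 1],
  .step 246 65 [60] [3, 3, 3, 3, 3, 0, 2, 2, 2, 0, 3],
  .step 20 65 [62] [0, 2, 0, 3, 3, 3, 0, 2, 2, 2, 0, 3],
  .step 34 72 [62] [0, 2, 0, 3, 3, 3, 0, 2, 2, 2, 0, 3],
  .step 196 86 [60] [0, 2, 0, 2, 2, 2, 0, 2, 2, 0, 2, 1, 3],
  .step 193 86 [61] [0, 2, 0, 2, 2, 2, 0, 2, 2, 0, 2, 0, 3],
  .step 41 228 [60] [0, 3, 0, 3, 3, 0, 3],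
  .step 229 42 [60] [2, 0, 2, 2, 0, 2, 0],
  .step 37 236 [60] [0, 3, 0, 3, 3, 1, 3],
  .step 55 236 [61] [0, 3, 0, 3, 3, 0, 3],
  .step 36 177 [62] [0, 3, 0, 3, 3, 0, 2, 2, 2, 2, 2, 2, 0, 2, 1],
  .step 19 216 [60] [2, 0, 2, 2, 2, 2, 2, 1],
  .step 164 178 [60] [3, 3, 3, 3, 3, 0, 2, 2, 2, 0, 3],
  .step 195 122 [60] [0, 2, 0, 2, 2, 2, 0, 2, 2, 0, 2, 1, 3],
  .step 121 246 [62] [0, 2, 0, 2, 2, 0, 2, 2, 2, 2, 2, 2, 1],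
  .step 217 20 [60] [0, 3, 3, 3, 3, 3, 0, 3],
  .step 241 229 [62] [2, 2, 2, 0, 2, 2, 2, 2, 2, 0, 2, 2, 2, 2],
  .root 218 123 false [] [0, 2, 2, 0, 2, 2, 2, 2, 0, 2, 2, 0, 3],
  .step 234 218 [60] [2, 0, 3, 3, 3, 0, 2, 2, 2, 1, 3],
  .step 233 218 [61] [2, 0, 3, 3, 3, 0, 2, 2, 2, 0, 3],
  .step 235 234 [60] [2, 0, 3, 3, 3, 0, 2, 2, 2, 1, 3],
  .root 104 124 false [] [2, 0, 2, 2, 2, 2, 1, 3, 3],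
  .step 133 104 [56] [0, 2, 0, 2, 2, 2, 1, 2],
  .step 120 104 [57] [3, 3, 3, 3, 3, 0, 3, 3, 0, 3, 1],
  .step 152 104 [58] [0, 2, 2, 2, 0, 2, 0, 2, 2, 2, 2, 2, 1],
  .step 142 104 [60] [0, 2, 0, 3, 3, 1, 2],
  .step 139 104 [61] [0, 2, 0, 3, 3, 0, 2],
  .step 185 133 [60] [0, 2, 2, 0, 3, 3],
  .step 187 133 [61] [0, 2, 2, 1, 3, 3],
  .step 157 120 [60] [0, 2, 0, 3, 3, 1, 2],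
  .step 159 120 [61] [0, 2, 0, 3, 3, 0, 2],
  .step 174 152 [60] [0, 2, 2, 1, 3, 3],
  .step 171 152 [61] [0, 2, 2, 0, 3, 3],
  .step 141 142 [60] [0, 2, 0, 3, 3, 1, 2],
  .step 173 185 [60] [0, 2, 2, 1, 3, 3],
  .step 158 157 [60] [0, 2, 0, 3, 3, 1, 2],
  .step 186 174 [60] [0, 2, 2, 0, 3, 3],
  .root 5 125 false [] [3, 3, 0, 3, 0, 3, 0, 2, 2, 2, 1, 3, 3],
  .step 17 5 [60] [0, 2, 0, 2, 1, 3, 3],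
  .step 33 5 [61] [0, 2, 0, 2, 0, 3, 3],
  .step 16 17 [60] [0, 2, 0, 2, 1, 3, 3],
  .root 31 126 false [] [3, 0, 2, 2, 2, 0, 3, 3, 3, 1, 2],
  .root 176 127 false [] [2, 0, 2, 2, 2, 2, 2, 0, 2, 2, 2, 2, 2, 2],
  .step 70 176 [56] [2, 2, 0, 2, 0, 2, 2, 2, 0, 2, 1],
  .step 248 176 [57] [0, 2, 2, 2, 0, 2, 0, 3, 3, 3, 1, 2, 2],
  .step 48 176 [58] [2, 0, 3, 3, 3, 1, 3],
  .step 231 176 [59] [3, 0, 3, 0, 2, 2, 2, 2, 2, 0, 2, 1, 2],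
  .step 162 176 [60] [3, 3, 3, 3, 3, 0, 2, 2, 2, 0, 3],
  .step 53 176 [62] [0, 3, 0, 3, 3, 0, 2, 2, 2, 2, 2, 2, 0, 2, 1],
  .step 32 70 [62] [0, 2, 0, 3, 3, 3, 0, 2, 2, 2, 0, 3],
  .step 119 248 [62] [0, 2, 0, 2, 2, 0, 2, 2, 2, 2, 2, 2, 1],
  .step 194 48 [62] [0, 2, 0, 2, 2, 0, 2, 0, 3],
  .step 243 231 [62] [2, 2, 2, 0, 2, 2, 2, 2, 2, 0, 2, 2, 2, 2],
  .step 214 162 [62] [0, 2, 0, 2, 2, 2, 2, 0, 2, 2, 0, 2, 2, 0, 2, 1],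
  .root 232 128 false [] [2, 0, 3, 3, 1, 2],
  .root 46 129 false [] [2, 0, 2, 2, 2, 0, 2, 0, 2, 2],
  .step 82 46 [56] [0, 3, 0, 3, 3, 0, 2, 2, 2, 2],
  .step 167 46 [57] [3, 3, 0, 3, 3, 0, 2, 2, 2, 1],
  .step 125 46 [58] [2, 2, 0, 2, 2, 2, 2, 2, 0, 2, 1, 3],
  .step 192 46 [59] [3, 3, 3, 0, 3, 0, 3, 1, 2, 2, 2],
  .step 183 46 [60] [2, 2, 2, 2, 2, 0, 2, 2, 1, 2, 2, 2, 2, 2],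
  .step 112 82 [58] [2, 2, 0, 2, 2, 2, 2, 2, 0, 2, 0, 3],
  .step 156 82 [59] [0, 3, 3, 0, 3, 3, 0, 3, 3, 3, 1],
  .step 69 82 [60] [2, 2, 2, 2, 2, 0, 2, 2, 1, 2, 2, 2, 2, 2],
  .step 88 82 [62] [2, 2, 2, 2, 0, 3, 3, 3, 3, 3, 1, 2],
  .step 219 167 [59] [2, 2, 0, 2, 2, 2, 2, 2, 0, 2, 2, 0, 2, 0],
  .step 78 167 [60] [2, 2, 2, 2, 2, 0, 2, 2, 1, 2, 2, 2, 2, 2],
  .step 109 125 [57] [2, 0, 2, 0, 2, 2, 2, 0, 2, 0, 2, 2],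
  .step 212 125 [60] [0, 2, 0, 2, 0, 3, 3, 3, 0, 2, 2, 2, 2, 0],
  .step 130 192 [56] [3, 0, 2, 2, 2, 2, 0, 2, 2, 0, 2, 1, 2],
  .step 76 192 [60] [0, 2, 2, 0, 2, 0, 2, 2, 2, 2, 2, 0, 2],
  .step 135 112 [60] [2, 2, 0, 2, 0, 2, 2, 0, 2],
  .step 29 156 [56] [2, 0, 3, 3, 0, 3, 3, 0, 3, 3, 3],
  .step 97 156 [60] [3, 0, 3, 3, 0, 3, 1, 3, 3],
  .step 197 88 [60] [0, 2, 2, 0, 2, 2, 2, 0, 2, 0, 2, 2, 2],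
  .step 146 219 [60] [0, 3, 3, 0, 3, 0, 3, 0, 2, 2, 2, 0, 3, 3],
  .step 99 109 [60] [2, 2, 2, 2, 2, 0, 2, 2, 2, 2, 2, 1, 2, 2],
  .step 54 212 [62] [0, 2, 2, 0, 2, 1, 3, 3, 3, 3],
  .step 151 29 [60] [2, 2, 2, 2, 2, 0, 2, 2, 2, 2, 2, 1, 2, 2],
  .root 204 130 false [] [0, 2, 0, 3, 3, 0, 3, 3, 3, 0, 3, 3, 1, 2],
  .step 237 204 [56] [0, 3, 3, 0, 3, 1, 3, 3, 3, 3, 3],
  .step 25 204 [57] [3, 0, 3, 3, 0, 2, 2, 2, 2, 2, 2, 1, 2],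
  .step 225 204 [58] [0, 2, 0, 3, 3, 0, 3, 3, 3, 3, 1, 2],
  .step 13 204 [59] [3, 0, 3, 3, 3, 3, 3, 0, 3, 3, 3, 1, 2],
  .step 105 204 [60] [0, 2, 0, 3, 3, 3, 0, 3, 3, 3, 0, 3, 0],
  .root 9 143 true [] [0, 2, 2, 0, 2, 0, 3, 3, 3, 3, 1, 3, 3],
  .step 184 9 [56] [3, 0, 2, 2, 2, 2, 2, 2, 0, 2, 2, 0, 2],
  .step 227 9 [57] [0, 2, 0, 2, 2, 0, 3, 3, 3, 3, 3, 1],
  .step 73 9 [59] [3, 0, 3, 3, 3, 3, 1, 2, 2, 2, 2],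
  .step 239 9 [60] [2, 0, 2, 2, 0, 2, 1],
  .step 238 9 [61] [2, 0, 2, 2, 0, 2, 0],
  .step 208 184 [58] [0, 2, 0, 3, 3, 0, 3, 3, 3, 3, 1, 2],
  .step 2 184 [59] [3, 0, 3, 3, 3, 3, 3, 0, 3, 3, 3, 1, 2],
  .step 103 184 [60] [0, 2, 0, 3, 3, 3, 0, 3, 3, 3, 0, 3, 0],
  .step 106 184 [61] [0, 2, 0, 3, 3, 3, 0, 3, 3, 3, 0, 3, 1],
  .step 45 227 [60] [0, 3, 0, 3, 3, 0, 3, 1],
  .step 26 227 [61] [0, 3, 0, 3, 3, 0, 3],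
  .step 201 73 [60] [0, 2, 0, 2, 2, 2, 0, 2, 2, 0, 2, 0, 3],
  .step 203 73 [61] [0, 2, 0, 2, 2, 2, 0, 2, 2, 0, 2, 1, 3],
  .step 44 239 [60] [0, 3, 0, 3, 3, 0, 3, 1],
  .step 28 208 [60] [2, 1, 2, 2, 2, 2, 2],
  .step 14 208 [61] [2, 0, 2, 2, 2, 2, 2, 1],
  .step 224 2 [60] [0, 3, 3, 3, 3, 3, 1, 3],
  .step 226 2 [61] [0, 3, 3, 3, 3, 3, 0, 3],
  .step 202 103 [60] [0, 2, 0, 2, 2, 2, 0, 2, 2, 0, 2, 0, 3],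
  .step 240 45 [60] [0, 2, 0, 2, 2, 0, 2, 0],
  .step 102 201 [60] [0, 2, 0, 3, 3, 3, 0, 3, 3, 3, 0, 3, 0],
  .step 223 28 [60] [3, 3, 3, 3, 3, 1, 3],
  .step 27 224 [60] [2, 1, 2, 2, 2, 2, 2],
  .root 40 180 true [] [0, 2, 0, 3, 3, 3, 3, 3, 0, 3, 0, 3],
  .step 101 40 [56] [0, 3, 3, 0, 3, 3, 0, 3, 3, 3, 1],
  .step 66 40 [57] [2, 2, 0, 2, 2, 2, 2, 2, 0, 2, 0, 3],
  .step 35 40 [58] [3, 3, 0, 3, 3, 0, 2, 2, 2, 0],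
  .step 147 40 [59] [0, 3, 0, 3, 3, 0, 2, 2, 2, 2],
  .step 85 40 [60] [2, 2, 2, 2, 2, 0, 2, 2, 0, 2, 2, 2, 2, 2],
  .step 81 40 [61] [2, 2, 2, 2, 2, 0, 2, 2, 1, 2, 2, 2, 2, 2],
  .step 50 101 [58] [3, 3, 0, 3, 3, 0, 3, 3, 0, 3, 0],
  .step 18 101 [59] [2, 0, 3, 3, 0, 3, 3, 1, 3, 3, 3],
  .step 114 101 [60] [3, 0, 3, 3, 0, 3, 0, 3, 3],
  .step 111 101 [61] [3, 0, 3, 3, 0, 3, 1, 3, 3],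
  .step 61 101 [62] [2, 2, 2, 2, 2, 0, 2, 2, 2, 0, 2, 1, 2],
  .step 110 66 [58] [2, 0, 2, 0, 2, 2, 2, 0, 2, 1, 2, 2],
  .step 179 66 [59] [3, 0, 3, 3, 0, 2, 2, 2, 1, 2, 2, 2, 2, 2, 2],
  .step 153 66 [60] [2, 2, 0, 2, 0, 2, 2, 1, 2],
  .step 155 66 [61] [2, 2, 0, 2, 0, 2, 2, 0, 2],
  .step 107 35 [57] [2, 2, 0, 2, 2, 2, 2, 2, 0, 2, 1, 3],
  .step 169 35 [60] [2, 2, 2, 2, 2, 0, 2, 2, 0, 2, 2, 2, 2, 2],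
  .step 166 35 [61] [2, 2, 2, 2, 2, 0, 2, 2, 1, 2, 2, 2, 2, 2],
  .step 205 147 [56] [2, 2, 0, 2, 2, 2, 2, 2, 0, 2, 2, 0, 2, 1],
  .step 68 147 [60] [0, 2, 2, 2, 2, 2, 0, 2, 2, 0, 2, 2, 2, 2, 2],
  .step 47 147 [61] [2, 2, 2, 2, 2, 0, 2, 2, 1, 2, 2, 2, 2, 2],
  .step 62 85 [60] [2, 2, 2, 2, 2, 0, 2, 2, 1, 2, 2, 2, 2, 2],
  .step 90 85 [62] [2, 2, 2, 2, 0, 3, 3, 3, 3, 3, 1, 2],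
  .step 87 81 [62] [2, 2, 2, 2, 0, 3, 3, 3, 3, 3, 1, 2],
  .step 189 50 [60] [0, 2, 2, 0, 2, 2, 2, 0, 2, 0, 2, 2, 2],
  .step 191 50 [61] [0, 2, 2, 0, 2, 2, 2, 0, 2, 1, 2, 2, 2],
  .step 132 18 [60] [2, 2, 2, 2, 2, 0, 2, 2, 2, 2, 2, 0, 2, 2],
  .step 129 18 [61] [2, 2, 2, 2, 2, 0, 2, 2, 2, 2, 2, 1, 2, 2],
  .step 136 114 [60] [2, 2, 0, 2, 0, 2, 2, 0, 2],
  .step 116 61 [60] [2, 2, 2, 2, 2, 0, 2, 2, 2, 2, 2, 0, 2, 2],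
  .step 108 61 [61] [2, 2, 2, 2, 2, 0, 2, 2, 2, 2, 2, 1, 2, 2],
  .step 52 110 [60] [0, 2, 2, 2, 2, 2, 0, 2, 2, 2, 2, 2, 0, 2, 2],
  .step 30 110 [61] [2, 2, 2, 2, 2, 0, 2, 2, 2, 2, 2, 1, 2, 2],
  .step 95 153 [60] [3, 0, 3, 3, 0, 3, 1, 3, 3],
  .step 221 153 [62] [3, 0, 3, 3, 3, 3, 0, 2, 2],
  .step 220 155 [62] [3, 0, 3, 3, 3, 3, 0, 2, 2],
  .step 58 169 [60] [2, 2, 2, 2, 2, 0, 2, 2, 1, 2, 2, 2, 2, 2],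
  .step 127 205 [60] [0, 3, 3, 0, 3, 0, 3, 0, 2, 2, 2, 0, 3, 3],
  .step 124 205 [61] [0, 3, 3, 0, 3, 0, 3, 0, 2, 2, 2, 1, 3, 3],
  .step 181 68 [60] [0, 2, 2, 2, 2, 2, 0, 2, 2, 0, 2, 2, 2, 2, 2],
  .step 200 90 [60] [0, 2, 2, 0, 2, 2, 2, 0, 2, 0, 2, 2, 2],
  .step 74 189 [60] [0, 2, 2, 0, 2, 0, 2, 2, 2, 2, 2, 0, 2],
  .step 38 132 [60] [2, 2, 2, 2, 2, 0, 2, 2, 2, 2, 2, 1, 2, 2],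
  .step 92 136 [62] [2, 2, 2, 2, 2, 0, 2, 2, 2, 0, 2, 1, 2],
  .step 149 52 [60] [0, 2, 2, 2, 2, 2, 0, 2, 2, 2, 2, 2, 0, 2, 2],
  .step 144 221 [60] [0, 3, 3, 0, 3, 0, 3, 0, 2, 2, 2, 0, 3, 3],
  .step 210 127 [60] [0, 2, 0, 2, 0, 3, 3, 3, 0, 2, 2, 2, 2, 0],
  .root 117 183 true [] [3, 3, 0, 3, 3, 0, 3, 3, 3, 3, 1, 2],
  .step 12 117 [56] [2, 0, 3, 3, 0, 3, 3, 0, 3, 3, 3],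
  .step 60 117 [57] [3, 3, 0, 3, 3, 0, 3, 3, 0, 3, 0],
  .step 57 117 [58] [0, 2, 2, 2, 0, 2, 2, 0, 2, 2, 1],
  .step 83 117 [59] [0, 3, 0, 3, 3, 0, 3, 3, 3, 0, 3, 0, 2],
  .step 96 117 [60] [3, 0, 3, 3, 0, 3, 1, 3, 3],
  .step 98 117 [61] [3, 0, 3, 3, 0, 3, 0, 3, 3],
  .step 207 117 [62] [3, 0, 3, 3, 3, 3, 0, 2, 2],
  .step 94 12 [58] [3, 3, 0, 3, 3, 3, 3, 3, 1, 2],
  .step 80 12 [59] [3, 0, 2, 2, 2, 2, 2, 1, 2, 2],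
  .step 148 12 [60] [2, 2, 2, 2, 2, 0, 2, 2, 2, 2, 2, 1, 2, 2],
  .step 150 12 [61] [2, 2, 2, 2, 2, 0, 2, 2, 2, 2, 2, 0, 2, 2],
  .step 128 60 [59] [3, 3, 0, 3, 3, 0, 3, 3, 3, 0, 3, 1, 2, 2],
  .step 199 60 [60] [0, 2, 2, 0, 2, 2, 2, 0, 2, 0, 2, 2, 2],
  .step 198 60 [61] [0, 2, 2, 0, 2, 2, 2, 0, 2, 1, 2, 2, 2],
  .step 24 57 [57] [3, 3, 0, 3, 3, 0, 2, 2, 2, 1],
  .step 63 57 [60] [2, 2, 2, 2, 2, 0, 2, 2, 1, 2, 2, 2, 2, 2],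
  .step 71 57 [61] [2, 2, 2, 2, 2, 0, 2, 2, 0, 2, 2, 2, 2, 2],
  .step 163 83 [56] [3, 0, 3, 3, 0, 2, 2, 2, 0, 2, 2, 2, 2, 2, 2],
  .step 137 83 [60] [2, 2, 0, 2, 0, 2, 2, 0, 2],
  .step 134 83 [61] [2, 2, 0, 2, 0, 2, 2, 1, 2],
  .step 154 96 [60] [2, 2, 0, 2, 0, 2, 2, 1, 2],
  .step 91 207 [57] [0, 2, 0, 3, 3, 3, 0, 2, 2, 2, 2, 0, 2, 0],
  .step 143 207 [60] [0, 3, 3, 0, 3, 0, 3, 0, 2, 2, 2, 0, 3, 3],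
  .step 145 207 [61] [0, 3, 3, 0, 3, 0, 3, 0, 2, 2, 2, 1, 3, 3],
  .step 39 94 [60] [2, 2, 2, 2, 2, 0, 2, 2, 2, 2, 2, 1, 2, 2],
  .step 56 94 [61] [2, 2, 2, 2, 2, 0, 2, 2, 2, 2, 2, 0, 2, 2],
  .step 93 80 [60] [2, 2, 2, 2, 2, 0, 2, 2, 2, 2, 2, 1, 2, 2],
  .step 100 80 [61] [2, 2, 2, 2, 2, 0, 2, 2, 2, 2, 2, 0, 2, 2],
  .step 51 148 [60] [0, 2, 2, 2, 2, 2, 0, 2, 2, 2, 2, 2, 0, 2, 2],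
  .step 59 128 [60] [2, 2, 2, 2, 2, 0, 2, 2, 1, 2, 2, 2, 2, 2],
  .step 79 128 [61] [2, 2, 2, 2, 2, 0, 2, 2, 0, 2, 2, 2, 2, 2],
  .step 89 199 [60] [0, 2, 2, 0, 2, 0, 2, 2, 2, 2, 2, 0, 2],
  .step 180 24 [60] [2, 2, 2, 2, 2, 0, 2, 2, 1, 2, 2, 2, 2, 2],
  .step 182 24 [61] [2, 2, 2, 2, 2, 0, 2, 2, 0, 2, 2, 2, 2, 2],
  .step 84 63 [60] [2, 2, 2, 2, 2, 0, 2, 2, 0, 2, 2, 2, 2, 2],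
  .step 75 163 [60] [0, 2, 2, 0, 2, 0, 2, 2, 2, 2, 2, 0, 2],
  .step 77 163 [61] [0, 2, 2, 0, 2, 0, 2, 2, 2, 2, 2, 1, 2],
  .step 113 137 [60] [3, 0, 3, 3, 0, 3, 0, 3, 3],
  .step 222 154 [62] [3, 0, 3, 3, 3, 3, 0, 2, 2],
  .step 209 91 [60] [0, 2, 0, 2, 0, 3, 3, 3, 0, 2, 2, 2, 2, 0],
  .step 211 91 [61] [0, 2, 0, 2, 0, 3, 3, 3, 0, 2, 2, 2, 2, 1],
  .step 131 39 [60] [2, 2, 2, 2, 2, 0, 2, 2, 2, 2, 2, 0, 2, 2],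
  .step 115 93 [60] [2, 2, 2, 2, 2, 0, 2, 2, 2, 2, 2, 0, 2, 2],
  .step 168 59 [60] [2, 2, 2, 2, 2, 0, 2, 2, 0, 2, 2, 2, 2, 2],
  .step 67 180 [60] [0, 2, 2, 2, 2, 2, 0, 2, 2, 0, 2, 2, 2, 2, 2],
  .step 190 75 [60] [0, 2, 2, 0, 2, 2, 2, 0, 2, 0, 2, 2, 2],
  .step 126 222 [57] [0, 2, 0, 3, 3, 3, 0, 2, 2, 2, 2, 0, 2, 0],
  .root 140 206 false [] [],
  .step 172 140 [56] [0, 2, 0, 2, 2, 2, 1, 2],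
  .step 160 140 [57] [3, 3, 3, 3, 3, 0, 3, 3, 0, 3, 1],
  .step 188 140 [58] [0, 2, 2, 2, 0, 2, 0, 2, 2, 2, 2, 2, 1]]

/-- the cover of node 10 -/
def cv10 : List Cv := [
  .root 0 131 true [] [],
  .step 207 0 [68] [0, 2, 0, 3, 3, 3, 3, 0, 2, 2, 2, 2, 2, 2],
  .root 3 132 true [] [0, 0],
  .step 4 3 [66] [0, 2, 2, 0, 2, 2, 0, 2, 2, 0, 2, 2, 2, 2],
  .step 219 3 [68] [0, 2, 0, 3, 3, 3, 3, 0, 2, 2, 2, 2, 2, 2],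
  .step 220 4 [68] [0, 2, 0, 3, 3, 3, 3, 0, 2, 2, 2, 2, 2, 2],
  .root 7 133 true [] [0, 0],
  .step 8 7 [66] [0, 2, 2, 0, 2, 2, 0, 2, 2, 0, 2, 2, 2, 2],
  .step 222 7 [68] [2, 0, 3, 3, 3, 3, 0, 2, 2, 2, 2, 2, 2],
  .step 221 8 [68] [2, 0, 3, 3, 3, 3, 0, 2, 2, 2, 2, 2, 2],
  .root 18 134 true [] [3, 3, 3, 0, 3, 3, 3, 0, 3, 0, 3, 0],
  .step 6 18 [66] [0, 3, 3, 3, 3, 3],
  .step 213 18 [68] [2, 0, 2, 2, 2, 2, 2, 0, 2, 2, 2, 2, 2, 1],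
  .step 245 6 [68] [3, 3, 3, 0, 2, 2, 2, 2, 2, 2, 1, 2],
  .root 66 135 false [] [0, 3, 3, 3, 3, 0, 3, 0, 3, 3, 3, 3, 1],
  .step 15 66 [64] [0, 2, 2, 0, 2, 2, 2, 2, 0, 3, 3, 3, 0, 2],
  .step 128 66 [66] [3, 0, 3, 3, 3, 0, 3, 0, 3, 3, 3],
  .step 61 66 [68] [2, 2, 2, 2, 2, 0, 2, 2, 1, 2, 2, 2, 2, 2],
  .step 107 15 [66] [0, 2, 2, 0, 2, 2, 0, 2, 2, 2, 2, 1, 3, 3],
  .step 179 15 [68] [2, 2, 2, 0, 3, 3, 3, 1, 3, 3, 3],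
  .step 170 128 [68] [2, 2, 2, 0, 2, 0, 3, 3, 3, 0, 2, 2],
  .step 60 61 [66] [0, 2, 2, 0, 2, 0, 2, 2, 2, 1, 2],
  .root 9 136 false [] [0, 3, 0, 2, 2, 2, 2, 2, 0, 2, 0, 2],
  .step 83 9 [64] [2, 2, 0, 3, 3, 3, 3, 0, 3, 3, 0, 3, 1, 2],
  .step 91 9 [66] [0, 2, 2, 0, 2, 2, 0, 2, 2, 2, 2, 1, 3, 3],
  .step 1 9 [68] [3, 3, 3, 0, 3, 3, 3, 3, 3, 0, 3, 3, 1, 3],
  .step 147 83 [66] [3, 0, 3, 3, 3, 0, 3, 0, 3, 3, 3],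
  .step 227 83 [68] [0, 3, 0, 3, 3, 0, 3, 3, 0, 2, 2, 2],
  .step 152 91 [68] [3, 0, 3, 3, 0, 3, 3, 3, 0],
  .step 94 1 [66] [2, 0, 2, 2, 0, 2, 2, 1, 3, 3, 3, 3],
  .root 12 137 false [] [3, 3, 3, 0, 3, 1, 3],
  .step 2 12 [66] [0, 3, 3, 3, 3, 3],
  .root 32 138 false [] [0, 3, 0, 2, 2, 0, 2, 0, 3, 3, 3, 3, 1, 3],
  .step 56 32 [66] [2, 2, 2, 2, 2, 1],
  .step 248 32 [68] [3, 3, 3, 0, 2, 2, 2, 2, 2, 2, 1, 2],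
  .step 230 56 [68] [2, 0, 2, 2, 2, 2, 2, 0, 2, 2, 2, 2, 2, 1],
  .root 146 139 false [] [0, 2, 0, 2, 2, 2, 0, 2, 0, 2, 0, 3, 3, 3, 3, 0],
  .step 167 146 [64] [0, 2, 0, 3, 3, 3, 0, 3, 3, 0, 3, 3, 0],
  .step 55 146 [66] [2, 2, 0, 3, 3, 3, 3, 0, 3, 3, 0, 3, 3, 1],
  .step 88 146 [68] [0, 3, 0, 3, 0, 3, 3, 3, 1, 3, 3, 3, 3],
  .step 98 167 [66] [0, 2, 2, 2, 0, 2, 1, 2, 2, 2, 2],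
  .step 194 167 [68] [2, 2, 2, 0, 2, 0, 3, 3, 3, 0, 2, 2],
  .step 198 55 [68] [2, 2, 2, 0, 3, 3, 3, 1, 3, 3, 3],
  .step 100 88 [66] [3, 0, 3, 3, 3, 0, 3, 0, 3, 3, 1],
  .root 183 140 false [] [3, 0, 3, 3, 0, 2, 2, 2, 1, 2, 2],
  .step 125 183 [64] [0, 2, 0, 2, 2, 0, 3, 3, 3, 3, 3, 1, 2],
  .step 111 183 [66] [0, 2, 2, 2, 0, 2, 1, 2, 2, 2, 2],
  .step 130 183 [68] [3, 0, 3, 0, 3, 3, 0, 3, 3, 0, 3],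
  .step 26 125 [66] [2, 2, 0, 3, 3, 3, 3, 0, 3, 3, 0, 3, 3, 1],
  .step 188 125 [68] [3, 0, 3, 3, 0, 3, 3, 3, 0],
  .step 238 111 [68] [0, 3, 0, 3, 3, 0, 3, 3, 0, 2, 2, 2],
  .step 11 130 [66] [2, 2, 0, 2, 2, 0, 3, 3, 3, 3, 0, 3],
  .root 54 141 true [] [0, 2, 2, 0, 2, 0, 2, 2, 2, 2, 2, 0],
  .step 34 54 [66] [0, 3, 3, 3, 3, 3],
  .step 231 54 [68] [2, 0, 2, 2, 2, 2, 2, 0, 2, 2, 2, 2, 2, 1],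
  .step 249 34 [68] [3, 3, 3, 0, 2, 2, 2, 2, 2, 2, 1, 2],
  .root 13 142 false [] [0, 2, 2, 2, 2, 2, 0, 3, 3, 3, 0, 2],
  .step 30 13 [66] [2, 2, 2, 2, 2, 1],
  .root 48 143 false [] [0, 2, 0, 3, 3, 3, 3, 3, 1, 3, 3],
  .step 49 48 [66] [3, 3, 0, 2, 2, 2, 2, 2, 2, 1, 2, 2],
  .root 69 144 false [] [3, 0, 2, 2, 0, 2, 2, 2, 0, 2, 2, 2, 2],
  .step 105 69 [64] [3, 3, 0, 3, 3, 0, 3, 3, 3, 0, 3, 1, 2, 2],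
  .step 71 69 [66] [0, 2, 0, 3, 3, 3, 3, 0, 3, 3, 3, 3, 3, 1],
  .step 232 69 [68] [3, 3, 3, 3, 3, 0, 3, 3, 0, 3, 3, 3, 1],
  .step 106 105 [66] [2, 2, 2, 2, 0, 3, 3, 3, 3, 3, 0, 2],
  .step 70 105 [68] [0, 2, 2, 0, 2, 0, 2, 2, 0, 2, 2, 0, 2, 2],
  .step 233 71 [68] [3, 3, 3, 3, 3, 0, 3, 3, 0, 3, 3, 3, 1],
  .step 72 232 [66] [2, 2, 0, 2, 0, 2, 2, 2, 2, 2, 0, 2, 2, 1, 2],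
  .root 135 145 false [] [3, 0, 3, 3, 3, 0, 2, 2, 2, 2, 2, 2],
  .step 140 135 [64] [2, 2, 2, 0, 2, 2, 0, 2, 2, 2, 0, 3],
  .step 139 135 [66] [0, 2, 2, 0, 2, 2, 0, 3, 3, 3, 3, 1],
  .step 162 135 [68] [2, 2, 0, 2, 0, 2, 0, 3, 3, 3, 1, 2],
  .step 134 140 [66] [0, 2, 2, 0, 2, 2, 0, 3, 3, 3, 3, 1],
  .step 176 140 [68] [3, 3, 3, 0, 3, 3, 3, 3, 3, 0, 3, 3, 1, 3],
  .step 175 139 [68] [3, 3, 3, 0, 3, 3, 3, 3, 3, 0, 3, 3, 1, 3],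
  .step 161 162 [66] [0, 2, 2, 0, 2, 2, 2, 2, 0, 2, 2, 0, 2, 2],
  .root 205 146 false [] [2, 2, 2, 2, 0, 2, 2, 2, 2, 2],
  .root 43 147 false [] [3, 3, 0, 3, 3, 3, 0, 2, 2],
  .step 218 43 [64] [3, 0, 3, 0, 2, 2, 2, 2, 2, 0, 2, 0, 3, 3, 3],
  .step 73 43 [68] [0, 3, 0, 2, 2, 0, 2, 2, 0, 2, 2, 2, 0, 3],
  .step 40 218 [68] [0, 2, 2, 2, 0, 2, 2, 0, 2, 2, 2, 2, 2],
  .root 21 148 false [] [0, 2, 2, 0, 2, 0, 2, 2, 2, 0, 2, 1],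
  .root 138 149 false [] [0, 3, 3, 0, 3, 0, 2, 2, 2, 1, 3, 3, 3],
  .step 123 138 [64] [2, 2, 2, 0, 2, 2, 0, 2, 2, 2, 2, 0, 2, 1],
  .step 104 138 [68] [2, 0, 2, 2, 0, 2, 2, 2, 2, 2, 0, 2, 2, 2],
  .step 101 123 [68] [0, 3, 0, 2, 2, 0, 2, 1, 3, 3, 3, 3],
  .root 24 150 false [] [2, 2, 2, 0, 3, 3, 3, 3, 3, 0, 3, 1],
  .step 208 24 [64] [0, 2, 0, 2, 0, 2, 0, 3, 3, 3, 1, 2, 2],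
  .step 35 24 [66] [0, 2, 2, 0, 2, 2, 2, 2, 0, 2, 2, 0, 2, 2, 2, 2, 2],
  .step 206 208 [66] [0, 2, 0, 2, 0, 2, 2, 2, 2, 0, 3, 3, 3, 1, 3],
  .root 184 151 false [] [3, 0, 2, 2, 2, 2, 2, 0, 2, 2, 0, 2, 2, 1],
  .step 50 184 [64] [0, 2, 2, 0, 2, 0, 2, 2],
  .step 163 184 [66] [0, 3, 3, 0, 3, 0, 2, 2, 2, 2, 2, 2, 0, 3],
  .step 80 50 [66] [3, 0, 3, 3, 3, 0, 3, 0, 3, 3, 0],
  .root 110 151 true [] [3, 0, 3, 3, 0, 3, 3, 0, 3, 3, 1, 2, 2, 2],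
  .step 133 110 [64] [0, 3, 0, 3, 0, 2, 2, 2, 0, 3, 3, 3, 0],
  .step 5 110 [66] [2, 2, 0, 2, 2, 0, 3, 3, 3, 3, 0, 3],
  .step 236 133 [66] [0, 3, 3, 0, 3],
  .root 57 152 false [] [0, 3, 3, 0, 3, 3, 3, 3, 3, 1, 3, 3],
  .step 86 57 [64] [3, 3, 0, 3, 3, 0, 3, 3, 3, 0, 3, 1, 2, 2],
  .step 120 57 [68] [0, 2, 2, 2, 2, 2, 0, 3, 3, 3, 0],
  .step 117 86 [68] [0, 2, 0, 2, 2, 2, 0, 2, 2, 0, 2, 2, 2, 2, 2],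
  .root 29 153 false [] [2, 2, 0, 2, 0, 2, 2, 2, 2, 2, 1, 2, 2, 2, 2],
  .step 14 29 [66] [0, 3, 3, 3, 3, 3],
  .root 156 154 false [] [2, 0, 2, 2, 2, 2, 0, 2, 0, 2, 2],
  .step 160 156 [64] [2, 2, 2, 0, 2, 2, 0, 2, 2, 2, 0, 3],
  .step 159 156 [66] [0, 2, 2, 0, 2, 2, 0, 3, 3, 3, 3, 1],
  .step 119 156 [68] [0, 2, 0, 2, 2, 2, 0, 2, 2, 1, 2, 2, 2, 2, 2],
  .step 155 160 [66] [0, 2, 2, 0, 2, 2, 0, 3, 3, 3, 3, 1],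
  .step 82 160 [68] [0, 2, 2, 2, 0, 3, 3, 3, 3, 3, 1],
  .step 81 159 [68] [0, 2, 2, 2, 0, 3, 3, 3, 3, 3, 1],
  .step 118 119 [66] [2, 2, 2, 2, 0, 3, 3, 3, 3, 3, 0, 2],
  .root 212 155 false [] [3, 3, 0, 2, 2, 2, 1, 2, 2, 2],
  .step 211 212 [66] [0, 2, 0, 3, 3, 0, 3, 3, 3, 0, 3, 1, 3, 3],
  .root 46 156 false [] [0, 2, 0, 2, 2, 2, 2, 2, 0, 2, 0, 3],
  .step 225 46 [64] [0, 2, 0, 2, 0, 2, 0, 3, 3, 3, 1, 2, 2],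
  .step 79 46 [66] [0, 2, 2, 0, 2, 2, 2, 2, 0, 2, 2, 0, 2, 2, 2, 2, 2],
  .step 215 225 [66] [0, 2, 0, 2, 0, 2, 2, 2, 2, 0, 3, 3, 3, 1, 3],
  .root 78 157 false [] [0, 3, 3, 0, 3, 3, 0, 3, 3, 0, 3, 3, 1, 2],
  .step 214 78 [64] [0, 2, 0, 2, 0, 2, 0, 3, 3, 3, 0, 2, 2],
  .step 47 78 [66] [0, 2, 2, 0, 2, 2, 2, 2, 0, 2, 2, 1, 2, 2, 2, 2, 2],
  .step 226 214 [66] [0, 2, 0, 2, 0, 2, 2, 2, 2, 0, 3, 3, 3, 0, 3],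
  .root 164 158 false [] [0, 3, 3, 3, 3, 0, 3, 3, 0, 3, 3, 0, 3, 0, 3],
  .step 177 164 [64] [0, 3, 0, 3, 3, 3, 3, 0, 3, 3, 1, 3, 3, 3],
  .step 165 164 [66] [0, 2, 2, 0, 2, 2, 2, 2, 0, 2, 2, 0, 2, 2],
  .step 136 164 [68] [0, 3, 0, 2, 2, 0, 2, 1, 3, 3, 3, 3],
  .step 178 177 [66] [0, 2, 0, 3, 3, 0, 3, 3, 0, 3, 3, 1, 3, 3],
  .step 141 177 [68] [2, 0, 2, 2, 0, 2, 2, 2, 2, 2, 0, 2, 2, 2],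
  .step 137 165 [68] [0, 3, 0, 2, 2, 0, 2, 1, 3, 3, 3, 3],
  .step 142 136 [66] [0, 2, 2, 0, 2, 2, 0, 3, 3, 3, 3, 1],
  .root 51 159 false [] [2, 0, 2, 2, 2, 2, 2, 0, 2, 2, 2, 0, 3, 3],
  .step 28 51 [66] [3, 3, 3, 3, 3, 0],
  .root 64 160 false [] [3, 3, 0, 3, 0, 2, 2, 2, 2, 1, 2, 2],
  .step 235 64 [64] [3, 0, 3, 0, 2, 2, 2, 2, 2, 0, 2, 0, 3, 3, 3],
  .step 234 64 [66] [2, 2, 0, 2, 0, 2, 2, 2, 2, 2, 0, 2, 2, 0, 2],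
  .step 102 64 [68] [0, 3, 0, 2, 2, 0, 2, 2, 0, 2, 2, 2, 0, 3],
  .step 65 235 [66] [2, 2, 0, 2, 0, 2, 2, 2, 2, 2, 0, 2, 2, 1, 2],
  .step 62 235 [68] [0, 2, 2, 2, 0, 2, 2, 0, 2, 2, 2, 2, 2],
  .step 63 234 [68] [0, 2, 2, 2, 0, 2, 2, 0, 2, 2, 2, 2, 2],
  .step 103 102 [66] [2, 2, 2, 2, 0, 3, 3, 3, 3, 3, 0, 2],
  .root 113 161 true [] [2, 0, 3, 3, 0, 3, 3, 0, 3],
  .step 44 113 [64] [0, 2, 2, 0, 2, 2, 0, 2, 2, 0, 3, 3, 3, 1, 2],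
  .step 180 113 [66] [3, 0, 3, 3, 3, 0, 3, 0, 3, 3, 3],
  .step 240 113 [68] [0, 3, 0, 3, 3, 0, 3, 3, 0, 2, 2, 2],
  .step 127 44 [66] [2, 2, 0, 2, 2, 0, 2, 2, 2, 2, 1, 3, 3],
  .step 22 44 [68] [3, 3, 3, 0, 3, 3, 3, 3, 3, 0, 3, 3, 1, 3],
  .step 132 180 [68] [3, 0, 3, 0, 3, 3, 0, 3, 3, 0, 3],
  .step 185 240 [66] [2, 0, 2, 2, 1],
  .root 92 162 false [] [2, 0, 2, 0, 2, 2, 2, 0, 2, 2, 0, 2, 2, 1, 2],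
  .step 200 92 [64] [0, 2, 2, 0, 2, 0, 2, 0, 3, 3, 3, 3, 0, 3, 3],
  .step 90 92 [66] [0, 2, 2, 0, 2, 0, 2, 2, 2, 1, 2],
  .step 95 92 [68] [2, 2, 2, 2, 2, 0, 2, 2, 1, 2, 2, 2, 2, 2],
  .step 196 200 [66] [2, 0, 2, 2, 2, 2, 2, 2, 0, 2, 0, 2, 2, 1],
  .step 36 200 [68] [2, 2, 2, 0, 2, 2, 2, 1, 3, 3, 3],
  .step 143 90 [68] [2, 2, 2, 2, 0, 2, 2, 2, 0, 2, 0, 2, 1],
  .step 169 95 [66] [3, 0, 3, 3, 3, 0, 3, 0, 3, 3, 3],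
  .root 217 163 false [] [0, 2, 0, 3, 3, 0, 3, 0, 2, 2, 2, 0],
  .step 58 217 [64] [0, 3, 0, 3, 0, 2, 2, 2, 0, 3, 3, 3, 1],
  .step 224 217 [66] [0, 2, 0, 2, 0, 2, 2, 2, 2, 0, 3, 3, 3, 0, 3],
  .step 68 58 [66] [3, 0, 2, 2, 2, 2, 2, 2, 0, 2, 2, 1, 2, 2, 2, 2],
  .root 67 163 true [] [0, 2, 2, 2, 2, 2, 0, 2, 2, 0, 2, 2, 2, 2, 2],
  .step 223 67 [64] [2, 0, 2, 0, 2, 0, 3, 3, 3, 1, 2, 2],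
  .step 59 67 [66] [2, 2, 0, 2, 2, 2, 2, 0, 2, 2, 0, 2, 2, 2, 2, 2],
  .step 216 223 [66] [0, 2, 0, 2, 0, 2, 2, 2, 2, 0, 3, 3, 3, 1, 3],
  .root 229 164 false [] [0, 2, 0, 2, 2, 2, 0, 2, 2, 0, 2, 0, 3],
  .step 247 229 [66] [3, 3, 3, 3, 0, 3, 3, 3, 3, 3, 0, 3],
  .step 38 229 [68] [0, 3, 3, 3, 3, 3, 0, 3, 3, 3, 3, 3, 0, 3],
  .step 20 247 [68] [3, 0, 2, 2, 2, 2, 2, 2, 1, 2, 2, 2],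
  .root 115 165 false [] [0, 2, 2, 0, 2, 0, 2, 2, 2, 1, 2],
  .step 190 115 [64] [0, 2, 2, 0, 2, 0, 2, 0, 3, 3, 3, 3, 1, 3, 3],
  .step 75 115 [66] [0, 2, 2, 0, 2, 0, 2, 2, 2, 0, 2],
  .step 201 190 [66] [2, 0, 2, 2, 2, 2, 2, 2, 0, 2, 0, 2, 2, 0],
  .root 241 165 true [] [3, 0, 3, 3, 0, 3, 3, 3, 0, 3, 0],
  .step 16 241 [64] [0, 3, 3, 3, 0, 3, 3, 0, 3, 1],
  .step 174 241 [66] [2, 0, 2, 2, 0],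
  .step 148 16 [66] [2, 0, 2, 2, 0, 2, 2, 1, 3, 3, 3, 3],
  .root 210 166 false [] [2, 0, 3, 3, 3, 0, 3, 3, 1, 3, 3, 3, 3, 3],
  .step 209 210 [66] [0, 2, 0, 3, 3, 0, 3, 3, 3, 0, 3, 1, 3, 3],
  .root 74 167 false [] [2, 2, 2, 0, 2, 2, 2, 2, 2, 0, 2, 2, 2],
  .step 202 74 [64] [3, 3, 0, 3, 0, 3, 3, 1],
  .step 116 74 [66] [3, 0, 3, 3, 3, 0, 3, 0, 3, 3, 0],
  .step 189 202 [66] [0, 3, 3, 0, 3, 0, 2, 2, 2, 2, 2, 2, 0, 3],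
  .root 168 168 false [] [0, 3, 3, 0, 3, 3, 0, 2, 2, 2, 1, 3, 3],
  .step 144 168 [64] [0, 2, 0, 2, 2, 0, 3, 3, 3, 3, 3, 0, 2],
  .step 96 168 [66] [0, 2, 2, 2, 0, 2, 1, 2, 2, 2, 2],
  .step 195 168 [68] [2, 2, 2, 0, 2, 0, 3, 3, 3, 0, 2, 2],
  .step 37 144 [66] [2, 2, 0, 3, 3, 3, 3, 0, 3, 3, 0, 3, 3, 1],
  .step 89 144 [68] [0, 3, 0, 3, 0, 3, 3, 3, 1, 3, 3, 3, 3],
  .step 93 96 [68] [2, 2, 2, 2, 2, 0, 2, 2, 1, 2, 2, 2, 2, 2],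
  .step 199 195 [66] [0, 3, 3, 0, 3, 0, 2, 2, 2, 2, 2, 2, 1, 3],
  .root 186 168 true [] [3, 0, 3, 0, 2, 2, 2, 2, 2, 0, 2, 1, 3, 3],
  .step 131 186 [64] [0, 2, 0, 2, 0, 2, 0, 3, 3, 3, 0, 2, 2],
  .step 239 186 [66] [0, 3, 3, 1, 3],
  .step 126 186 [68] [0, 2, 2, 2, 0, 2, 2, 1, 2],
  .step 23 131 [66] [2, 2, 0, 2, 2, 0, 3, 3, 3, 3, 0, 3, 0],
  .step 181 131 [68] [2, 0, 2, 2, 0, 2, 2, 0, 2, 0, 2],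
  .step 114 239 [68] [3, 0, 3, 3, 0, 2, 2, 2, 2, 0, 2, 0],
  .step 45 126 [66] [2, 2, 0, 3, 3, 3, 3, 0, 3, 3, 0, 3, 3],
  .root 41 169 false [] [0, 2, 0, 2, 2, 0, 2, 2, 0, 2, 2, 2, 2, 1, 2],
  .step 42 41 [66] [3, 3, 0, 2, 2, 2, 2, 2, 2, 1, 2, 2],
  .root 27 170 false [] [3, 3, 3, 0, 3, 3, 0, 3, 3, 1],
  .step 52 27 [66] [1, 2, 2, 2, 2, 2],
  .root 149 171 false [] [2, 0, 2, 2, 2, 0, 3, 3, 3, 3],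
  .step 173 149 [64] [0, 3, 0, 3, 0, 2, 2, 2, 0, 3, 3, 3, 0],
  .step 17 149 [66] [2, 2, 0, 2, 2, 0, 3, 3, 3, 3, 0, 3],
  .step 242 173 [66] [0, 3, 3, 0, 3],
  .root 19 172 false [] [3, 0, 3, 0, 3, 3, 3, 0, 3, 3, 0, 2, 2],
  .step 39 19 [66] [2, 2, 2, 2, 2, 1],
  .step 246 19 [68] [3, 3, 3, 0, 2, 2, 2, 2, 2, 2, 1, 2],
  .step 228 39 [68] [2, 0, 2, 2, 2, 2, 2, 0, 2, 2, 2, 2, 2, 1],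
  .root 31 187 false [] [0, 2, 2, 0, 3, 3, 3, 0, 2, 2, 2, 0, 2],
  .step 243 31 [64] [0, 2, 0, 2, 2, 0, 2, 2, 2, 1],
  .step 150 31 [66] [2, 0, 2, 2, 0, 2, 2, 1, 3, 3, 3, 3],
  .step 171 243 [66] [2, 0, 2, 2, 0],
  .root 109 188 false [] [0, 3, 3, 0, 3, 3, 3, 1, 3],
  .step 192 109 [64] [0, 2, 2, 0, 2, 0, 2, 0, 3, 3, 3, 3, 1, 3, 3],
  .step 77 109 [66] [0, 2, 2, 0, 2, 0, 2, 2, 2, 0, 2],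
  .step 203 192 [66] [2, 0, 2, 2, 2, 2, 2, 2, 0, 2, 0, 2, 2, 0],
  .root 112 189 true [] [0, 2, 2, 2, 0, 2, 2, 1, 3, 3, 3],
  .step 25 112 [64] [0, 2, 2, 0, 2, 2, 2, 2, 0, 3, 3, 3, 1, 2],
  .step 182 112 [66] [3, 0, 3, 3, 3, 0, 3, 0, 3, 3, 3],
  .step 237 112 [68] [0, 3, 0, 3, 3, 0, 3, 3, 0, 2, 2, 2],
  .step 124 25 [66] [0, 2, 2, 0, 2, 2, 0, 2, 2, 2, 2, 1, 3, 3],
  .step 10 25 [68] [3, 3, 3, 0, 3, 3, 3, 3, 3, 0, 3, 3, 1, 3],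
  .step 129 182 [68] [3, 0, 3, 0, 3, 3, 0, 3, 3, 0, 3],
  .step 187 237 [66] [2, 0, 2, 2, 1],
  .root 53 190 true [] [0, 2, 2, 0, 2, 2, 0, 2, 1, 2, 2, 2],
  .step 97 53 [64] [2, 2, 0, 3, 3, 3, 3, 0, 3, 3, 0, 3, 0, 2],
  .step 145 53 [66] [0, 2, 2, 0, 2, 2, 0, 2, 2, 2, 2, 1, 3, 3],
  .step 197 53 [68] [2, 2, 2, 0, 3, 3, 3, 1, 3, 3, 3],
  .step 166 97 [66] [3, 0, 3, 3, 3, 0, 3, 0, 3, 3, 3],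
  .step 99 97 [68] [2, 2, 2, 2, 2, 0, 2, 2, 1, 2, 2, 2, 2, 2],
  .step 87 145 [68] [0, 3, 0, 3, 0, 3, 3, 3, 1, 3, 3, 3, 3],
  .step 193 197 [66] [2, 0, 2, 2, 2, 2, 2, 2, 0, 2, 0, 2, 2, 1],
  .root 151 191 true [] [3, 3, 3, 3, 3, 0, 3, 3, 1, 3, 3],
  .step 172 151 [64] [0, 3, 0, 3, 0, 2, 2, 2, 0, 3, 3, 3, 0],
  .step 33 151 [66] [2, 2, 0, 2, 2, 0, 3, 3, 3, 3, 0, 3],
  .step 244 172 [66] [0, 3, 3, 0, 3],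
  .root 76 192 true [] [0, 2, 0, 2, 2, 2, 2, 0, 2, 1, 3, 3],
  .step 204 76 [64] [3, 3, 0, 3, 0, 3, 3, 1],
  .step 108 76 [66] [3, 0, 3, 3, 3, 0, 3, 0, 3, 3, 0],
  .step 191 204 [66] [0, 3, 3, 0, 3, 0, 2, 2, 2, 2, 2, 2, 0, 3],
  .root 154 204 true [] [0, 3, 3, 0, 3, 3, 3, 3, 3, 0, 3, 0, 3, 0],
  .step 158 154 [64] [2, 2, 2, 0, 2, 2, 0, 2, 2, 2, 0, 3],
  .step 157 154 [66] [0, 2, 2, 0, 2, 2, 0, 3, 3, 3, 3, 1],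
  .step 121 154 [68] [0, 2, 0, 2, 2, 2, 0, 2, 2, 1, 2, 2, 2, 2, 2],
  .step 153 158 [66] [0, 2, 2, 0, 2, 2, 0, 3, 3, 3, 3, 1],
  .step 84 158 [68] [0, 2, 2, 2, 0, 3, 3, 3, 3, 3, 1],
  .step 85 157 [68] [0, 2, 2, 2, 0, 3, 3, 3, 3, 3, 1],
  .step 122 121 [66] [2, 2, 2, 2, 0, 3, 3, 3, 3, 3, 0, 2]]

/-- the cover of node 11 -/
def cv11 : List Cv := [
  .root 0 173 true [] [],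
  .step 227 0 [70] [0, 3, 0, 2, 2, 2, 2, 2, 0, 2, 0, 2, 2, 2],
  .step 89 0 [72] [2, 0, 2, 2, 0, 2, 2, 0, 2, 2, 0, 2, 2, 2],
  .step 59 0 [73] [3, 3, 3, 0, 3, 0, 2],
  .step 235 227 [72] [3, 3, 3, 3, 1, 3],
  .step 247 227 [73] [3, 0, 2, 2, 2, 0, 3, 3, 3, 3, 0, 3, 1],
  .step 11 89 [72] [3, 3, 3, 3, 3, 0, 3, 3, 3, 1, 2, 2],
  .step 53 59 [73] [0, 2, 2, 0, 2, 2, 0, 2, 2, 2, 2, 0],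
  .step 77 235 [72] [0, 2, 2, 0, 2, 0, 2, 2, 0, 2, 2, 1, 3],
  .step 167 247 [73] [0, 3, 3, 0, 2, 2, 2, 1, 3, 3, 3, 3, 3],
  .root 3 174 false [] [3, 0, 2, 2, 2, 2, 2, 2, 0, 2],
  .step 237 3 [70] [0, 3, 0, 2, 2, 2, 2, 2, 0, 2, 0, 2, 2, 2],
  .step 90 3 [72] [2, 0, 2, 2, 0, 2, 2, 0, 2, 2, 0, 2, 2, 2],
  .step 79 3 [73] [3, 3, 3, 0, 3, 0, 2],
  .step 234 237 [72] [3, 3, 3, 3, 1, 3],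
  .step 249 237 [73] [3, 0, 2, 2, 2, 0, 3, 3, 3, 3, 0, 3, 1],
  .step 1 90 [72] [3, 3, 3, 3, 3, 0, 3, 3, 3, 1, 2, 2],
  .step 36 79 [73] [0, 2, 2, 0, 2, 2, 0, 2, 2, 2, 2, 0],
  .step 50 234 [72] [0, 2, 2, 0, 2, 0, 2, 2, 0, 2, 2, 1, 3],
  .step 168 249 [73] [0, 3, 3, 0, 2, 2, 2, 1, 3, 3, 3, 3, 3],
  .root 7 175 true [] [3, 0, 2, 2, 2, 2, 2, 2, 0, 2, 1],
  .step 240 7 [70] [3, 0, 2, 2, 2, 2, 2, 0, 2, 0, 2, 2, 2],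
  .step 87 7 [72] [0, 2, 0, 2, 2, 0, 2, 2, 0, 2, 2, 1, 2, 2, 2],
  .step 35 7 [73] [0, 3, 3, 3, 0, 3, 1, 2],
  .step 233 240 [72] [3, 3, 3, 3, 1, 3],
  .step 245 240 [73] [3, 0, 2, 2, 2, 0, 3, 3, 3, 3, 0, 3, 1],
  .step 10 87 [72] [3, 3, 3, 3, 3, 0, 3, 3, 3, 1, 2, 2],
  .step 37 35 [73] [0, 2, 2, 0, 2, 2, 0, 2, 2, 2, 2, 0],
  .step 76 233 [72] [0, 2, 2, 0, 2, 0, 2, 2, 0, 2, 2, 1, 3],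
  .step 169 245 [73] [0, 3, 3, 0, 2, 2, 2, 1, 3, 3, 3, 3, 3],
  .root 4 176 true [] [0, 2, 0, 3, 3, 0, 3, 3, 0, 3],
  .step 238 4 [70] [0, 3, 0, 2, 2, 2, 2, 2, 0, 2, 0, 2, 2, 2],
  .step 88 4 [72] [2, 0, 2, 2, 0, 2, 2, 0, 2, 2, 0, 2, 2, 2],
  .step 58 4 [73] [3, 3, 3, 0, 3, 0, 2],
  .step 232 238 [72] [3, 3, 3, 3, 1, 3],
  .step 246 238 [73] [3, 0, 2, 2, 2, 0, 3, 3, 3, 3, 0, 3, 1],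
  .step 23 88 [72] [3, 3, 0, 3, 0, 3, 0, 2, 2, 2, 2, 0, 2],
  .step 15 58 [73] [0, 2, 2, 0, 2, 2, 0, 2, 2, 2, 2, 0],
  .step 75 232 [72] [0, 2, 2, 0, 2, 0, 2, 2, 0, 2, 2, 1, 3],
  .step 128 246 [73] [0, 3, 3, 0, 2, 2, 2, 1, 3, 3, 3, 3, 3],
  .root 8 177 false [] [3, 3, 3, 0, 3, 0, 2, 2, 2, 2],
  .step 239 8 [70] [3, 0, 2, 2, 2, 2, 2, 0, 2, 0, 2, 2, 2],
  .step 60 8 [72] [0, 2, 0, 2, 2, 0, 2, 2, 0, 2, 2, 1, 2, 2, 2],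
  .step 78 8 [73] [0, 3, 3, 3, 0, 3, 1, 2],
  .step 218 239 [72] [3, 3, 3, 3, 1, 3],
  .step 248 239 [73] [3, 0, 2, 2, 2, 0, 3, 3, 3, 3, 0, 3, 1],
  .step 22 60 [72] [3, 3, 0, 3, 0, 3, 0, 2, 2, 2, 2, 0, 2],
  .step 55 78 [73] [0, 2, 2, 0, 2, 2, 0, 2, 2, 2, 2, 0],
  .step 74 218 [72] [0, 2, 2, 0, 2, 0, 2, 2, 0, 2, 2, 1, 3],
  .step 166 248 [73] [0, 3, 3, 0, 2, 2, 2, 1, 3, 3, 3, 3, 3],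
  .root 190 178 true [] [0, 2, 0, 3, 3, 3, 3, 3, 0, 3, 3, 1, 3, 3, 3, 3],
  .step 44 190 [70] [2, 0, 2, 0, 2, 2, 0, 2, 2, 0],
  .step 49 190 [72] [2, 2, 0, 2, 0, 2, 2, 0, 2, 2, 0, 2, 2, 2],
  .step 208 190 [73] [3, 3, 0, 3, 3, 0, 3, 3, 0, 3, 3, 1],
  .step 98 44 [72] [2, 0, 2, 2, 2, 0, 2, 2, 1, 3, 3, 3, 3, 3],
  .step 86 44 [73] [0, 2, 2, 0, 3, 3, 3, 3, 0, 3, 3, 1, 2],
  .step 176 49 [72] [2, 2, 0, 2, 2, 1, 3, 3, 3, 3, 3],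
  .step 142 208 [73] [2, 2, 2, 0, 2, 2, 0, 3, 3, 3, 3],
  .step 31 98 [72] [0, 3, 3, 0, 3, 3, 0, 2, 2, 2, 2, 0],
  .step 216 86 [73] [0, 2, 0, 3, 3, 0, 3, 3, 3, 3, 0, 2, 2, 2],
  .root 92 179 false [] [2, 2, 0, 3, 3, 3, 0],
  .step 102 92 [70] [2, 0, 2, 2, 0, 2, 2, 0, 2, 2],
  .step 150 92 [72] [0, 2, 0, 2, 0, 2, 2, 0, 2, 2, 2, 2, 2, 0, 2, 1],
  .step 207 92 [73] [0, 3, 0, 3, 3, 3, 3, 3, 0, 3, 3, 1, 3],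
  .step 155 102 [72] [0, 2, 0, 2, 2, 2, 0, 2, 2, 2, 2, 2, 0, 2],
  .step 80 102 [73] [0, 2, 0, 3, 3, 3, 0, 3, 3, 3, 3, 0, 2],
  .step 212 150 [72] [3, 0, 2, 2, 2, 0, 3, 3, 3, 3, 3, 1],
  .step 28 207 [73] [0, 3, 3, 0, 3, 3, 3, 3, 1, 2, 2],
  .step 125 155 [72] [3, 0, 3, 3, 3, 3, 0, 3, 3, 1, 2],
  .step 63 80 [73] [0, 2, 2, 0, 2, 2, 2, 2, 0, 2, 2, 1, 2, 2, 2],
  .root 202 180 false [] [0, 3, 3, 0, 2, 2, 2, 0, 2, 2, 2, 2],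
  .step 145 202 [72] [3, 0, 2, 2, 2, 2, 0, 3],
  .step 24 202 [73] [2, 0, 2, 0, 3, 3, 3, 0, 2, 2, 2, 1, 3],
  .step 130 145 [72] [2, 2, 0, 2, 2, 2, 2, 2, 0, 2, 2, 2, 1],
  .step 199 24 [73] [3, 3, 3, 0, 3, 0, 2, 2, 2, 0],
  .root 62 181 false [] [0, 2, 0, 3, 3, 0, 3, 3, 3, 3, 3, 1, 2, 2, 2],
  .step 27 62 [70] [3, 3, 0, 3, 0, 2, 2, 2, 0, 3],
  .step 108 62 [72] [0, 2, 2, 0, 2, 2, 2, 2, 0, 2, 2, 0, 2, 2, 2],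
  .step 205 62 [73] [0, 2, 0, 2, 2, 0, 3, 3, 3, 3, 3, 1, 3, 3],
  .step 220 27 [72] [3, 3, 0, 2, 2, 2, 2, 0, 2, 2, 0],
  .step 91 27 [73] [0, 3, 0, 3, 3, 3, 0, 3, 0, 3, 3, 0, 3],
  .step 105 108 [72] [3, 0, 2, 2, 2, 2, 0, 2, 2, 0, 2, 0, 3],
  .step 148 205 [73] [0, 2, 2, 2, 2, 2, 0, 3, 3, 3, 0, 2],
  .step 99 220 [72] [2, 0, 2, 2, 0, 2, 2, 2, 2, 2, 0, 2, 1],
  .step 153 91 [73] [3, 0, 2, 2, 0, 2, 2, 2, 2, 0, 2],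
  .root 215 182 true [] [0, 2, 2, 0, 3, 3, 3, 1, 3],
  .step 139 215 [70] [2, 0, 2, 0, 2, 2, 2, 0, 2, 1, 3, 3],
  .step 119 215 [72] [2, 0, 3, 3, 0, 3, 3, 3, 3, 0, 2, 2, 2, 0],
  .step 177 215 [73] [0, 2, 2, 0, 2, 2, 0, 2, 0, 2, 2, 2, 2, 0, 2, 2],
  .step 225 139 [72] [2, 2, 0, 2, 2, 0, 3, 3, 3, 3, 3],
  .step 16 139 [73] [3, 3, 3, 0, 3, 1, 2, 2, 2, 2, 2],
  .step 45 119 [72] [2, 2, 2, 0, 2, 2, 2, 2, 2, 2, 0, 2, 2],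
  .step 21 177 [73] [2, 2, 2, 0, 2, 2, 1, 3, 3, 3, 3],
  .step 189 225 [72] [0, 2, 2, 0, 2, 2, 0, 2, 2, 1, 2, 2],
  .step 66 16 [73] [0, 3, 3, 0, 3, 3, 0, 2, 2, 2, 2, 0],
  .root 47 183 false [] [2, 2, 2, 0, 2, 0, 3, 3, 3, 3, 0, 3, 3, 1, 3],
  .step 204 47 [72] [0, 2, 0, 3, 3, 3, 0, 2, 2, 2, 1, 3, 3],
  .step 200 47 [73] [3, 3, 3, 0, 3, 0, 2, 2, 2, 0],
  .step 143 204 [72] [3, 0, 2, 2, 2, 2, 0, 3],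
  .step 94 200 [73] [3, 0, 2, 2, 2, 0, 2, 2, 2, 2, 2, 2],
  .root 121 184 false [] [2, 2, 0, 2, 2, 0, 3, 3, 3, 3, 1],
  .step 223 121 [70] [0, 3, 3, 0, 3, 1, 2, 2, 2, 2, 2],
  .step 26 121 [72] [3, 0, 2, 2, 0, 2, 2, 2, 2, 1, 3, 3],
  .step 206 121 [73] [0, 2, 0, 3, 3, 0, 3, 3, 3, 3, 0, 2, 2, 2],
  .step 191 223 [72] [0, 2, 2, 0, 2, 2, 0, 2, 2, 1, 2, 2],
  .step 104 223 [73] [2, 2, 2, 0, 2, 2, 0, 3, 3, 3, 3],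
  .step 97 26 [72] [0, 2, 0, 2, 2, 2, 0, 2, 2, 1, 3, 3, 3, 3, 3],
  .step 178 206 [73] [0, 2, 2, 0, 2, 2, 0, 2, 0, 2, 2, 2, 2, 0, 2, 2],
  .step 48 191 [72] [2, 2, 0, 2, 0, 2, 2, 0, 2, 2, 0, 2, 2, 2],
  .step 17 104 [73] [3, 3, 3, 0, 3, 1, 2, 2, 2, 2, 2],
  .root 211 185 false [] [0, 3, 3, 0, 3, 1, 3, 3, 3],
  .step 124 211 [70] [0, 3, 0, 3, 0, 3, 0, 2, 2, 2, 2, 2, 0, 2, 0],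
  .step 69 211 [72] [0, 3, 0, 3, 3, 0, 3, 3, 3, 3, 0, 3, 1, 2],
  .step 149 211 [73] [0, 2, 2, 2, 2, 2, 0, 3, 3, 3, 0, 2],
  .step 13 124 [72] [0, 2, 0, 2, 2, 0, 2, 1, 2, 2, 2, 2],
  .step 154 124 [73] [3, 0, 2, 2, 0, 2, 2, 2, 2, 0, 2],
  .step 116 69 [72] [0, 2, 2, 0, 2, 2, 2, 2, 0, 2, 2, 0, 2, 2, 2],
  .step 61 149 [73] [0, 2, 0, 3, 3, 3, 0, 3, 3, 0, 3, 3, 3, 3, 0, 3],
  .step 221 13 [72] [0, 3, 3, 0, 2, 2, 2, 2, 0, 2, 2, 0],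
  .step 73 154 [73] [3, 0, 3, 3, 3, 3, 3, 0, 3, 3, 3, 0, 3, 0],
  .root 226 186 false [] [0, 3, 0, 3, 0, 3, 3, 0, 3, 3, 0, 2],
  .step 118 226 [70] [3, 3, 3, 3, 0, 3, 0, 2, 2, 2, 0],
  .step 192 226 [72] [0, 2, 2, 0, 2, 2, 0, 2, 2, 1, 2, 2],
  .step 141 226 [73] [2, 2, 2, 0, 2, 2, 0, 3, 3, 3, 3],
  .step 25 118 [72] [3, 0, 2, 2, 0, 2, 2, 2, 2, 1, 3, 3],
  .step 217 118 [73] [0, 2, 0, 3, 3, 0, 3, 3, 3, 3, 0, 2, 2, 2],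
  .step 42 192 [72] [2, 2, 0, 2, 0, 2, 2, 0, 2, 2, 0, 2, 2, 2],
  .step 5 141 [73] [3, 3, 3, 0, 3, 1, 2, 2, 2, 2, 2],
  .step 96 25 [72] [0, 2, 0, 2, 2, 2, 0, 2, 2, 1, 3, 3, 3, 3, 3],
  .step 138 217 [73] [0, 2, 2, 0, 2, 2, 0, 2, 0, 2, 2, 2, 2, 0, 2, 2],
  .root 158 187 true [] [0, 3, 0, 3, 3, 3, 0, 3, 0, 3, 0, 2, 2, 2, 2],
  .step 244 158 [72] [3, 0, 2, 2, 2, 2, 0, 2, 2, 2, 2, 2],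
  .step 43 158 [73] [3, 3, 3, 0, 3, 3, 0, 2, 2, 2, 2, 2],
  .step 135 244 [72] [0, 2, 0, 2, 0, 2, 2, 2, 2, 2, 1, 3, 3],
  .step 114 43 [73] [2, 0, 3, 3, 3, 3, 0],
  .root 111 188 true [] [2, 0, 2, 2, 2, 0, 2, 2, 0, 2, 2, 0, 2],
  .step 70 111 [72] [0, 2, 2, 2, 2, 0, 3],
  .step 136 111 [73] [0, 2, 2, 2, 2, 2, 2, 0, 3, 3, 3, 1, 2, 2],
  .step 157 70 [72] [3, 3, 3, 0, 3, 3, 0, 2, 2, 2, 2, 2],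
  .step 236 136 [73] [2, 0, 2, 2, 0, 2, 0, 2, 2, 2, 2, 0, 2],
  .root 222 189 false [] [2, 0, 2, 2, 2, 2, 0, 2, 0, 3, 3, 3, 1, 2],
  .step 115 222 [70] [3, 3, 0, 2, 2, 2, 2, 2, 0, 2, 1, 2, 2, 2],
  .step 100 222 [72] [2, 0, 2, 2, 0, 2, 2, 2, 2, 2, 0, 2, 1],
  .step 2 222 [73] [0, 3, 3, 0, 3, 3, 0, 3, 3, 0, 2, 2],
  .step 106 115 [72] [3, 0, 2, 2, 2, 2, 0, 2, 2, 0, 2, 0, 3],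
  .step 40 115 [73] [0, 2, 2, 0, 2, 2, 2, 2, 0, 2, 2, 1, 2, 2, 2],
  .step 151 100 [72] [0, 2, 0, 2, 0, 2, 2, 0, 2, 2, 2, 2, 2, 0, 2, 1],
  .step 127 2 [73] [3, 0, 3, 3, 3, 0, 3, 0, 3, 3, 1, 3],
  .step 156 106 [72] [0, 2, 0, 2, 2, 2, 0, 2, 2, 2, 2, 2, 0, 2],
  .step 209 40 [73] [0, 2, 0, 2, 2, 0, 3, 3, 3, 3, 3, 1, 3, 3],
  .root 71 190 false [] [0, 2, 2, 0, 2, 0, 2, 2, 1, 2, 2, 2, 2],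
  .step 14 71 [70] [3, 0, 3, 0, 3, 0, 2, 2, 2, 1, 3],
  .step 109 71 [72] [0, 2, 2, 0, 2, 2, 2, 2, 0, 2, 2, 0, 2, 2, 2],
  .step 210 71 [73] [0, 2, 0, 2, 2, 0, 3, 3, 3, 3, 3, 1, 3, 3],
  .step 219 14 [72] [0, 3, 3, 0, 2, 2, 2, 2, 0, 2, 2, 0],
  .step 126 14 [73] [3, 0, 3, 3, 3, 0, 3, 0, 3, 3, 1, 3],
  .step 103 109 [72] [3, 0, 2, 2, 2, 2, 0, 2, 2, 0, 2, 0, 3],
  .step 110 210 [73] [0, 2, 2, 2, 2, 2, 0, 3, 3, 3, 0, 2],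
  .step 93 219 [72] [2, 0, 2, 2, 0, 2, 2, 2, 2, 2, 0, 2, 1],
  .step 117 126 [73] [3, 0, 2, 2, 0, 2, 2, 2, 2, 0, 2],
  .root 64 191 false [] [0, 2, 0, 3, 3, 3, 0, 3, 3, 1],
  .step 159 64 [72] [3, 3, 3, 0, 3, 3, 0, 2, 2, 2, 2, 2],
  .step 83 64 [73] [2, 0, 3, 3, 3, 3, 0],
  .step 243 159 [72] [3, 0, 2, 2, 2, 2, 0, 2, 2, 2, 2, 2],
  .step 137 83 [73] [0, 2, 2, 2, 2, 2, 2, 0, 3, 3, 3, 1, 2, 2],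
  .root 72 192 false [] [0, 2, 2, 0, 2, 2, 2, 0, 2, 2, 1, 3, 3],
  .step 160 72 [72] [3, 3, 3, 0, 3, 3, 0, 2, 2, 2, 2, 2],
  .step 113 72 [73] [2, 0, 3, 3, 3, 3, 0],
  .step 242 160 [72] [3, 0, 2, 2, 2, 2, 0, 2, 2, 2, 2, 2],
  .step 101 113 [73] [0, 2, 2, 2, 2, 2, 2, 0, 3, 3, 3, 1, 2, 2],
  .root 146 193 false [] [2, 0, 2, 0, 3, 3, 3],
  .step 132 146 [72] [2, 2, 0, 2, 2, 2, 2, 2, 0, 2, 2, 2, 1],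
  .step 203 146 [73] [2, 0, 3, 3, 3, 3, 0, 2],
  .step 179 132 [72] [2, 2, 2, 2, 2, 2, 0, 3, 3, 3, 0, 2],
  .step 67 203 [73] [2, 2, 0, 3, 3, 3, 0, 2, 2, 2, 0, 3],
  .root 19 194 false [] [0, 3, 3, 0, 3, 0, 3, 3, 0, 3, 3, 3, 3],
  .step 164 19 [70] [0, 3, 3, 3, 0, 3, 3, 1, 3, 3, 3],
  .step 187 19 [72] [3, 3, 0, 3, 3, 3, 3, 0, 2, 2],
  .step 18 19 [73] [2, 2, 2, 2, 2, 2, 0, 3, 3, 3, 1, 2],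
  .step 182 164 [72] [0, 2, 0, 3, 3, 3, 3, 0, 2],
  .step 133 164 [73] [0, 2, 2, 0, 2, 2, 0, 2, 2, 0, 3, 3, 3, 1],
  .step 29 187 [72] [0, 2, 2, 0, 2, 2, 2, 0, 2, 0, 2],
  .step 228 18 [73] [3, 3, 3, 0, 3, 3, 3, 3, 1, 2],
  .step 194 182 [72] [0, 3, 0, 2, 2, 0, 2, 2, 2, 2, 1, 3, 3],
  .step 85 133 [73] [0, 2, 0, 2, 0, 2, 2, 2, 2, 2, 1, 2, 2, 2],
  .root 123 195 false [] [2, 2, 2, 2, 2, 0, 3, 3, 3, 3, 0, 2],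
  .step 6 123 [70] [2, 2, 2, 0, 2, 2, 0, 2, 2, 2, 0],
  .step 181 123 [72] [0, 2, 0, 3, 3, 3, 3, 0, 2],
  .step 174 123 [73] [0, 2, 2, 0, 2, 2, 0, 2, 2, 0, 3, 3, 3, 1],
  .step 186 6 [72] [3, 3, 0, 3, 3, 3, 3, 0, 2, 2],
  .step 39 6 [73] [2, 2, 2, 2, 2, 2, 0, 3, 3, 3, 1, 2],
  .step 193 181 [72] [0, 3, 0, 2, 2, 0, 2, 2, 2, 2, 1, 3, 3],
  .step 82 174 [73] [0, 2, 0, 2, 0, 2, 2, 2, 2, 2, 1, 2, 2, 2],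
  .step 30 186 [72] [0, 2, 2, 0, 2, 2, 2, 0, 2, 0, 2],
  .step 231 39 [73] [3, 3, 3, 0, 3, 3, 3, 3, 1, 2],
  .root 57 196 false [] [2, 0, 3, 3, 3, 3, 3, 0, 3, 3],
  .step 213 57 [70] [0, 3, 3, 0, 3, 1, 3],
  .step 173 57 [72] [3, 3, 3, 0, 3, 3, 3, 3, 3, 0, 3, 0, 3, 1],
  .step 52 57 [73] [0, 2, 0, 2, 2, 2, 2, 2, 2, 1, 2, 2, 2],
  .step 38 213 [72] [3, 0, 2, 2, 2, 2, 1, 2, 2, 2],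
  .step 196 213 [73] [0, 2, 0, 2, 2, 0, 3, 3, 3, 0, 2],
  .step 161 173 [72] [0, 2, 0, 2, 2, 0, 3, 3, 3, 3, 0, 3, 3, 0],
  .step 188 52 [73] [0, 3, 0, 3, 0, 3, 3, 3, 0, 3, 3, 1],
  .step 34 38 [72] [3, 0, 2, 2, 2, 1, 2, 2, 2, 2, 2, 2],
  .step 183 196 [73] [2, 2, 0, 3, 3, 3, 3, 0, 3, 0, 3, 1, 2],
  .root 32 196 true [] [0, 2, 0, 2, 2, 0, 2, 0, 2, 2, 2, 2, 1, 2, 2],
  .step 162 32 [70] [0, 3, 3, 3, 0, 3, 3, 1, 3, 3, 3],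
  .step 185 32 [72] [3, 3, 0, 3, 3, 3, 3, 0, 2, 2],
  .step 56 32 [73] [2, 2, 2, 2, 2, 2, 0, 3, 3, 3, 1, 2],
  .step 180 162 [72] [0, 2, 0, 3, 3, 3, 3, 0, 2],
  .step 171 162 [73] [0, 2, 2, 0, 2, 2, 0, 2, 2, 0, 3, 3, 3, 1],
  .step 12 185 [72] [0, 2, 2, 0, 2, 2, 2, 0, 2, 0, 2],
  .step 229 56 [73] [3, 3, 3, 0, 3, 3, 3, 3, 1, 2],
  .step 170 180 [72] [0, 3, 0, 2, 2, 0, 2, 2, 2, 2, 1, 3, 3],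
  .step 84 171 [73] [0, 2, 0, 2, 0, 2, 2, 2, 2, 2, 1, 2, 2, 2],
  .root 144 197 false [] [0, 2, 2, 0, 2, 2, 0, 2, 2, 2, 1],
  .step 129 144 [72] [2, 2, 0, 2, 2, 2, 2, 2, 0, 2, 2, 2, 1],
  .step 184 144 [73] [2, 0, 3, 3, 3, 3, 0, 2],
  .step 197 129 [72] [2, 2, 2, 2, 2, 2, 0, 3, 3, 3, 0, 2],
  .step 68 184 [73] [2, 2, 0, 3, 3, 3, 0, 2, 2, 2, 0, 3],
  .root 163 198 false [] [0, 3, 3, 0, 2, 2, 2, 1, 2, 2, 2, 2, 2],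
  .step 9 163 [70] [2, 0, 2, 0, 2, 2, 0, 2, 2],
  .step 41 163 [72] [2, 2, 0, 2, 0, 2, 2, 0, 2, 2, 0, 2, 2, 2],
  .step 224 163 [73] [3, 3, 0, 3, 3, 0, 3, 3, 0, 3, 3, 1],
  .step 95 9 [72] [0, 2, 0, 2, 2, 2, 0, 2, 2, 1, 3, 3, 3, 3, 3],
  .step 122 9 [73] [2, 2, 0, 3, 3, 3, 3, 0, 3, 3, 0, 2],
  .step 175 41 [72] [2, 2, 0, 2, 2, 1, 3, 3, 3, 3, 3],
  .step 140 224 [73] [2, 2, 2, 0, 2, 2, 0, 3, 3, 3, 3],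
  .step 33 95 [72] [0, 3, 3, 0, 3, 3, 0, 2, 2, 2, 2, 0],
  .step 214 122 [73] [0, 2, 0, 3, 3, 0, 3, 3, 3, 3, 0, 2, 2, 2],
  .root 241 199 false [] [3, 3, 3, 3, 3, 0, 3, 0, 3, 3, 0],
  .step 134 241 [72] [0, 2, 0, 2, 0, 2, 2, 2, 2, 2, 1, 3, 3],
  .step 120 241 [73] [3, 0, 2, 2, 2, 2, 0, 2, 2, 2, 2, 2],
  .step 112 134 [72] [3, 3, 0, 2, 2, 2, 0, 2, 2, 2, 2, 2, 2, 0],
  .step 65 120 [73] [3, 3, 3, 0, 3, 3, 0, 2, 2, 2, 2, 2],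
  .root 201 200 false [] [2, 2, 2, 0, 3, 3, 3, 0, 3, 3, 3, 3],
  .step 107 201 [72] [3, 0, 2, 2, 2, 2, 0, 3],
  .step 46 201 [73] [2, 0, 2, 0, 3, 3, 3, 0, 2, 2, 2, 1, 3],
  .step 131 107 [72] [2, 2, 0, 2, 2, 2, 2, 2, 0, 2, 2, 2, 1],
  .step 198 46 [73] [3, 3, 3, 0, 3, 0, 2, 2, 2, 0],
  .root 195 201 false [] [2, 0, 2, 0, 3, 3, 3, 3, 0, 3, 3, 3, 3, 3, 0],
  .step 51 195 [70] [0, 3, 0, 3, 0, 2, 2, 2, 2, 2, 0, 2, 0, 3, 3],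
  .step 230 195 [72] [0, 3, 0, 2, 2, 2, 0, 3, 3, 3, 0],
  .step 147 195 [73] [2, 2, 0, 3, 3, 3, 3, 0, 3, 0, 3, 1, 2],
  .step 81 51 [72] [3, 3, 3, 0, 2, 2, 2, 2, 2, 0, 2, 0, 3],
  .step 152 51 [73] [0, 3, 0, 3, 0, 3, 3, 3, 0, 3, 3, 1],
  .step 54 230 [72] [3, 0, 2, 2, 2, 2, 1, 2, 2, 2],
  .step 165 147 [73] [3, 0, 2, 2, 2, 0, 2, 1, 3],
  .step 172 81 [72] [3, 3, 3, 0, 3, 3, 3, 3, 3, 0, 3, 0, 3, 1],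
  .step 20 152 [73] [3, 3, 0, 2, 2, 2, 2, 0, 2, 2]]

/-- the cover of node 12 -/
def cv12 : List Cv := [
  .root 0 202 true [] [],
  .step 7 0 [74] [2, 2, 0, 3, 3, 3, 0, 3, 3, 3, 3, 3, 0],
  .step 8 0 [75] [2, 2, 0, 2, 0, 2, 0, 3, 3, 3, 3, 0, 3],
  .step 120 0 [76] [3, 3, 3, 3, 0, 3, 1],
  .step 83 0 [77] [0, 2, 0, 2, 2, 0, 2, 0, 2, 2, 2, 2, 2, 0],
  .step 12 0 [78] [3, 3, 3, 3, 0, 2, 2],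
  .step 128 0 [79] [0, 3, 3, 0, 3, 0, 2, 2, 2, 2, 0, 2, 2, 0, 3],
  .step 4 7 [74] [0, 2, 2, 0, 3, 3, 3, 1, 3, 3, 3, 3, 3],
  .step 157 7 [76] [0, 3, 3, 3, 3, 0, 3, 0],
  .step 114 7 [77] [2, 0, 2, 2, 0, 2, 0, 2, 2, 2, 2, 2, 0],
  .step 30 7 [78] [0, 3, 3, 3, 3, 1, 2, 2],
  .step 167 7 [79] [3, 3, 0, 3, 0, 2, 2, 2, 2, 0, 2, 2, 0, 3],
  .step 3 8 [75] [0, 2, 2, 2, 2, 2, 0, 2, 2, 2, 1, 3, 3],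
  .step 158 8 [76] [0, 3, 3, 3, 3, 0, 3, 0],
  .step 113 8 [77] [2, 0, 2, 2, 0, 2, 0, 2, 2, 2, 2, 2, 0],
  .step 29 8 [78] [0, 3, 3, 3, 3, 1, 2, 2],
  .step 166 8 [79] [3, 3, 0, 3, 0, 2, 2, 2, 2, 0, 2, 2, 0, 3],
  .step 90 120 [75] [0, 2, 2, 2, 2, 2, 0, 2, 2, 2, 2, 2, 2],
  .step 123 120 [76] [2, 0, 2, 2, 2, 2, 2, 2, 0, 2, 0, 2, 1],
  .step 152 120 [78] [3, 3, 3, 1, 3],
  .step 207 120 [79] [0, 3, 0, 3, 0, 2, 2, 2, 1, 3, 3, 3, 3, 3],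
  .step 144 83 [74] [0, 3, 3, 3, 0, 3, 3, 3, 0, 3, 0, 2, 2],
  .step 43 83 [77] [2, 2, 0, 2, 0, 2, 2, 2, 2, 2, 1],
  .step 24 83 [78] [3, 0, 3, 3, 3, 3, 1, 2, 2, 2, 2],
  .step 6 83 [79] [3, 3, 0, 3, 3, 0, 2, 2, 2, 0],
  .step 19 12 [74] [2, 2, 0, 2, 2, 2, 2, 2, 1, 2, 2, 2, 2],
  .step 174 12 [75] [2, 0, 2, 2, 0, 2, 2, 2, 0, 2, 0, 3],
  .step 107 12 [78] [0, 2, 2, 2, 0, 3, 3, 3, 3, 3, 1, 2],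
  .step 67 128 [74] [0, 2, 0, 2, 1],
  .step 96 128 [75] [0, 2, 2, 2, 2, 0, 2, 2, 0, 3, 3],
  .step 60 128 [79] [0, 3, 0, 3, 0, 3, 0, 2, 2, 2, 2, 0, 2, 2, 1],
  .step 160 4 [76] [3, 3, 3, 3, 0, 3, 1],
  .step 112 4 [77] [0, 2, 0, 2, 2, 0, 2, 0, 2, 2, 2, 2, 2, 0],
  .step 52 4 [78] [3, 3, 0, 3, 3, 0, 2, 2],
  .step 168 4 [79] [0, 3, 3, 0, 3, 0, 2, 2, 2, 2, 0, 2, 2, 0, 3],
  .step 88 157 [75] [0, 2, 2, 2, 2, 2, 0, 2, 2, 2, 2, 2, 2],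
  .step 164 157 [76] [2, 0, 2, 2, 2, 2, 2, 2, 0, 2, 0, 2, 1],
  .step 188 157 [78] [3, 3, 3, 1, 3],
  .step 220 157 [79] [0, 3, 0, 3, 0, 2, 2, 2, 1, 3, 3, 3, 3, 3],
  .step 64 114 [77] [2, 2, 0, 2, 0, 2, 2, 2, 2, 2, 1],
  .step 46 114 [78] [3, 0, 3, 3, 3, 3, 1, 2, 2, 2, 2],
  .step 34 114 [79] [3, 3, 0, 3, 3, 0, 2, 2, 2, 0],
  .step 32 30 [74] [2, 2, 0, 2, 2, 2, 2, 2, 1, 2, 2, 2, 2],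
  .step 173 30 [75] [2, 0, 2, 2, 0, 2, 2, 2, 0, 2, 0, 3],
  .step 143 30 [78] [0, 2, 2, 2, 0, 3, 3, 3, 3, 3, 1, 2],
  .step 68 167 [74] [0, 2, 0, 2, 1],
  .step 98 167 [75] [0, 2, 2, 2, 2, 0, 2, 2, 0, 3, 3],
  .step 159 3 [76] [3, 3, 3, 3, 0, 3, 1],
  .step 111 3 [77] [0, 2, 0, 2, 2, 0, 2, 0, 2, 2, 2, 2, 2, 0],
  .step 51 3 [78] [3, 3, 0, 3, 3, 0, 2, 2],
  .step 169 3 [79] [0, 3, 3, 0, 3, 0, 2, 2, 2, 2, 0, 2, 2, 0, 3],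
  .step 165 158 [76] [2, 0, 2, 2, 2, 2, 2, 2, 0, 2, 0, 2, 1],
  .step 187 158 [78] [3, 3, 3, 1, 3],
  .step 219 158 [79] [0, 3, 0, 3, 0, 2, 2, 2, 1, 3, 3, 3, 3, 3],
  .step 145 113 [74] [0, 3, 3, 3, 0, 3, 3, 3, 0, 3, 0, 2, 2],
  .step 65 113 [77] [2, 2, 0, 2, 0, 2, 2, 2, 2, 2, 1],
  .step 47 113 [78] [3, 0, 3, 3, 3, 3, 1, 2, 2, 2, 2],
  .step 20 29 [74] [2, 2, 0, 2, 2, 2, 2, 2, 1, 2, 2, 2, 2],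
  .step 171 29 [75] [2, 0, 2, 2, 0, 2, 2, 2, 0, 2, 0, 3],
  .step 95 166 [75] [0, 2, 2, 2, 2, 0, 2, 2, 0, 3, 3],
  .step 89 166 [79] [0, 3, 0, 3, 0, 3, 0, 2, 2, 2, 2, 0, 2, 2, 1],
  .step 214 90 [75] [0, 2, 0, 2, 2, 0, 3, 3, 3, 3, 3, 0, 3, 1],
  .step 195 90 [76] [2, 2, 0, 2, 2, 2, 2, 0, 2, 2, 0, 2, 2, 2, 2, 2],
  .step 71 90 [79] [2, 0, 2, 2, 0, 3, 3, 3, 3, 3],
  .step 86 123 [79] [0, 2, 2, 2, 0, 2, 2, 0, 2, 2, 1, 3, 3],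
  .step 122 152 [75] [0, 3, 3, 3, 3, 3, 0, 3, 3, 3, 0, 3, 1],
  .step 62 207 [74] [2, 0, 2, 2, 2, 0, 2, 0, 3, 3, 3, 0, 2],
  .step 170 207 [79] [0, 2, 2, 2, 0, 2, 2, 0, 3, 3, 3, 3, 3, 0, 2],
  .step 215 144 [74] [2, 2, 2, 2, 2, 0, 2, 2, 2, 2, 2, 1, 2],
  .step 153 144 [77] [3, 0, 3, 3, 3, 1, 2, 2],
  .step 133 43 [78] [3, 3, 0, 3, 0, 3, 3, 0, 3, 3, 3, 3],
  .step 121 24 [74] [0, 3, 3, 0, 3, 3, 0, 2, 2, 2, 0, 2, 2, 2],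
  .step 117 24 [78] [0, 2, 2, 0, 2, 2, 0, 3, 3, 3],
  .step 222 6 [74] [3, 3, 0, 3, 3, 0, 3, 3, 0, 2, 2],
  .step 185 19 [77] [3, 0, 3, 3, 0, 3, 3, 0, 2, 2, 2, 2],
  .step 162 19 [79] [3, 3, 3, 0, 3, 3, 3, 0, 2, 2],
  .step 69 174 [75] [2, 2, 0, 3, 3, 3, 3, 0, 3, 3, 0, 3, 1],
  .step 72 174 [79] [2, 2, 2, 2, 0, 2, 2, 0, 2, 1, 2, 2],
  .step 217 107 [74] [2, 2, 2, 2, 2, 0, 2, 2, 2, 2, 2, 1, 2],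
  .step 66 107 [78] [0, 2, 0, 2, 2, 2, 0, 2, 0, 2, 1, 3, 3, 3, 3],
  .step 118 67 [74] [3, 3, 0, 3, 3, 0, 2, 2, 2, 0, 2, 2, 2],
  .step 155 67 [78] [2, 2, 0, 2, 2, 0, 3, 3, 3],
  .step 194 96 [78] [0, 3, 0, 3, 0, 3, 3, 0, 3, 3, 3, 3],
  .step 216 60 [75] [0, 2, 0, 2, 2, 0, 3, 3, 3, 3, 3, 0, 3, 1],
  .step 40 60 [79] [2, 0, 2, 2, 0, 3, 3, 3, 3, 3],
  .step 87 160 [75] [0, 2, 2, 2, 2, 2, 0, 2, 2, 2, 2, 2, 2],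
  .step 161 160 [76] [2, 0, 2, 2, 2, 2, 2, 2, 0, 2, 0, 2, 1],
  .step 186 160 [78] [3, 3, 3, 1, 3],
  .step 221 160 [79] [0, 3, 0, 3, 0, 2, 2, 2, 1, 3, 3, 3, 3, 3],
  .step 172 52 [75] [0, 2, 0, 2, 2, 0, 2, 2, 2, 0, 2, 1, 3],
  .step 146 52 [78] [2, 2, 2, 0, 3, 3, 3, 3, 3, 1, 2],
  .step 193 88 [76] [2, 2, 0, 2, 2, 2, 2, 0, 2, 2, 0, 2, 2, 2, 2, 2],
  .step 63 88 [79] [2, 0, 2, 2, 0, 3, 3, 3, 3, 3],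
  .step 119 164 [79] [0, 2, 2, 2, 0, 2, 2, 0, 2, 2, 1, 3, 3],
  .step 154 46 [78] [0, 2, 2, 0, 2, 2, 0, 3, 3, 3],
  .step 70 173 [79] [2, 2, 2, 2, 0, 2, 2, 0, 2, 1, 2, 2],
  .step 206 143 [74] [2, 2, 2, 2, 2, 0, 2, 2, 2, 2, 2, 1, 2],
  .step 97 143 [78] [0, 2, 0, 2, 2, 2, 0, 2, 0, 2, 1, 3, 3, 3, 3],
  .step 156 68 [78] [2, 2, 0, 2, 2, 0, 3, 3, 3],
  .step 196 98 [78] [0, 3, 0, 3, 0, 3, 3, 0, 3, 3, 3, 3],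
  .root 208 203 false [] [3, 3, 0, 2, 2, 2, 0, 2, 2, 2, 2, 1],
  .step 190 208 [74] [0, 3, 3, 0, 3, 1, 2, 2, 2, 2, 2, 2],
  .step 28 208 [75] [0, 3, 3, 0, 3, 3, 3, 0, 3, 0, 2, 2],
  .step 2 208 [76] [2, 2, 2, 2, 0, 2, 2, 2, 0, 2, 1],
  .step 163 208 [77] [0, 2, 0, 2, 2, 2, 2, 2, 0, 3, 3, 3],
  .step 33 190 [74] [0, 3, 3, 3, 0, 2, 2, 2, 2, 2, 2, 1],
  .step 224 190 [76] [2, 2, 2, 0, 3, 3, 3, 3, 3, 0, 3, 1],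
  .step 17 190 [77] [0, 0, 2, 2, 2, 2, 2, 2],
  .step 226 190 [78] [0, 2, 2, 2, 2, 2, 2, 1, 3, 3, 3],
  .step 31 190 [79] [3, 3, 0, 3, 0, 3, 3, 3, 1],
  .step 53 28 [75] [0, 3, 0, 2, 2, 2, 2, 2, 2, 1],
  .step 36 28 [76] [2, 2, 0, 2, 0, 2, 2, 2, 2, 2],
  .step 223 28 [77] [3, 0, 3, 3, 3, 0, 3, 3, 3, 3],
  .step 37 2 [75] [3, 0, 2, 2, 2, 2, 2, 2, 0],
  .step 15 2 [76] [0, 2, 2, 0, 2, 0, 2, 2, 2, 2, 2],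
  .step 16 163 [74] [0, 3, 3, 3, 0, 2, 2, 2, 2, 2, 2, 1],
  .step 5 163 [77] [0, 0, 2, 2, 2, 2, 2, 2],
  .step 192 33 [76] [0, 0, 2, 2, 2, 2, 2, 2],
  .step 189 33 [78] [0, 2, 2, 2, 0, 2, 0, 2, 2],
  .step 13 224 [75] [0, 3, 0, 3, 3, 0, 2, 2, 2, 1, 2, 2, 2],
  .step 27 224 [76] [2, 2, 2, 2, 0, 2, 2, 2, 0, 2],
  .step 191 224 [79] [2, 2, 2, 0, 2, 2, 2, 2, 2, 2, 1],
  .step 55 17 [79] [0, 2, 2, 0, 2, 2, 2, 0, 2, 2, 0],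
  .step 14 53 [77] [3, 3, 3, 3, 3, 0, 3, 0, 3, 3, 1],
  .step 225 189 [75] [2, 2, 2, 2, 2, 2, 0, 2, 0, 2, 2, 0],
  .root 138 204 false [] [],
  .step 235 138 [74] [2, 2, 2, 2, 0, 2, 2, 2, 1, 3],
  .step 42 138 [75] [0, 3, 0, 3, 3, 3, 0, 3, 0, 3, 3],
  .step 91 138 [76] [1, 2],
  .step 73 138 [77] [0, 2, 2, 2, 2, 2, 2, 0, 3, 3, 3, 3, 3],
  .step 50 138 [78] [0, 2, 2, 0, 2, 2, 2, 0, 2, 0, 2, 0],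
  .step 9 138 [79] [0, 2, 0, 2, 0, 3, 3, 3, 3, 3, 0, 3, 3, 0, 3],
  .step 249 235 [74] [3, 0, 2, 2, 2, 0, 2, 2, 2, 2, 2, 1, 2],
  .step 199 235 [76] [2, 0, 2, 2, 0, 2, 2, 2, 2, 1],
  .step 247 235 [77] [3, 3, 3, 3, 0, 3, 3, 3, 1],
  .step 150 235 [78] [2, 2, 0, 2, 0, 3, 3, 3, 3, 0, 3, 3, 0, 2],
  .step 135 235 [79] [0, 3, 3, 0, 3, 0, 3, 3, 3, 3, 0],
  .step 231 42 [75] [2, 2, 2, 2, 2, 2, 1, 3, 3, 3, 3, 3],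
  .step 210 42 [76] [2, 0, 3, 3, 3, 3, 0, 3, 0, 3, 3, 1],
  .step 58 42 [77] [0, 2, 0, 2, 0, 2, 2, 0, 2, 2, 1, 3],
  .step 212 42 [78] [0, 3, 3, 0, 3, 3, 3, 0, 3, 3, 1, 3, 3, 3, 3],
  .step 79 42 [79] [0, 2, 2, 0, 2, 0, 2, 2, 2, 0, 2, 2, 1, 3, 3],
  .step 39 91 [75] [0, 2, 2, 2, 2, 0, 2, 2, 0, 2, 2, 0, 2, 0, 2],
  .step 80 91 [76] [0, 3, 3, 3, 0, 3, 3, 3, 3, 3, 0, 3, 3, 3],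
  .step 18 91 [78] [2, 0, 2, 2, 0, 2, 2, 0, 2, 2, 2, 2, 1, 3],
  .step 104 91 [79] [3, 3, 3, 3, 3, 1, 3, 3, 3, 3, 3],
  .step 84 73 [74] [0, 3, 0, 2, 2, 0, 2, 2, 0, 2, 2, 0, 3],
  .step 101 73 [77] [0, 3, 0, 3, 0, 3, 0, 2, 2, 2, 2, 2, 0, 2, 0],
  .step 179 73 [78] [0, 3, 0, 3, 3, 0, 2, 2, 2, 2, 0, 2],
  .step 1 73 [79] [0, 2, 0, 2, 2, 0, 2, 2, 2, 2, 2, 2, 1, 2],
  .step 200 50 [74] [0, 2, 2, 2, 2, 2, 1],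
  .step 116 50 [75] [3, 3, 3, 3, 3, 0, 2, 2, 2, 1, 2],
  .step 213 50 [78] [2, 2, 0, 2, 2, 2, 2, 2, 0, 2, 1],
  .step 181 9 [74] [3, 0, 2, 2, 2, 2, 0, 2, 0],
  .step 142 9 [75] [0, 3, 0, 2, 2, 2, 2, 0, 2, 0, 2, 2, 0, 2],
  .step 147 9 [79] [0, 3, 0, 3, 3, 3, 0, 3, 0, 2],
  .step 232 249 [76] [0, 2, 2, 2, 1, 2, 2, 2, 2],
  .step 243 249 [77] [3, 0, 3, 3, 3, 0, 2, 2, 2, 2],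
  .step 201 249 [78] [3, 3, 3, 0, 2, 2, 2, 1, 3, 3, 3, 3, 3],
  .step 229 249 [79] [0, 3, 0, 2, 2, 2, 2, 0, 2, 1, 3],
  .step 76 199 [75] [0, 3, 3, 3, 3, 3, 1],
  .step 74 199 [76] [0, 3, 0, 3, 0, 3, 3, 3, 1, 3, 3, 3, 3],
  .step 99 199 [78] [0, 2, 0, 3, 3, 3, 0, 3, 3, 0, 3, 3, 3, 0],
  .step 106 199 [79] [3, 0, 3, 3, 0, 3, 3, 0, 2, 2, 2, 0],
  .step 241 247 [77] [3, 0, 3, 3, 3, 0, 2, 2, 2, 2],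
  .step 204 247 [78] [3, 3, 3, 0, 2, 2, 2, 1, 3, 3, 3, 3, 3],
  .step 230 247 [79] [0, 3, 0, 2, 2, 2, 2, 0, 2, 1, 3],
  .step 237 150 [74] [3, 0, 3, 0, 3, 3, 0, 3, 3, 0, 3, 3, 3],
  .step 131 150 [75] [0, 2, 1, 3, 3, 3, 3],
  .step 132 150 [78] [0, 2, 0, 2, 2, 2, 0, 2],
  .step 242 135 [74] [2, 2, 2, 0, 2, 2, 2, 2, 0, 2, 0],
  .step 238 135 [75] [2, 2, 2, 0, 2, 2, 0, 2, 2, 0, 2, 2],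
  .step 134 231 [76] [0, 3, 0, 2, 2, 2, 2, 2, 2, 0, 3, 3, 3, 0, 2],
  .step 100 231 [77] [0, 3, 3, 3, 0, 3, 0, 2, 2, 2, 2, 0],
  .step 246 231 [78] [0, 2, 0, 3, 3, 3, 3, 0, 3, 1, 2],
  .step 75 231 [79] [0, 3, 0, 3, 3, 3, 3, 3, 0, 3, 3],
  .step 85 210 [76] [2, 2, 2, 0, 3, 3, 3, 3, 0, 3, 3, 1, 3],
  .step 81 210 [78] [0, 2, 2, 2, 2, 2, 1, 3, 3, 3],
  .step 48 210 [79] [0, 3, 3, 0, 3, 3, 3, 0, 3, 3, 0, 3, 3, 3, 3],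
  .step 203 58 [74] [0, 2, 2, 0, 2, 0, 2, 0, 3, 3, 3, 3, 3, 0, 3, 1],
  .step 239 58 [77] [0, 2, 2, 2, 0, 2, 1, 2, 2, 2, 2],
  .step 49 58 [78] [0, 2, 0, 2, 2, 0, 2, 0, 2, 2, 2, 2, 2, 1, 3],
  .step 93 212 [74] [0, 2, 2, 0, 2, 2, 1, 2, 2, 2],
  .step 182 212 [75] [0, 3, 0, 3, 3, 3, 0, 3, 3, 1, 3, 3, 3, 3],
  .step 126 79 [75] [0, 3, 0, 2, 2, 0, 2, 2, 2, 0, 2, 0, 3],
  .step 240 79 [79] [3, 0, 3, 0, 3, 3, 3, 0, 3, 0, 3, 3],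
  .step 10 39 [75] [2, 2, 2, 2, 0, 2, 2, 0, 2, 1, 2, 2, 2],
  .step 22 39 [76] [0, 2, 0, 2, 0, 2, 2, 0, 2, 2, 1, 3],
  .step 124 39 [79] [2, 0, 3, 3, 3, 3, 0, 3, 3, 0, 3, 3, 1, 3],
  .step 94 80 [79] [3, 0, 3, 3, 0, 3, 3, 3, 3, 0, 2],
  .step 23 18 [75] [0, 2, 2, 2, 0, 2, 0, 2, 2, 1, 2, 2, 2, 2],
  .step 44 104 [74] [3, 0, 3, 3, 0, 3, 0, 3, 3, 3, 3, 0, 2],
  .step 184 104 [79] [0, 3, 3, 0, 3, 3, 3, 0, 3, 1, 2, 2],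
  .step 108 84 [74] [2, 2, 2, 2, 1, 3],
  .step 209 84 [77] [2, 0, 2, 2, 0, 2, 2, 2, 2, 0, 3, 3, 3],
  .step 218 101 [78] [0, 2, 2, 2, 2, 0, 2, 0, 2, 2, 0],
  .step 102 179 [74] [2, 2, 0, 2, 2, 2, 0, 2, 0, 3, 3, 3, 0],
  .step 61 179 [78] [0, 2, 0, 3, 3, 3, 0, 3, 3, 0, 3, 3, 3, 0],
  .step 38 1 [74] [3, 3, 3, 0, 3, 0, 3, 3, 0, 3, 3, 3, 3],
  .step 234 200 [77] [0, 3, 3, 3, 3, 0, 3, 3, 0, 3],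
  .step 105 200 [79] [3, 0, 3, 3, 0, 3, 3, 0, 2, 2, 2, 0],
  .step 82 116 [75] [2, 0, 3, 3, 3, 3],
  .step 129 116 [79] [3, 0, 3, 3, 0, 3, 3, 3, 3, 0, 2],
  .step 41 213 [74] [2, 2, 2, 2, 2, 0, 2, 2, 2, 2, 2, 2],
  .step 245 213 [78] [0, 2, 0, 3, 3, 3, 3, 0, 3, 1, 2],
  .step 211 181 [74] [0, 2, 2, 2, 2, 0, 2, 2, 0, 2, 2, 2, 1, 2],
  .step 26 181 [78] [0, 3, 0, 2, 2, 2, 2, 0, 2, 0],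
  .step 125 142 [78] [2, 2, 2, 2, 2, 0, 2, 2, 2, 2, 2],
  .step 45 147 [75] [0, 3, 0, 3, 3, 3, 0, 3, 1, 2],
  .step 236 147 [79] [2, 2, 0, 2, 2, 0, 2, 2, 0, 2, 1],
  .step 175 232 [75] [2, 0, 3, 3, 3, 1, 3, 3, 3, 3],
  .step 198 232 [76] [2, 0, 2, 2, 0, 2, 2, 2, 2, 1],
  .step 149 232 [78] [2, 2, 0, 2, 0, 3, 3, 3, 3, 0, 3, 3, 0, 2],
  .step 137 232 [79] [0, 3, 3, 0, 3, 0, 3, 3, 3, 3, 0],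
  .step 78 201 [75] [0, 2, 0, 2, 2, 2, 0, 2, 0, 2, 0, 3, 3, 3, 3, 1],
  .step 140 201 [78] [3, 0, 3, 0, 2, 2, 2, 2, 0, 2, 2, 1],
  .step 56 76 [76] [0, 3, 3, 0, 3, 0, 2, 2, 2, 2, 2, 2, 0, 3],
  .step 178 76 [79] [0, 3, 0, 3, 0, 3, 3, 3, 0, 3, 3, 1],
  .step 176 74 [79] [0, 3, 0, 3, 0, 3, 3, 3, 0, 3, 3, 1],
  .step 141 204 [78] [3, 0, 3, 0, 2, 2, 2, 2, 0, 2, 2, 1],
  .step 151 131 [79] [3, 0, 3, 3, 3, 0, 3, 1],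
  .step 110 132 [74] [2, 2, 2, 0, 2, 1, 3],
  .step 109 132 [78] [3, 0, 2, 2, 2, 2, 0, 2, 2, 1, 2],
  .step 183 242 [78] [0, 3, 0, 3, 3, 0, 3, 3, 1, 3, 3],
  .step 59 238 [78] [2, 2, 0, 2, 0, 2, 2, 2, 0, 2, 0, 2],
  .root 21 205 false [] [0, 2, 2, 0, 2, 2, 0, 2, 2, 0, 2, 2, 0, 3],
  .step 177 21 [74] [2, 2, 0, 2, 0, 2, 2, 2, 0, 2, 0],
  .step 228 21 [75] [2, 2, 2, 2, 2, 2, 1, 3, 3, 3, 3, 3],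
  .step 205 21 [76] [2, 0, 3, 3, 3, 3, 0, 3, 0, 3, 3, 1],
  .step 35 21 [77] [0, 2, 0, 2, 0, 2, 2, 0, 2, 2, 1, 3],
  .step 233 177 [74] [2, 2, 2, 2, 0, 2, 2, 2, 1, 3],
  .step 127 177 [76] [1, 2],
  .step 103 177 [77] [0, 2, 2, 2, 2, 2, 2, 0, 3, 3, 3, 3, 3],
  .step 77 177 [78] [0, 2, 2, 0, 2, 2, 2, 0, 2, 0, 2, 0],
  .step 25 177 [79] [0, 2, 0, 2, 0, 3, 3, 3, 3, 3, 0, 3, 3, 0, 3],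
  .step 248 228 [75] [0, 2, 2, 2, 0, 2, 2, 2, 2, 2, 2, 1, 2, 2],
  .step 136 228 [76] [0, 3, 0, 2, 2, 2, 2, 2, 2, 0, 3, 3, 3, 0, 2],
  .step 92 228 [77] [0, 3, 3, 3, 0, 3, 0, 2, 2, 2, 2, 0],
  .step 180 205 [75] [0, 3, 0, 3, 3, 3, 0, 3, 3, 1, 3, 3, 3, 3],
  .step 57 205 [76] [2, 2, 2, 0, 3, 3, 3, 3, 0, 3, 3, 1, 3],
  .step 202 35 [74] [0, 2, 2, 0, 2, 0, 2, 0, 3, 3, 3, 3, 3, 0, 3, 1],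
  .step 227 35 [77] [0, 2, 2, 2, 0, 2, 1, 2, 2, 2, 2],
  .step 197 233 [76] [2, 0, 2, 2, 0, 2, 2, 2, 2, 1],
  .step 148 233 [78] [2, 2, 0, 2, 0, 3, 3, 3, 3, 0, 3, 3, 0, 2],
  .step 54 127 [75] [0, 2, 2, 2, 2, 0, 2, 2, 0, 2, 2, 0, 2, 0, 2],
  .step 115 127 [76] [0, 3, 3, 3, 0, 3, 3, 3, 3, 3, 0, 3, 3, 3],
  .step 139 127 [79] [3, 3, 3, 3, 3, 1, 3, 3, 3, 3, 3],
  .step 11 103 [79] [0, 2, 0, 2, 2, 0, 2, 2, 2, 2, 2, 2, 1, 2],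
  .step 244 248 [77] [3, 0, 3, 3, 3, 0, 2, 2, 2, 2],
  .step 130 148 [75] [0, 2, 1, 3, 3, 3, 3]]

/-- the cover of node 13 -/
def cv13 : List Cv := [
  .root 0 206 true [] [],
  .step 3 0 [86] [],
  .step 4 0 [87] [],
  .step 57 0 [88] [2, 2, 2, 2, 2, 0, 2, 2, 0, 3],
  .step 40 0 [89] [0, 2, 2, 2, 2, 2, 0, 2, 2, 1, 3],
  .step 8 3 [82] [2, 0, 3, 3, 0, 2],
  .step 7 3 [83] [2, 0, 3, 3, 1, 2],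
  .step 81 3 [88] [2, 2, 2, 2, 2, 0, 2, 2, 0, 3],
  .step 71 3 [89] [0, 2, 2, 2, 2, 2, 0, 2, 2, 1, 3],
  .step 82 4 [88] [2, 2, 2, 2, 2, 0, 2, 2, 0, 3],
  .step 69 4 [89] [0, 2, 2, 2, 2, 2, 0, 2, 2, 1, 3],
  .step 94 57 [84] [0, 2, 2, 0, 2, 2, 0, 3, 3, 3, 1, 2, 2],
  .step 60 57 [85] [0, 3, 0, 3, 0, 2, 2, 2, 2, 2, 2, 1, 2],
  .step 138 57 [88] [2, 0, 2, 0, 2, 2, 2, 2, 2, 0, 3, 3, 3, 1],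
  .step 179 40 [84] [0, 2, 2, 2, 2, 2, 0, 2, 2, 0, 2, 1],
  .step 18 40 [85] [2, 0, 2, 0, 2, 2, 2, 0, 2, 2, 0, 2, 0],
  .step 123 40 [89] [3, 3, 3, 3, 3, 0, 3, 3, 0, 3, 0],
  .step 84 8 [88] [0, 2, 2, 2, 2, 2, 0, 2, 2, 1, 3],
  .step 62 8 [89] [2, 2, 2, 2, 2, 0, 2, 2, 1, 3],
  .step 85 7 [88] [0, 2, 2, 2, 2, 2, 0, 2, 2, 1, 3],
  .step 63 7 [89] [2, 2, 2, 2, 2, 0, 2, 2, 1, 3],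
  .step 132 81 [84] [0, 2, 2, 0, 2, 2, 0, 3, 3, 3, 1, 2, 2],
  .step 89 81 [85] [0, 3, 0, 3, 0, 2, 2, 2, 2, 2, 2, 1, 2],
  .step 176 81 [88] [2, 0, 2, 0, 2, 2, 2, 2, 2, 0, 3, 3, 3, 1],
  .step 199 71 [84] [0, 2, 2, 2, 2, 2, 0, 2, 2, 0, 2, 1],
  .step 38 71 [85] [2, 0, 2, 0, 2, 2, 2, 0, 2, 2, 0, 2, 0],
  .step 162 71 [89] [3, 3, 3, 3, 3, 0, 3, 3, 0, 3, 0],
  .step 131 82 [84] [0, 2, 2, 0, 2, 2, 0, 3, 3, 3, 1, 2, 2],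
  .step 90 82 [85] [0, 3, 0, 3, 0, 2, 2, 2, 2, 2, 2, 1, 2],
  .step 175 82 [88] [2, 0, 2, 0, 2, 2, 2, 2, 2, 0, 3, 3, 3, 1],
  .step 200 69 [84] [0, 2, 2, 2, 2, 2, 0, 2, 2, 0, 2, 1],
  .step 39 69 [85] [2, 0, 2, 0, 2, 2, 2, 0, 2, 2, 0, 2, 0],
  .step 161 69 [89] [3, 3, 3, 3, 3, 0, 3, 3, 0, 3, 0],
  .step 91 94 [84] [0, 3, 3, 0, 3, 3, 0, 2, 2, 2, 2, 2, 0],
  .step 130 94 [86] [],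
  .step 129 94 [87] [],
  .step 5 94 [88] [3, 0, 2, 2, 2, 0, 3, 3, 3, 3, 3, 0, 2],
  .step 2 94 [89] [0, 3, 3, 0, 3, 3, 3, 3, 3, 0, 3, 0],
  .step 12 60 [85] [3, 0, 2, 2, 0, 2, 0, 3, 3, 3, 3, 3, 0],
  .step 88 60 [86] [],
  .step 87 60 [87] [],
  .step 50 60 [88] [0, 3, 0, 3, 3, 3, 0, 3, 3, 1, 3, 3, 3, 3, 3],
  .step 227 60 [89] [3, 3, 3, 0, 3, 3, 3, 0, 2, 2, 2, 2],
  .step 245 138 [85] [0, 3, 0, 3, 3, 0, 3, 3, 0, 3, 0, 3],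
  .step 110 179 [84] [3, 3, 3, 0, 3, 3, 3, 0, 3, 1, 2, 2],
  .step 197 179 [86] [],
  .step 198 179 [87] [],
  .step 9 179 [88] [0, 3, 3, 0, 3, 3, 0, 3, 3, 0, 3, 3, 3, 0],
  .step 163 179 [89] [0, 2, 2, 2, 2, 2, 0, 2, 2, 1, 2, 2, 2, 2, 2],
  .step 205 18 [85] [3, 0, 2, 2, 0, 2, 2, 0, 2, 2, 2, 0, 3],
  .step 54 18 [86] [],
  .step 56 18 [87] [],
  .step 208 18 [88] [0, 3, 1, 3],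
  .step 43 123 [84] [3, 3, 3, 0, 3, 3, 0, 2, 2, 2, 0, 3],
  .step 178 84 [88] [2, 0, 2, 0, 2, 2, 2, 2, 2, 0, 3, 3, 3, 1],
  .step 165 62 [89] [3, 3, 3, 3, 3, 0, 3, 3, 0, 3, 0],
  .step 177 85 [88] [2, 0, 2, 0, 2, 2, 2, 2, 2, 0, 3, 3, 3, 1],
  .step 164 63 [89] [3, 3, 3, 3, 3, 0, 3, 3, 0, 3, 0],
  .step 125 132 [84] [0, 3, 3, 0, 3, 3, 0, 2, 2, 2, 2, 2, 0],
  .step 16 132 [88] [3, 0, 2, 2, 2, 0, 3, 3, 3, 3, 3, 0, 2],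
  .step 27 132 [89] [0, 3, 3, 0, 3, 3, 3, 3, 3, 1, 3],
  .step 29 89 [85] [3, 0, 2, 2, 0, 2, 0, 3, 3, 3, 3, 3, 0],
  .step 75 89 [88] [0, 3, 0, 3, 3, 3, 0, 3, 3, 1, 3, 3, 3, 3, 3],
  .step 239 89 [89] [3, 3, 3, 0, 3, 3, 3, 0, 2, 2, 2, 2],
  .step 247 176 [85] [0, 3, 0, 3, 3, 0, 3, 3, 0, 3, 0, 3],
  .step 151 199 [84] [3, 3, 3, 0, 3, 3, 3, 0, 3, 1, 2, 2],
  .step 44 199 [88] [0, 3, 3, 0, 3, 3, 0, 3, 3, 1, 3, 3, 3],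
  .step 190 199 [89] [0, 2, 2, 2, 2, 2, 0, 2, 2, 1, 2, 2, 2, 2, 2],
  .step 212 38 [85] [3, 0, 2, 2, 0, 2, 2, 0, 2, 2, 2, 0, 3],
  .step 224 38 [88] [0, 3, 1, 3],
  .step 17 38 [89] [3, 0, 3, 3, 0, 3, 3, 0, 3, 3, 3, 0, 3, 3],
  .step 64 162 [84] [3, 3, 3, 0, 3, 3, 0, 2, 2, 2, 0, 3],
  .step 124 131 [84] [0, 3, 3, 0, 3, 3, 0, 2, 2, 2, 2, 2, 0],
  .step 28 131 [89] [0, 3, 3, 0, 3, 3, 3, 3, 3, 1, 3],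
  .step 30 90 [85] [3, 0, 2, 2, 0, 2, 0, 3, 3, 3, 3, 3, 0],
  .step 74 90 [88] [0, 3, 0, 3, 3, 3, 0, 3, 3, 1, 3, 3, 3, 3, 3],
  .step 240 90 [89] [3, 3, 3, 0, 3, 3, 3, 0, 2, 2, 2, 2],
  .step 246 175 [85] [0, 3, 0, 3, 3, 0, 3, 3, 0, 3, 0, 3],
  .step 150 200 [84] [3, 3, 3, 0, 3, 3, 3, 0, 3, 1, 2, 2],
  .step 45 200 [88] [0, 3, 3, 0, 3, 3, 0, 3, 3, 1, 3, 3, 3],
  .step 189 200 [89] [0, 2, 2, 2, 2, 2, 0, 2, 2, 1, 2, 2, 2, 2, 2],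
  .step 211 39 [85] [3, 0, 2, 2, 0, 2, 2, 0, 2, 2, 2, 0, 3],
  .step 223 39 [88] [0, 3, 1, 3],
  .step 65 161 [84] [3, 3, 3, 0, 3, 3, 0, 2, 2, 2, 0, 3],
  .step 24 91 [84] [0, 2, 0, 3, 3, 3, 3, 3, 0, 2, 2, 2, 1, 3, 3],
  .step 213 91 [88] [0, 3, 0, 3, 3, 0, 3, 3, 0, 3, 3, 0, 3, 3, 0],
  .step 170 91 [89] [0, 2, 2, 2, 2, 2, 0, 3, 3, 3, 3, 0],
  .step 126 130 [84] [0, 3, 3, 0, 3, 3, 0, 2, 2, 2, 2, 2, 0],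
  .step 33 130 [88] [3, 0, 2, 2, 2, 0, 3, 3, 3, 3, 3, 0, 2],
  .step 14 130 [89] [0, 3, 3, 0, 3, 3, 3, 3, 3, 0, 3, 0],
  .step 127 129 [84] [0, 3, 3, 0, 3, 3, 0, 2, 2, 2, 2, 2, 0],
  .step 31 129 [88] [3, 0, 2, 2, 2, 0, 3, 3, 3, 3, 3, 0, 2],
  .step 13 129 [89] [0, 3, 3, 0, 3, 3, 3, 3, 3, 0, 3, 0],
  .step 104 5 [84] [0, 2, 0, 3, 3, 0, 3, 3, 3, 1, 3, 3],
  .step 207 2 [84] [0, 2, 0, 2, 2, 2, 2, 0, 3, 3, 3, 1, 2],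
  .step 117 2 [85] [0, 2, 2, 2, 0, 2, 2, 2, 0, 2, 1, 2, 2, 2],
  .step 1 12 [88] [3, 0, 3, 3, 0, 3, 3, 0, 3, 3, 3, 0, 3, 3],
  .step 206 12 [89] [0, 3, 1, 3],
  .step 52 88 [85] [3, 0, 2, 2, 0, 2, 1, 3, 3, 3, 3, 3],
  .step 77 88 [88] [0, 3, 0, 3, 3, 3, 0, 3, 3, 1, 3, 3, 3, 3, 3],
  .step 238 88 [89] [3, 3, 3, 0, 3, 3, 3, 0, 2, 2, 2, 2],
  .step 51 87 [85] [3, 0, 2, 2, 0, 2, 1, 3, 3, 3, 3, 3],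
  .step 76 87 [88] [0, 3, 0, 3, 3, 3, 0, 3, 3, 1, 3, 3, 3, 3, 3],
  .step 237 87 [89] [3, 3, 3, 0, 3, 3, 3, 0, 2, 2, 2, 2],
  .step 184 50 [85] [0, 3, 3, 3, 3, 0, 2, 2, 2, 0, 3, 3, 3],
  .step 236 50 [88] [3, 3, 3, 0, 3, 3, 3, 1, 2, 2, 2, 2],
  .step 107 227 [84] [2, 2, 1, 3, 3, 3, 3, 3],
  .step 21 245 [85] [0, 2, 0, 2, 2, 2, 0, 2, 2, 0, 3, 3, 3],
  .step 248 245 [86] [],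
  .step 249 245 [87] [],
  .step 15 245 [88] [0, 3, 0, 3, 0, 2, 2, 2, 2, 2, 0, 2, 1, 2],
  .step 147 110 [84] [0, 2, 0, 2, 2, 2, 2, 0, 2, 2, 2],
  .step 6 110 [88] [0, 3, 3, 0, 3, 3, 3, 3, 3, 0, 3, 0],
  .step 149 197 [84] [3, 3, 3, 0, 3, 3, 3, 0, 3, 1, 2, 2],
  .step 26 197 [88] [0, 3, 3, 0, 3, 3, 0, 3, 3, 0, 3, 3, 3, 0],
  .step 191 197 [89] [0, 2, 2, 2, 2, 2, 0, 2, 2, 1, 2, 2, 2, 2, 2],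
  .step 148 198 [84] [3, 3, 3, 0, 3, 3, 3, 0, 3, 1, 2, 2],
  .step 25 198 [88] [0, 3, 3, 0, 3, 3, 0, 3, 3, 0, 3, 3, 3, 0],
  .step 192 198 [89] [0, 2, 2, 2, 2, 2, 0, 2, 2, 1, 2, 2, 2, 2, 2],
  .step 73 163 [84] [0, 2, 0, 3, 3, 0, 3, 3, 0, 3, 3, 0, 3, 3, 3],
  .step 86 205 [88] [2, 0, 3, 3, 0, 3, 3, 3, 0, 3, 3],
  .step 209 54 [85] [3, 0, 2, 2, 0, 2, 2, 0, 2, 2, 2, 0, 3],
  .step 226 54 [88] [0, 3, 1, 3],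
  .step 210 56 [85] [3, 0, 2, 2, 0, 2, 2, 0, 2, 2, 2, 0, 3],
  .step 225 56 [88] [0, 3, 1, 3],
  .step 66 208 [84] [0, 2, 2, 0, 2, 2, 2, 0, 2, 0, 3],
  .step 70 43 [86] [],
  .step 72 43 [87] [],
  .step 67 125 [84] [2, 2, 0, 2, 2, 2, 0, 2, 0, 3, 3, 3, 1, 2],
  .step 230 125 [88] [0, 3, 0, 3, 3, 0, 3, 3, 0, 3, 3, 0, 3, 3, 0],
  .step 193 125 [89] [0, 2, 2, 2, 2, 2, 0, 3, 3, 3, 3, 0],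
  .step 139 16 [84] [0, 2, 0, 3, 3, 0, 3, 3, 3, 1, 3, 3],
  .step 140 16 [85] [0, 2, 0, 2, 2, 0, 2, 2, 2, 1, 2, 2],
  .step 220 27 [84] [2, 0, 2, 2, 2, 2, 0, 3, 3, 3, 1, 2],
  .step 156 27 [85] [2, 2, 2, 0, 2, 2, 2, 0, 2, 1, 2, 2, 2],
  .step 68 29 [85] [2, 2, 0, 2, 2, 2, 0, 2, 2, 0, 2, 2],
  .step 11 29 [88] [3, 0, 3, 3, 0, 3, 3, 0, 3, 3, 3, 0, 3, 3],
  .step 215 29 [89] [0, 3, 1, 3],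
  .step 203 75 [85] [0, 3, 3, 3, 3, 0, 2, 2, 2, 0, 3, 3, 3],
  .step 241 75 [88] [3, 3, 3, 0, 3, 3, 3, 1, 2, 2, 2, 2],
  .step 146 239 [84] [2, 2, 1, 3, 3, 3, 3, 3],
  .step 49 247 [85] [0, 2, 0, 2, 2, 2, 0, 2, 2, 0, 3, 3, 3],
  .step 36 247 [88] [0, 3, 0, 3, 0, 2, 2, 2, 2, 2, 0, 2, 1, 2],
  .step 181 151 [84] [0, 2, 0, 2, 2, 2, 2, 0, 2, 2, 2],
  .step 34 151 [88] [0, 3, 3, 0, 3, 3, 3, 3, 3, 0, 3, 0],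
  .step 219 44 [85] [0, 3, 3, 3, 3, 3, 0, 3, 3, 0, 3, 3],
  .step 106 190 [84] [0, 2, 0, 3, 3, 0, 3, 3, 0, 3, 3, 0, 3, 3, 3],
  .step 37 190 [89] [0, 3, 3, 0, 3, 3, 0, 3, 3, 0, 3, 3, 3, 1],
  .step 180 212 [85] [0, 3, 3, 0, 3, 3, 0, 3, 0, 3, 3, 3, 3],
  .step 118 212 [88] [2, 0, 3, 3, 0, 3, 3, 3, 0, 3, 3],
  .step 97 224 [84] [0, 2, 2, 0, 2, 2, 2, 0, 2, 0, 3],
  .step 145 224 [85] [0, 3, 3, 0, 3, 1, 2],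
  .step 242 64 [89] [0, 3, 0, 3, 3, 0, 2, 2, 2, 0, 2, 2],
  .step 231 124 [88] [0, 3, 0, 3, 3, 0, 3, 3, 0, 3, 3, 0, 3, 3, 0],
  .step 194 124 [89] [0, 2, 2, 2, 2, 2, 0, 3, 3, 3, 3, 0],
  .step 155 28 [85] [2, 2, 2, 0, 2, 2, 2, 0, 2, 1, 2, 2, 2],
  .step 10 30 [88] [3, 0, 3, 3, 0, 3, 3, 0, 3, 3, 3, 0, 3, 3],
  .step 214 30 [89] [0, 3, 1, 3],
  .step 204 74 [85] [0, 3, 3, 3, 3, 0, 2, 2, 2, 0, 3, 3, 3],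
  .step 48 246 [85] [0, 2, 0, 2, 2, 2, 0, 2, 2, 0, 3, 3, 3],
  .step 32 150 [88] [0, 3, 3, 0, 3, 3, 3, 3, 3, 0, 3, 0],
  .step 105 189 [84] [0, 2, 0, 3, 3, 0, 3, 3, 0, 3, 3, 0, 3, 3, 3],
  .step 119 211 [88] [2, 0, 3, 3, 0, 3, 3, 3, 0, 3, 3],
  .step 98 223 [84] [0, 2, 2, 0, 2, 2, 2, 0, 2, 0, 3],
  .step 46 24 [86] [],
  .step 47 24 [87] [],
  .step 228 126 [88] [0, 3, 0, 3, 3, 0, 3, 3, 0, 3, 3, 0, 3, 3, 0],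
  .step 196 126 [89] [0, 2, 2, 2, 2, 2, 0, 3, 3, 3, 3, 0],
  .step 142 33 [84] [0, 2, 0, 3, 3, 0, 3, 3, 3, 1, 3, 3],
  .step 141 33 [85] [0, 2, 0, 2, 2, 0, 2, 2, 2, 1, 2, 2],
  .step 221 14 [84] [0, 2, 0, 2, 2, 2, 2, 0, 3, 3, 3, 1, 2],
  .step 154 14 [85] [0, 2, 2, 2, 0, 2, 2, 2, 0, 2, 1, 2, 2, 2],
  .step 229 127 [88] [0, 3, 0, 3, 3, 0, 3, 3, 0, 3, 3, 0, 3, 3, 0],
  .step 195 127 [89] [0, 2, 2, 2, 2, 2, 0, 3, 3, 3, 3, 0],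
  .step 222 13 [84] [0, 2, 0, 2, 2, 2, 2, 0, 3, 3, 3, 1, 2],
  .step 153 13 [85] [0, 2, 2, 2, 0, 2, 2, 2, 0, 2, 1, 2, 2, 2],
  .step 22 52 [88] [3, 0, 3, 0, 3, 3, 3, 3, 3, 0, 3, 3, 3, 3],
  .step 217 52 [89] [3, 1, 3],
  .step 202 77 [85] [0, 3, 3, 3, 3, 0, 2, 2, 2, 0, 3, 3, 3],
  .step 243 77 [88] [3, 3, 3, 0, 3, 3, 3, 1, 2, 2, 2, 2],
  .step 143 238 [84] [2, 2, 1, 3, 3, 3, 3, 3],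
  .step 23 51 [88] [3, 0, 3, 0, 3, 3, 3, 3, 3, 0, 3, 3, 3, 3],
  .step 216 51 [89] [3, 1, 3],
  .step 201 76 [85] [0, 3, 3, 3, 3, 0, 2, 2, 2, 0, 3, 3, 3],
  .step 244 76 [88] [3, 3, 3, 0, 3, 3, 3, 1, 2, 2, 2, 2],
  .step 144 237 [84] [2, 2, 1, 3, 3, 3, 3, 3],
  .step 42 248 [85] [0, 2, 0, 2, 2, 2, 0, 2, 2, 0, 3, 3, 3],
  .step 55 248 [88] [0, 3, 0, 3, 0, 2, 2, 2, 2, 2, 0, 2, 1, 2],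
  .step 41 249 [85] [0, 2, 0, 2, 2, 2, 0, 2, 2, 0, 3, 3, 3],
  .step 53 249 [88] [0, 3, 0, 3, 0, 2, 2, 2, 2, 2, 0, 2, 1, 2],
  .step 183 147 [86] [],
  .step 182 147 [87] [],
  .step 20 149 [88] [0, 3, 3, 0, 3, 3, 3, 3, 3, 0, 3, 0],
  .step 103 191 [84] [0, 2, 0, 3, 3, 0, 3, 3, 0, 3, 3, 0, 3, 3, 3],
  .step 19 148 [88] [0, 3, 3, 0, 3, 3, 3, 3, 3, 0, 3, 0],
  .step 102 192 [84] [0, 2, 0, 3, 3, 0, 3, 3, 0, 3, 3, 0, 3, 3, 3],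
  .step 121 209 [88] [2, 0, 3, 3, 0, 3, 3, 3, 0, 3, 3],
  .step 96 226 [84] [0, 2, 2, 0, 2, 2, 2, 0, 2, 0, 3],
  .step 122 210 [88] [2, 0, 3, 3, 0, 3, 3, 3, 0, 3, 3],
  .step 95 225 [84] [0, 2, 2, 0, 2, 2, 2, 0, 2, 0, 3],
  .root 128 207 false [] [0, 3, 0, 2, 2, 0, 2, 2, 2, 2, 1, 2],
  .step 35 128 [82] [2, 2, 2, 2, 2, 0, 2, 2, 1, 2, 2, 2, 2, 2],
  .step 101 128 [85] [2, 2, 0, 2, 2, 0, 2, 0, 2, 2, 2, 2, 1],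
  .step 167 128 [86] [],
  .step 166 128 [87] [],
  .step 83 128 [88] [2, 2, 2, 2, 2, 0, 2, 2, 0, 2],
  .step 120 128 [89] [0, 2, 2, 0, 2, 2, 2, 2, 2, 2, 0, 2, 1, 2, 2],
  .step 78 35 [86] [],
  .step 79 35 [87] [],
  .step 80 101 [85] [2, 0, 2, 2, 0, 2, 2, 0, 3, 3, 3],
  .step 135 101 [86] [],
  .step 134 101 [87] [],
  .step 59 167 [82] [2, 2, 2, 2, 2, 0, 2, 2, 1, 2, 2, 2, 2, 2],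
  .step 58 167 [83] [2, 2, 2, 2, 2, 0, 2, 2, 0, 2, 2, 2, 2, 2],
  .step 137 167 [85] [2, 2, 0, 2, 2, 0, 2, 0, 2, 2, 2, 2, 1],
  .step 168 167 [86] [],
  .step 111 167 [88] [2, 2, 2, 2, 2, 0, 2, 2, 0, 2],
  .step 159 167 [89] [0, 2, 2, 0, 2, 2, 2, 2, 2, 2, 0, 2, 1, 2, 2],
  .step 136 166 [85] [2, 2, 0, 2, 2, 0, 2, 0, 2, 2, 2, 2, 1],
  .step 169 166 [87] [],
  .step 112 166 [88] [2, 2, 2, 2, 2, 0, 2, 2, 0, 2],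
  .step 160 166 [89] [0, 2, 2, 0, 2, 2, 2, 2, 2, 2, 0, 2, 1, 2, 2],
  .step 61 83 [84] [3, 3, 3, 0, 2, 2, 2, 2, 2, 2, 0, 2],
  .step 152 120 [84] [3, 3, 3, 0, 2, 2, 2, 2, 1],
  .step 133 120 [85] [0, 3, 3, 3, 0, 3, 3, 1, 2, 2],
  .step 113 78 [84] [0, 3, 3, 0, 2, 2, 2, 2, 0, 2, 2, 0, 2, 0],
  .step 114 79 [84] [0, 3, 3, 0, 2, 2, 2, 2, 0, 2, 2, 0, 2, 0],
  .step 109 80 [86] [],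
  .step 108 80 [87] [],
  .step 116 135 [85] [2, 0, 2, 2, 0, 2, 2, 0, 3, 3, 3],
  .step 115 134 [85] [2, 0, 2, 2, 0, 2, 2, 0, 3, 3, 3],
  .step 158 59 [88] [0, 2, 0, 2, 2, 2, 2, 0, 2, 0, 2, 2],
  .step 157 58 [88] [0, 2, 0, 2, 2, 2, 2, 0, 2, 0, 2, 2],
  .step 93 111 [84] [3, 3, 3, 0, 2, 2, 2, 2, 2, 2, 0, 2],
  .step 185 159 [84] [3, 3, 3, 0, 2, 2, 2, 2, 1],
  .step 173 159 [85] [0, 3, 3, 3, 0, 3, 3, 1, 2, 2],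
  .step 92 112 [84] [3, 3, 3, 0, 2, 2, 2, 2, 2, 2, 0, 2],
  .step 186 160 [84] [3, 3, 3, 0, 2, 2, 2, 2, 1],
  .step 174 160 [85] [0, 3, 3, 3, 0, 3, 3, 1, 2, 2],
  .step 99 61 [86] [],
  .step 100 61 [87] [],
  .step 188 152 [86] [],
  .step 187 152 [87] [],
  .step 218 152 [89] [3, 0, 3, 3, 3, 0, 2, 2, 2],
  .step 172 133 [86] [],
  .step 171 133 [87] [],
  .step 235 185 [89] [3, 0, 3, 3, 3, 0, 2, 2, 2],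
  .step 234 173 [88] [0, 3, 0, 2, 2, 2, 0, 2, 2, 2, 2, 2, 2, 0],
  .step 233 188 [89] [3, 0, 3, 3, 3, 0, 2, 2, 2],
  .step 232 187 [89] [3, 0, 3, 3, 3, 0, 2, 2, 2]]

/-- all covers -/
def cvsAll : List (List Cv) := [cv0, cv1, cv2, cv3, cv4, cv5, cv6, cv7, cv8, cv9, cv10, cv11, cv12, cv13]

/-- words of the fourteen representatives in their own normal form, with walks -/
def hreps : List (List ℕ × ℕ × List ℕ × List Wit) := [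
  ([], 0, [], []),
  ([5, 4], 1, [], [⟨1, false, [], []⟩]),
  ([5, 4, 2, 4], 2, [], [⟨1, false, [], []⟩, ⟨4, false, [], []⟩]),
  ([5, 4, 2, 6, 4], 3, [], [⟨1, false, [], []⟩, ⟨12, false, [], []⟩]),
  ([5, 4, 2, 4, 2, 4], 5, [], [⟨1, false, [], []⟩, ⟨4, false, [], []⟩, ⟨32, false, [], []⟩]),
  ([5, 0, 4, 2, 5, 4], 4, [0, 0], [⟨1, false, [], [0]⟩, ⟨22, false, [], [0, 0]⟩]),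
  ([5, 0, 4, 2, 4, 2, 5, 4], 7, [2, 2, 0, 3, 0, 3, 0, 2, 2, 2, 0, 2, 2, 0, 2, 1], [⟨1, false, [], [0]⟩, ⟨4, false, [7, 5, 6, 4], [0, 2, 0, 2, 0, 3, 3]⟩, ⟨48, false, [17, 17, 13], [0, 3, 0, 2, 2, 2, 2, 0, 2, 0]⟩]),
  ([5, 4, 2, 4, 2, 5, 4], 6, [], [⟨1, false, [], []⟩, ⟨4, false, [], []⟩, ⟨33, false, [], []⟩]),
  ([5, 0, 4, 2, 4, 5, 4, 2, 4], 10, [3, 0, 3, 0, 2, 0, 2, 0], [⟨1, false, [], [0]⟩, ⟨4, false, [7, 5, 6, 4], [0, 2, 0, 2, 0, 3, 3]⟩, ⟨14, false, [], [2, 2, 2, 2, 2, 0, 2, 1, 3, 3]⟩, ⟨131, false, [23, 18, 20, 18], [3, 3, 3, 3, 0, 2, 2, 2, 2, 0, 3, 3]⟩]),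
  ([5, 4, 2, 6, 4, 2, 5, 4], 8, [], [⟨1, false, [], []⟩, ⟨12, false, [], []⟩, ⟨69, false, [], []⟩]),
  ([5, 4, 2, 0, 5, 4, 3, 6, 4], 9, [], [⟨1, false, [], []⟩, ⟨12, false, [8], [1]⟩, ⟨120, false, [], []⟩]),
  ([5, 4, 2, 6, 4, 2, 5, 4, 2, 4], 11, [0, 3, 0, 2, 2, 0, 3, 3, 0, 2, 2, 0, 2, 2, 0, 2, 5, 0], [⟨1, false, [], []⟩, ⟨12, false, [], []⟩, ⟨69, false, [], []⟩, ⟨176, false, [54], [0, 2, 2, 0, 3, 3, 3, 0, 3, 3, 3, 3, 3]⟩]),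
  ([5, 0, 4, 2, 6, 4, 2, 5, 0, 4, 2, 5, 4], 12, [2, 0, 2, 0, 2, 0, 2], [⟨1, false, [], [0]⟩, ⟨12, false, [8, 7, 5, 6, 4], [0, 2, 0, 2, 1, 3, 3]⟩, ⟨69, false, [23, 18, 20, 18], [2, 2, 0, 3, 3, 3, 3, 1, 2, 2, 2, 2]⟩, ⟨202, false, [52], [0, 2, 2, 2, 2, 0, 2, 2, 2, 2, 2, 1, 2, 2, 2]⟩]),
  ([5, 4, 2, 0, 4, 5, 4, 3, 6, 4, 3, 5, 4, 3, 4], 13, [3, 0, 3, 0, 3, 0, 3, 3, 0, 2, 2, 0, 2, 0, 2, 2, 0, 2, 0, 3, 3, 0, 2], [⟨1, false, [], []⟩, ⟨4, false, [], [0]⟩, ⟨23, false, [], [2, 2, 2, 2]⟩, ⟨125, true, [31], [0, 2, 0, 2, 2, 0, 3, 3, 3, 3, 0, 3, 3, 0]⟩, ⟨127, false, [60], [0, 2, 2, 2, 2, 2, 2, 0, 2, 0, 2, 2, 1]⟩, ⟨206, false, [], [2, 2, 0, 2, 2, 1, 2, 2, 2, 2, 2]⟩])]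

end Cfsg.Agent.H46.HN
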