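import Cfsg.Agent.H46.HN.FactData
import Cfsg.Agent.H46.HN.CoverData

/-!
Kernel checks of the covering, part 0.
-/

set_option autoImplicit false
set_option maxRecDepth 100000
set_option Elab.async false

namespace Cfsg.Agent.H46.HN

theorem trans0 : transOK ptr ((ptr.drop 0).take 50) prow0 = true := by decide +kernel

theorem trans1 : transOK ptr ((ptr.drop 50).take 50) prow1 = true := by decide +kernel

theorem trans2 : transOK ptr ((ptr.drop 100).take 50) prow2 = true := by decide +kernel

theorem trans3 : transOK ptr ((ptr.drop 150).take 50) prow3 = true := by decide +kernel

theorem trans4 : transOK ptr ((ptr.drop 200).take 50) prow4 = true := by decide +kernel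

theorem cover0 : coverGo known ptr 0 cv0 0 = true := by decide +kernel

theorem cover1 : coverGo known ptr 1 cv1 0 = true := by decide +kernel

theorem cover2 : coverGo known ptr 2 cv2 0 = true := by decide +kernel

theorem cover3 : coverGo known ptr 3 cv3 0 = true := by decide +kernel

theorem cover4 : coverGo known ptr 4 cv4 0 = true := by decide +kernel

end Cfsg.Agent.H46.HN
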