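import Cfsg.Agent.H46.HN.FactData
import Cfsg.Agent.H46.HN.CoverData

/-!
Kernel checks of the covering, part 1.
-/

set_option autoImplicit false
set_option maxRecDepth 100000
set_option Elab.async false

namespace Cfsg.Agent.H46.HN

theorem cover5 : coverGo known ptr 5 cv5 0 = true := by decide +kernel

theorem cover6 : coverGo known ptr 6 cv6 0 = true := by decide +kernel

theorem cover7 : coverGo known ptr 7 cv7 0 = true := by decide +kernel

theorem cover8 : coverGo known ptr 8 cv8 0 = true := by decide +kernel

theorem cover9 : coverGo known ptr 9 cv9 0 = true := by decide +kernel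

end Cfsg.Agent.H46.HN
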