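import Cfsg.Agent.H46.HN.FactData
import Cfsg.Agent.H46.HN.CoverData

/-!
Kernel checks of the covering, part 2.
-/

set_option autoImplicit false
set_option maxRecDepth 100000
set_option Elab.async false

namespace Cfsg.Agent.H46.HN

theorem cover10 : coverGo known ptr 10 cv10 0 = true := by decide +kernel

theorem cover11 : coverGo known ptr 11 cv11 0 = true := by decide +kernel

theorem cover12 : coverGo known ptr 12 cv12 0 = true := by decide +kernel

theorem cover13 : coverGo known ptr 13 cv13 0 = true := by decide +kernel

end Cfsg.Agent.H46.HN
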