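import Cfsg.Agent.H46.HN.Order
import Cfsg.Agent.H87.HNOut.RepFacts

/-!
The fourteen double cosets in the representatives used for the outer automorphism group.
-/

set_option autoImplicit false
set_option maxRecDepth 100000

namespace Cfsg.Agent.H46.HN

open Cfsg Cfsg.Agent.H67.HN Cfsg.Agent.H87.HNOut

/-- letters `x X y Y z Z t T` in the seven letters used here -/
def tr8 (l : ℕ) : ℕ := [0, 1, 2, 3, 4, 4, 5, 6].getD l 7

theorem ev_tr8 : ∀ w : List ℕ, ev (w.map tr8) = H16.HN.wordHN w := by
  intro w
  induction w with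
  | nil => rw [List.map_nil, ev_nil, wordHN_nil]
  | cons l w ih =>
    rw [List.map_cons, ev_cons, ih, wordHN_cons l w]
    congr 1
    rcases Nat.lt_or_ge l 8 with hl | hl
    · interval_cases l <;>
        simp [tr8, e7, H16.HN.wordHN, H45.evalW, H16.HN.fL, H16.HN.genHN, hn, zinv,
          show Nat.beq 1 0 = false from rfl]
      all_goals first | exact zinv.symm | exact zinv
    · have h1 : tr8 l = 7 := List.getD_eq_default _ _ hl
      rw [h1]
      simp [e7, H16.HN.wordHN, H45.evalW, H16.HN.fL, Nat.not_lt.mpr hl]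

/-- the representative `j` read as a coset of the certificate -/
noncomputable def repOK (j : ℕ) : Bool :=
  weq ((Cfsg.Agent.H87.HNOut.repW j).map tr8) (hreps.getD j ([], 0, [], [])).1 &&
    walk known (hreps.getD j ([], 0, [], [])).1 (hreps.getD j ([], 0, [], [])).2.2.2 0 []
      fun j' n' => Nat.beq j' (hreps.getD j ([], 0, [], [])).2.1 && okN n'

theorem repOK_all : ((List.range 14).all repOK) = true := by decide +kernel

theorem node_perm : ((List.range 14).all fun a => (List.range 14).any fun j =>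
    Nat.beq (hreps.getD j ([], 0, [], [])).2.1 a) = true := by decide +kernel

/-- `HN` is the union of the fourteen double cosets `⟨x, y, z⟩ r ⟨x, y, t⟩` -/
theorem decomp (g : Spor.HN) : ∃ h ∈ HH, ∃ j < 14, ∃ (i : ℕ), ∃ w ∈
    Subgroup.closure ({gX, gY} : Set Spor.HN), g = h * rep j * gT ^ i * w := by
  obtain ⟨a, ha, w, hw, he⟩ := inU g
  rw [ptr_lens.2.2.2.2.2] at ha
  obtain ⟨j, hj, hja⟩ := List.any_eq_true.mp (H45.range_all node_perm ha)
  rw [List.mem_range] at hj
  rw [Nat.beq_eq] at hja
  have hr := H45.range_all repOK_all hj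
  simp only [repOK, Bool.and_eq_true] at hr
  obtain ⟨hw1, hwalk⟩ := hr
  rw [← leq_sound _ _ hw1] at hwalk
  obtain ⟨j', n', hk, he'⟩ := walk_sound known_valid _ _ _ _ _ hwalk
  simp only [Bool.and_eq_true, Nat.beq_eq] at hk
  obtain ⟨hj', hn'⟩ := hk
  rw [hj', hja, ev_tr8, show rr known.R 0 = 1 from rfl, ev_nil, one_mul, one_mul] at he'
  -- `g` lies in the coset of `rep j * n'⁻¹ * w`
  have h2 : Eqv g (rep j * (ev n')⁻¹ * ev w) := by
    refine he.trans ?_
    have := (he'.symm.mul_right ((ev n')⁻¹ * ev w))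
    simpa [rep, mul_assoc, known] using this
  rw [← ev_inv7, mul_assoc, ← ev_append] at h2
  have hokN : okN (inv7 n' ++ w) = true := by
    refine okN_append.mpr ⟨?_, hw⟩
    simp only [okN, List.all_eq_true, Bool.or_eq_true, Nat.blt_eq, Nat.beq_eq] at hn' ⊢
    intro l hl
    simp only [inv7, List.mem_reverse, List.mem_map] at hl
    obtain ⟨m, hm, rfl⟩ := hl
    rcases hn' m hm with (h | rfl) | rfl
    · interval_cases m <;> decide
    · decide
    · decide
  obtain ⟨e, hlt⟩ := nf_sound _ hokN
  obtain ⟨f, hf⟩ := h2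
  refine ⟨nu f, ?_, j, hj, (nf (inv7 n' ++ w)).1, ev (nf (inv7 n' ++ w)).2, ?_, ?_⟩
  · have : nu f ∈ nu.range := ⟨f, rfl⟩
    rw [nu_range] at this
    exact this
  · have hmem : ∀ u : List ℕ, (∀ l ∈ u, l < 4) →
        ev u ∈ Subgroup.closure ({gX, gY} : Set Spor.HN) := by
      intro u
      induction u with
      | nil => intro _; rw [ev_nil]; exact one_mem _
      | cons l u ih =>
        intro h
        rw [ev_cons]
        refine mul_mem ?_ (ih fun a ha => h a (by simp [ha]))
        have hx : gX ∈ Subgroup.closure ({gX, gY} : Set Spor.HN) := Subgroup.subset_closure (by simp)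
        have hy : gY ∈ Subgroup.closure ({gX, gY} : Set Spor.HN) := Subgroup.subset_closure (by simp)
        have hl := h l (by simp)
        interval_cases l
        exacts [hx, inv_mem hx, hy, inv_mem hy]
    exact hmem _ hlt
  · rw [hf, e]
    show g = g * (rep j * (hn .t ^ _ * _))⁻¹ * rep j * hn .t ^ _ * _
    group

end Cfsg.Agent.H46.HN
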