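import Cfsg.Agent.H46.HN.FactData

/-!
Kernel checks of the derivation.
-/

set_option autoImplicit false
set_option maxRecDepth 100000
set_option Elab.async false

namespace Cfsg.Agent.H46.HN

theorem run4 : (knownAt 168 35).run evs4 = true := by decide +kernel

theorem next4 : ((knownAt 168 35).final evs4).E = (knownAt 208 45).E ∧
    ((knownAt 168 35).final evs4).G = (knownAt 208 45).G := by decide +kernel

end Cfsg.Agent.H46.HN
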