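import Cfsg.Agent.H46.HN.FactCheck0
import Cfsg.Agent.H46.HN.FactCheck1
import Cfsg.Agent.H46.HN.FactCheck2
import Cfsg.Agent.H46.HN.FactCheck3
import Cfsg.Agent.H46.HN.FactCheck4

/-!
Kernel checks of the derivation.
-/

set_option autoImplicit false
set_option maxRecDepth 100000
set_option Elab.async false

namespace Cfsg.Agent.H46.HN

theorem final_R : ∀ (vs : List Evt) (C : Known), (C.final vs).R = C.R := by
  intro vs
  induction vs with
  | nil => intro C; rfl
  | cons v vs ih => intro C; refine (ih _).trans ?_; cases v <;> rfl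

theorem step_valid {vs : List Evt} {a b c d : ℕ} (h : (knownAt a b).Valid)
    (hr : (knownAt a b).run vs = true) (hn : ((knownAt a b).final vs).E = (knownAt c d).E ∧
      ((knownAt a b).final vs).G = (knownAt c d).G) : (knownAt c d).Valid := by
  have h2 := Known.run_sound vs h hr
  obtain ⟨hE, hG⟩ := hn
  have hR : ((knownAt a b).final vs).R = (knownAt c d).R := (final_R vs _).trans rfl
  obtain ⟨h3, h4⟩ := h2
  rw [hE, hR] at h3
  rw [hG, hR] at h4
  exact ⟨h3, h4⟩

theorem valid0 : (knownAt 1 2).Valid := start_valid (R := reps) rfl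

theorem valid1 : (knownAt 33 20).Valid := step_valid valid0 run0 next0

theorem valid2 : (knownAt 75 28).Valid := step_valid valid1 run1 next1

theorem valid3 : (knownAt 122 31).Valid := step_valid valid2 run2 next2

theorem valid4 : (knownAt 168 35).Valid := step_valid valid3 run3 next3

theorem valid5 : (knownAt 208 45).Valid := step_valid valid4 run4 next4

theorem known_eq : (knownAt 208 45).E = known.E ∧ (knownAt 208 45).G = known.G := by
  decide +kernel

theorem known_valid : known.Valid := by
  obtain ⟨h3, h4⟩ := valid5
  rw [known_eq.1] at h3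
  rw [known_eq.2] at h4
  exact ⟨h3, h4⟩

end Cfsg.Agent.H46.HN
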