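import Cfsg.Agent.H46.HN.Facts

/-!
The derivation of the edges and stabiliser generators (generated data).
-/

set_option autoImplicit false
set_option maxRecDepth 100000

namespace Cfsg.Agent.H46.HN

/-- the fourteen representatives -/
def reps : List (List ℕ) := [
  [],
  [5, 4],
  [5, 4, 2, 4],
  [5, 4, 2, 6, 4],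
  [5, 4, 0, 2, 6, 4],
  [5, 4, 2, 4, 2, 4],
  [5, 4, 2, 4, 2, 5, 4],
  [5, 4, 2, 4, 2, 0, 5, 4],
  [5, 4, 2, 6, 4, 2, 5, 4],
  [5, 4, 2, 6, 4, 0, 3, 6, 4],
  [5, 4, 2, 6, 4, 2, 0, 5, 4],
  [5, 4, 2, 4, 2, 5, 4, 0, 2, 5, 4],
  [5, 4, 2, 6, 4, 2, 5, 4, 3, 6, 0, 3, 3, 4],
  [5, 4, 2, 6, 4, 0, 3, 6, 4, 3, 0, 3, 0, 3, 3, 6, 4]]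

/-- events, part 0 -/
def evs0 : List Evt := [
  .node ⟨0, [5], 1, []⟩,
  .stab 1 [2, 0, 2, 0, 2, 2, 0, 3, 0] [0] 0 0 [4, 4] [⟨1, true, [], [0]⟩, ⟨1, false, [0, 2, 0, 3, 3, 0, 3, 0, 3], [2]⟩],
  .stab 1 [2, 0, 3, 3, 0, 3, 0, 3, 0] [1] 0 0 [4, 4] [⟨1, true, [], [1]⟩, ⟨1, false, [0, 2, 0, 2, 0, 2, 2, 0, 3], [3]⟩],
  .stab 1 [0, 0, 6] [0, 0] 1 0 [4, 5, 4, 5, 4, 5] [⟨1, true, [], [0, 0]⟩, ⟨0, false, [0, 0], []⟩, ⟨1, false, [], []⟩],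
  .edge ⟨1, [1, 5], 1, [0, 6]⟩ 2 0 [6, 4, 6, 4, 6] [⟨1, true, [], [1]⟩, ⟨1, false, [0, 0], [1]⟩],
  .edge ⟨1, [0, 5], 1, [6]⟩ 2 0 [6, 4, 6, 4, 6] [⟨1, true, [], [0]⟩, ⟨1, false, [1], []⟩],
  .node ⟨1, [2], 2, []⟩,
  .stab 2 [0, 3, 0, 3, 0, 2, 0, 2, 0, 3, 0, 3, 0, 2, 0, 2] [0, 2, 0, 3, 3, 0, 2, 2, 2, 0, 3, 0, 3] 0 0 [4, 4] [⟨4, true, [], [1, 3, 3]⟩, ⟨4, false, [4, 7, 4, 4, 4, 6, 6, 6, 5, 6], [3, 3, 0]⟩],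
  .stab 2 [0, 2, 0, 3, 0, 3, 3, 0, 2, 2, 2, 0, 2, 0, 2, 0, 3, 0, 2, 2] [0, 2, 0, 2, 0, 2, 2, 0, 3, 0] 0 0 [4, 4] [⟨4, true, [], [0, 2, 0]⟩, ⟨4, false, [5, 7, 4, 7, 4, 4, 4, 6], [3, 3, 3]⟩],
  .edge ⟨2, [0, 0, 5], 2, [6]⟩ 2 0 [6, 4, 6, 4, 6] [⟨4, true, [], [0, 0]⟩, ⟨4, false, [8], []⟩],
  .edge ⟨1, [3, 0, 3, 0, 2, 2, 2], 2, [0, 2, 0, 2, 0, 3, 0, 3, 3, 0, 3, 0, 2, 2, 0, 2, 2, 0, 3, 0, 3, 3, 0, 3, 1]⟩ 4 41 [2, 2, 2, 0, 2, 0, 2, 4, 1, 3, 1, 3, 1, 3, 3, 3, 4, 2, 2, 2, 0, 2, 0, 2, 1, 3, 1, 3, 1, 3, 3, 3, 4, 2, 2, 2, 0, 2, 0, 2, 1, 3, 1, 3, 1, 3, 3, 3] [⟨1, true, [], []⟩, ⟨1, false, [0, 3, 0, 3, 0, 2, 2, 2, 0], [0]⟩, ⟨4, false, [4,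 4, 6, 5], [0, 3, 0, 2]⟩],
  .stab 2 [0, 2, 0, 2, 0, 2, 2, 0, 2, 0, 2, 1, 2, 2] [0, 2, 0, 2, 2, 2, 0, 2, 0, 2, 2, 0, 2, 0, 2, 1, 2] 0 0 [4, 4] [⟨6, true, [], [0, 2]⟩, ⟨6, false, [5, 6, 5, 6, 5, 6], [2, 0]⟩],
  .stab 2 [2, 2, 0, 2, 0, 3, 0, 2, 2, 0, 2, 2, 0, 3, 0, 3, 0, 3, 1, 2] [0, 3, 0, 2, 2, 0, 2, 0, 3, 0, 3, 3, 0, 3, 0, 2, 2, 1, 2, 2] 3 8 [4, 2, 2, 2, 0, 2, 0, 2, 0, 3, 1, 3, 1, 3, 3, 3, 4, 2, 2, 2, 0, 2, 0, 2, 0, 3, 1, 3, 1, 3, 3, 3, 4, 2, 2, 2, 0, 2, 0, 2, 0, 4, 3, 1, 3, 1, 3, 3, 3] [⟨4, true, [], [0, 2, 2, 0, 2, 0, 2, 1]⟩, ⟨4, false, [4, 4, 4, 6, 6, 5, 6, 5, 6, 6, 5, 5, 6, 5], [2, 0, 2, 2, 0, 2, 0]⟩, ⟨4, true, [10, 12,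 14, 12, 10, 12], [0, 2, 2, 0, 2, 0, 2, 1]⟩, ⟨6, false, [4, 6, 5, 5, 6, 5, 5, 7, 7, 7], [1]⟩],
  .edge ⟨2, [3, 5], 2, [0, 2, 2, 0, 2, 0, 2, 2, 2, 0, 3, 0, 3, 3, 0, 3, 3, 0, 2, 0, 2, 6, 0, 2]⟩ 4 0 [1, 3, 1, 3, 1, 3, 3, 3, 4, 2, 2, 2, 0, 2, 0, 2, 1, 3, 1, 3, 1, 3, 3, 3, 4, 2, 2, 2, 0, 2, 0, 2, 1, 3, 1, 3, 1, 3, 3, 3, 4, 2, 2, 2, 0, 2, 0, 2] [⟨5, false, [10, 16, 13, 10], [0, 2, 2, 2, 0, 2, 1]⟩, ⟨5, false, [12, 16, 13, 14, 16], [3, 0, 3, 3]⟩, ⟨5, false, [12, 12, 16, 14, 16], [0, 2, 2, 2, 0, 2, 1]⟩],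
  .edge ⟨2, [2, 2, 2, 0, 2, 2, 0, 3, 3, 0, 3, 0, 2, 2, 5, 0, 2, 2, 2], 1, [3, 0, 3, 0, 2, 2, 2, 0, 6]⟩ 2 0 [6, 4, 6, 4, 6] [⟨7, true, [], [2, 2, 1, 2]⟩, ⟨6, true, [10, 12], [1]⟩],
  .edge ⟨2, [0, 2, 0, 2, 0, 3, 0, 3, 3, 0, 3, 0, 2, 2, 0, 2, 2, 0, 3, 0, 3, 3, 0, 3, 1, 5], 2, [0, 2, 0, 2, 0, 3, 0, 3, 3, 0, 3, 0, 2, 2, 0, 2, 2, 0, 3, 0, 3, 3, 0, 3, 0, 6]⟩ 2 0 [6, 4, 6, 4, 6] [⟨6, true, [], []⟩, ⟨6, false, [8], [0, 0]⟩],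
  .edge ⟨2, [0, 2, 0, 2, 0, 3, 0, 3, 3, 0, 3, 0, 2, 2, 0, 2, 2, 0, 3, 0, 3, 3, 0, 3, 0, 5], 2, [2, 2, 2, 0, 2, 2, 0, 3, 3, 0, 3, 0, 2, 2, 0, 2, 2, 2, 5, 0]⟩ 2 0 [6, 4, 6, 4, 6] [⟨6, true, [], [0, 0]⟩, ⟨8, true, [8], [1]⟩],
  .edge ⟨1, [3, 0, 3, 0, 2, 2, 2, 0, 2, 0, 2, 0, 2, 2, 6, 1, 3], 1, [3, 0, 3, 0, 3, 3, 0, 2, 0, 2, 2, 0, 3, 6]⟩ 2 0 [6, 4, 6, 4, 6] [⟨8, true, [], [0, 0, 2]⟩, ⟨6, true, [12, 17, 14, 12], [0, 0, 2]⟩],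
  .node ⟨1, [2, 6], 3, []⟩,
  .stab 3 [0, 3, 0, 3, 0, 2, 0, 2, 0, 3, 0, 3, 0, 2, 0, 2] [0, 2, 0, 3, 3, 0, 2, 2, 2, 0, 3, 0, 3] 0 0 [4, 4] [⟨12, true, [], [1, 3, 3]⟩, ⟨12, false, [4, 7, 4, 4, 4, 6, 6, 6, 5, 6], [3, 3, 0]⟩],
  .stab 3 [0, 2, 0, 3, 0, 3, 3, 0, 2, 2, 2, 0, 2, 0, 2, 0, 3, 0, 2, 2] [0, 2, 0, 2, 0, 2, 2, 0, 3, 0] 0 0 [4, 4] [⟨12, true, [], [0, 2, 0]⟩, ⟨12, false, [5, 7, 4, 7, 4, 4, 4, 6], [3, 3, 3]⟩],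
  .edge ⟨2, [5], 3, [6]⟩ 2 0 [6, 4, 6, 4, 6] [⟨4, true, [], []⟩, ⟨12, false, [], []⟩],
  .edge ⟨2, [0, 3, 3, 0, 2, 2, 2, 0, 2, 2, 2, 0, 2, 0, 2, 2, 5], 3, [0, 3, 3, 0, 2, 2, 2, 0, 2, 2, 2, 0, 2, 1, 2, 2, 6]⟩ 2 0 [6, 4, 6, 4, 6] [⟨4, true, [], [0, 3, 3, 3, 3]⟩, ⟨12, false, [8], [0, 3, 3, 3, 3]⟩],
  .edge ⟨3, [0, 3, 3, 0, 2, 2, 2, 0, 2, 2, 2, 0, 2, 1, 2, 2, 5], 3, [0, 3, 3, 0, 2, 2, 2, 0, 2, 2, 2, 0, 2, 0, 2, 2, 6]⟩ 2 0 [6, 4, 6, 4, 6] [⟨12, true, [], [1, 3, 3, 3, 3]⟩, ⟨12, false, [8], [1, 3, 3, 3, 3]⟩],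
  .edge ⟨3, [2, 0, 3, 3, 0, 3, 0, 2, 2, 0, 3, 0, 3, 3, 0, 3, 3, 0, 2, 0, 6], 3, [2, 2, 0, 2, 2, 2, 0, 3, 0, 3, 0, 2, 2, 2, 0, 2, 0, 2, 2, 0, 3]⟩ 4 25 [2, 2, 2, 0, 2, 0, 2, 1, 3, 1, 3, 1, 3, 3, 3, 4, 2, 2, 2, 0, 2, 0, 2, 4, 1, 3, 1, 3, 1, 3, 3, 3, 4, 2, 2, 2, 0, 2, 0, 2, 1, 3, 1, 3, 1, 3, 3, 3] [⟨13, true, [], [2, 0, 2, 2, 0, 2, 0]⟩, ⟨8, false, [13, 14, 13, 13], [0, 0]⟩, ⟨12, false, [4, 4, 7, 4, 7, 4, 7, 7, 4, 7, 8], [0, 2, 2, 0, 2, 0, 2, 0]⟩],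
  .stab 3 [3, 3, 0, 3, 0, 3, 3, 0, 2, 2, 0, 2, 0, 2, 0, 2, 2, 0, 2, 2, 2, 1, 3, 5] [2, 2, 0, 3, 3, 0, 2, 0, 2, 2, 0, 2, 2, 2, 0, 3, 0, 3, 0] 3 40 [4, 2, 2, 2, 0, 2, 0, 2, 0, 4, 3, 1, 3, 1, 3, 3, 3, 4, 2, 2, 2, 0, 2, 0, 2, 0, 3, 1, 3, 1, 3, 3, 3, 4, 2, 2, 2, 0, 2, 0, 2, 0, 3, 1, 3, 1, 3, 3, 3] [⟨12, true, [], [2, 2, 2, 1, 2]⟩, ⟨8, true, [6, 6, 6, 5, 5, 6, 5, 6, 8], [0, 3, 0]⟩, ⟨7, false, [10, 13, 10, 14, 10], [2, 2, 1, 2]⟩, ⟨13, false, [12, 17, 14, 12], [0, 3, 1, 2]⟩],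
  .edge ⟨3, [0, 3, 0, 3, 0, 3, 3, 0, 2, 2, 6, 0, 2], 3, [0, 2, 2, 2, 0, 2, 2, 0, 2, 0, 3, 3, 0, 2, 1, 2, 2]⟩ 4 41 [2, 2, 2, 0, 2, 0, 2, 4, 1, 3, 1, 3, 1, 3, 3, 3, 4, 2, 2, 2, 0, 2, 0, 2, 1, 3, 1, 3, 1, 3, 3, 3, 4, 2, 2, 2, 0, 2, 0, 2, 1, 3, 1, 3, 1, 3, 3, 3] [⟨13, true, [], [2, 0, 2, 2, 0]⟩, ⟨8, false, [12, 12, 16, 14, 17], [0, 3, 1]⟩, ⟨12, false, [4, 4, 7, 7, 4, 8], [0, 0, 2, 2, 2]⟩],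
  .edge ⟨3, [0, 2, 2, 0, 2, 0, 3, 3, 0, 3, 0, 2, 2, 0, 3, 0, 2, 2, 2, 0, 2, 0, 2, 5, 1], 3, [0, 2, 2, 0, 2, 0, 3, 3, 0, 3, 0, 2, 2, 0, 3, 0, 2, 2, 2, 0, 2, 0, 2, 5, 0]⟩ 4 25 [2, 2, 2, 0, 2, 0, 2, 1, 3, 1, 3, 1, 3, 3, 3, 4, 2, 2, 2, 0, 2, 0, 2, 4, 1, 3, 1, 3, 1, 3, 3, 3, 4, 2, 2, 2, 0, 2, 0, 2, 1, 3, 1, 3, 1, 3, 3, 3] [⟨14, true, [], [3, 0, 3, 3]⟩, ⟨10, false, [10, 17, 10, 12], [3, 1, 2, 2]⟩, ⟨14, false, [12, 10, 16, 16], [3, 0, 3, 3]⟩],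
  .edge ⟨3, [2, 0, 2, 0, 3, 0, 2, 2, 2, 0, 3, 3, 0, 2, 0, 2, 2, 0, 2, 0, 3, 6, 0], 3, [3, 0, 2, 2, 2, 0, 3, 0, 2, 2, 0, 3, 3, 0, 3, 0, 2, 2, 0]⟩ 4 9 [2, 2, 2, 0, 2, 0, 2, 1, 3, 1, 3, 1, 3, 3, 3, 4, 2, 2, 2, 0, 2, 0, 2, 1, 3, 1, 3, 1, 3, 3, 3, 4, 2, 2, 2, 0, 2, 0, 2, 4, 1, 3, 1, 3, 1, 3, 3, 3] [⟨17, false, [], [0, 2, 2, 0, 2, 0, 2, 2, 2, 1, 2]⟩, ⟨12, true, [22, 21, 22], [1, 3]⟩, ⟨12, false, [4, 7, 4, 4, 6, 6, 6, 5, 6], [0, 2, 2, 0, 2, 1]⟩],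
  .edge ⟨3, [2, 2, 0, 2, 2, 0, 2, 0, 2, 2, 2, 6], 3, [0, 3, 0, 2, 2, 0, 2, 0, 3, 0, 3, 3, 0, 3, 0, 2, 2, 0, 3, 0, 3, 3, 5, 0, 2]⟩ 4 0 [1, 3, 1, 3, 1, 3, 3, 3, 4, 2, 2, 2, 0, 2, 0, 2, 1, 3, 1, 3, 1, 3, 3, 3, 4, 2, 2, 2, 0, 2, 0, 2, 1, 3, 1, 3, 1, 3, 3, 3, 4, 2, 2, 2, 0, 2, 0, 2] [⟨18, false, [18, 22, 21], [0, 3, 3, 0, 2, 2]⟩, ⟨14, true, [22, 18, 23], [2, 0, 2, 2, 1, 2]⟩, ⟨14, false, [12, 12, 17, 13, 16], [0, 2, 2, 0, 2, 0, 2]⟩],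
  .edge ⟨3, [3, 0, 3, 0, 3, 0, 2, 2, 0, 2, 0, 2, 0, 2, 2, 2, 0, 2, 2, 5], 3, [0, 3, 0, 2, 2, 0, 2, 0, 3, 0, 3, 3, 0, 3, 0, 2, 2, 0, 3, 0, 3, 3, 6, 0, 2]⟩ 2 0 [6, 4, 6, 4, 6] [⟨19, true, [], [0, 2, 2, 0]⟩, ⟨20, false, [18, 21, 23, 18, 21], []⟩],
  .node ⟨1, [0, 2, 6], 4, []⟩,
  .stab 4 [0, 0] [1] 0 0 [4, 4] [⟨22, true, [], [1]⟩, ⟨22, false, [8], [1]⟩],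
  .stab 4 [0, 3, 0, 3, 0, 2, 0, 2, 0, 3, 0, 3, 0, 2, 0, 2] [0, 2, 0, 3, 3, 0, 2, 2, 2, 0, 3, 0, 3] 0 0 [4, 4] [⟨22, true, [], [1, 3, 3]⟩, ⟨22, false, [4, 7, 4, 4, 4, 6, 6, 6, 5, 6], [3, 3, 0]⟩],
  .stab 4 [0, 2, 0, 3, 0, 3, 3, 0, 2, 2, 2, 0, 2, 0, 2, 0, 3, 1, 2, 2] [0, 2, 0, 2, 0, 2, 2, 0, 3, 1] 0 0 [4, 4] [⟨22, true, [], [0, 2, 1]⟩, ⟨22, false, [5, 7, 7, 4, 7, 7, 4, 6, 8], [3, 3, 3]⟩],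
  .edge ⟨2, [0, 3, 3, 0, 2, 2, 2, 0, 2, 2, 2, 0, 2, 1, 2, 2, 5], 4, [6]⟩ 2 0 [6, 4, 6, 4, 6] [⟨4, true, [], [1, 3, 3, 3, 3]⟩, ⟨22, false, [4, 6, 6, 6, 5, 5, 5, 7], []⟩],
  .edge ⟨3, [5], 4, [0, 3, 3, 0, 2, 2, 2, 0, 2, 2, 2, 0, 2, 1, 2, 2, 6]⟩ 2 0 [6, 4, 6, 4, 6] [⟨12, true, [], []⟩, ⟨22, false, [5, 7, 7, 7, 4, 4, 4, 6, 8], [0, 3, 3, 3, 3]⟩],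
  .edge ⟨4, [2, 0, 3, 3, 0, 3, 0, 2, 2, 0, 3, 0, 3, 3, 0, 3, 3, 0, 2, 1], 4, [2, 0, 3, 3, 0, 3, 0, 2, 2, 0, 3, 0, 3, 3, 0, 3, 3, 0, 2, 0]⟩ 4 25 [2, 2, 2, 0, 2, 0, 2, 1, 3, 1, 3, 1, 3, 3, 3, 4, 2, 2, 2, 0, 2, 0, 2, 4, 1, 3, 1, 3, 1, 3, 3, 3, 4, 2, 2, 2, 0, 2, 0, 2, 1, 3, 1, 3, 1, 3, 3, 3] [⟨22, true, [], [2, 0, 2, 2, 0, 2, 1]⟩, ⟨11, true, [6, 5, 6, 5, 5, 7, 7, 7, 8], [0, 0, 3]⟩, ⟨22, false, [6, 5, 5, 7, 7, 7, 4, 7, 8], [2, 0, 2, 2, 0, 2, 0]⟩],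
  .edge ⟨4, [0, 3, 0, 3, 0, 3, 3, 0, 2, 2, 0, 2, 2, 0, 2, 0, 3, 1, 3], 4, [0, 2, 2, 2, 0, 2, 0, 2, 0, 3, 0, 3, 0, 2, 2, 2]⟩ 4 41 [2, 2, 2, 0, 2, 0, 2, 4, 1, 3, 1, 3, 1, 3, 3, 3, 4, 2, 2, 2, 0, 2, 0, 2, 1, 3, 1, 3, 1, 3, 3, 3, 4, 2, 2, 2, 0, 2, 0, 2, 1, 3, 1, 3, 1, 3, 3, 3] [⟨22, true, [], [2, 0, 2, 2, 0, 2, 0, 3]⟩, ⟨11, true, [4, 4, 6, 5, 5, 7, 7, 4, 7], [2, 1, 2]⟩, ⟨22, false, [4, 6, 6, 5, 6, 6, 5, 5], [0]⟩],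
  .edge ⟨4, [0, 2, 0, 2, 0, 3, 0, 2, 2, 0, 2, 2, 0, 3, 0, 3, 0, 3, 0], 4, [0, 2, 0, 2, 0, 3, 3, 0, 3, 3, 0, 3, 0, 2, 0, 2, 0, 2, 2, 0, 3, 1]⟩ 4 25 [2, 2, 2, 0, 2, 0, 2, 1, 3, 1, 3, 1, 3, 3, 3, 4, 2, 2, 2, 0, 2, 0, 2, 4, 1, 3, 1, 3, 1, 3, 3, 3, 4, 2, 2, 2, 0, 2, 0, 2, 1, 3, 1, 3, 1, 3, 3, 3] [⟨26, true, [], [0, 2, 0, 3, 3, 3, 0, 3]⟩, ⟨22, true, [26], [2, 0, 2, 2, 0, 2]⟩, ⟨22, false, [4, 6, 5, 5, 7, 7, 4, 7, 7], [2, 0, 2]⟩],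
  .edge ⟨4, [0, 2, 2, 0, 2, 2, 0, 2, 0, 2, 2, 0, 2, 1, 3], 4, [3, 0, 3, 3, 0, 2, 0, 3, 3, 0, 2, 0, 2, 2, 0, 3, 0, 3, 0, 2, 0, 2]⟩ 4 41 [2, 2, 2, 0, 2, 0, 2, 4, 1, 3, 1, 3, 1, 3, 3, 3, 4, 2, 2, 2, 0, 2, 0, 2, 1, 3, 1, 3, 1, 3, 3, 3, 4, 2, 2, 2, 0, 2, 0, 2, 1, 3, 1, 3, 1, 3, 3, 3] [⟨22, true, [], [0, 3]⟩, ⟨22, false, [5, 5, 5, 6, 5, 6, 5, 5, 5], [2, 2, 2, 0, 3]⟩, ⟨26, true, [29, 29, 26, 29, 26], [3, 3, 3, 3, 3, 0, 2, 2]⟩],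
  .stab 4 [2, 0, 2, 2, 2, 0, 3, 3, 0, 3, 0, 3, 0, 3, 3, 0, 2, 2, 0, 2, 1, 2, 2] [0, 2, 0, 3, 3, 0, 3, 0, 3, 0, 2, 0, 2, 0, 2, 2, 1, 3] 3 40 [4, 2, 2, 2, 0, 2, 0, 2, 0, 4, 3, 1, 3, 1, 3, 3, 3, 4, 2, 2, 2, 0, 2, 0, 2, 0, 3, 1, 3, 1, 3, 3, 3, 4, 2, 2, 2, 0, 2, 0, 2, 0, 3, 1, 3, 1, 3, 3, 3] [⟨22, true, [], [0, 3, 0, 2]⟩, ⟨11, false, [5, 7, 4, 7, 7, 4, 7, 4, 6, 8], [2, 0]⟩, ⟨2, false, [4, 6, 5, 5, 7, 4, 4, 7, 7, 4], []⟩, ⟨22, false, [4, 4, 7, 4, 4, 6, 6, 5, 7], [2, 2, 2, 0, 2]⟩],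
  .edge ⟨4, [3, 0, 2, 0, 2, 2, 0, 3, 0, 3, 0, 2, 0, 2, 0, 2, 2, 0, 3, 0, 3, 3, 1, 3, 6], 4, [2, 2, 0, 2, 0, 3, 3, 0, 3, 0, 2, 2, 0, 3, 0, 2, 2, 5, 0, 2, 2]⟩ 4 25 [2, 2, 2, 0, 2, 0, 2, 1, 3, 1, 3, 1, 3, 3, 3, 4, 2, 2, 2, 0, 2, 0, 2, 4, 1, 3, 1, 3, 1, 3, 3, 3, 4, 2, 2, 2, 0, 2, 0, 2, 1, 3, 1, 3, 1, 3, 3, 3] [⟨23, true, [], [0, 2, 2, 2, 0, 2, 0]⟩, ⟨9, false, [14, 16, 12], [0, 3, 1, 2, 2]⟩, ⟨23, false, [13, 16, 13, 14], [3, 0, 3, 3]⟩],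
  .edge ⟨4, [2, 2, 0, 2, 2, 0, 2, 6, 0, 2, 2, 2], 4, [2, 2, 0, 3, 3, 0, 3, 3, 0, 2, 2, 0, 3, 3, 0, 3, 0, 3, 5, 0, 3, 3]⟩ 4 0 [1, 3, 1, 3, 1, 3, 3, 3, 4, 2, 2, 2, 0, 2, 0, 2, 1, 3, 1, 3, 1, 3, 3, 3, 4, 2, 2, 2, 0, 2, 0, 2, 1, 3, 1, 3, 1, 3, 3, 3, 4, 2, 2, 2, 0, 2, 0, 2] [⟨29, false, [24, 29, 31], [0, 3, 3, 0, 2, 2]⟩, ⟨23, true, [26], [2, 0, 2, 2, 1, 2]⟩, ⟨23, false, [12, 12, 17, 13, 16], [0, 2, 2, 0, 2, 0, 2]⟩],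
  .edge ⟨4, [2, 2, 0, 3, 0, 2, 2, 0, 3, 6, 0, 3, 3], 4, [3, 3, 0, 3, 0, 2, 2, 0, 2, 2, 0, 3, 3, 0, 3, 0, 3, 0, 3, 3, 0, 3, 1, 2, 6]⟩ 4 0 [1, 3, 1, 3, 1, 3, 3, 3, 4, 2, 2, 2, 0, 2, 0, 2, 1, 3, 1, 3, 1, 3, 3, 3, 4, 2, 2, 2, 0, 2, 0, 2, 1, 3, 1, 3, 1, 3, 3, 3, 4, 2, 2, 2, 0, 2, 0, 2] [⟨24, true, [26, 29, 30], [0, 3, 0, 2]⟩, ⟨15, true, [23], [0, 3, 0, 2]⟩, ⟨24, false, [22], [0, 3, 0, 2]⟩],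
  .node ⟨2, [2], 5, []⟩,
  .stab 5 [0, 3, 0, 3, 0, 2, 0, 2, 0, 3, 0, 3, 0, 2, 0, 2] [0, 2, 0, 3, 3, 0, 2, 2, 2, 0, 3, 0, 3] 0 0 [4, 4] [⟨32, true, [], [1, 3, 3]⟩, ⟨32, false, [10, 14, 16, 14, 16], [3, 3, 0]⟩],
  .stab 5 [0, 2, 0, 3, 3, 0, 3, 0, 2, 0, 2, 2, 0, 3, 0, 3, 3, 0, 3, 3] [3, 0, 3, 0, 2, 0, 2, 0, 3, 0, 2, 2, 2, 1, 2] 0 0 [4, 4] [⟨32, true, [], [0, 2, 0, 3, 3, 3]⟩, ⟨32, false, [16, 14, 17], [0, 2, 1, 2, 2, 2]⟩],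
  .stab 5 [2, 0, 3, 3, 0, 2, 0, 2, 2, 0, 2, 0, 3, 3, 0, 3, 0, 2, 2, 1, 3, 3] [0, 3, 0, 2, 0, 2, 2, 0, 2, 2, 2, 0, 3, 0, 3, 0, 2, 0, 3, 3] 0 0 [4, 4] [⟨32, true, [], [0, 3, 3, 3, 1, 3]⟩, ⟨32, false, [10, 13, 16, 13], [2, 0, 2, 2, 0, 2]⟩],
  .stab 5 [0, 3, 3, 0, 2, 0, 2, 2, 2, 0, 2, 2, 0, 3, 0, 2, 2, 2, 0, 3, 3] [0, 2, 0, 3, 0, 2, 2, 0, 2, 0, 3, 0, 3, 0, 2, 0, 3, 3, 0, 2, 1, 2] 3 24 [4, 2, 2, 2, 0, 2, 0, 2, 0, 3, 1, 3, 1, 3, 3, 3, 4, 2, 2, 2, 0, 2, 0, 2, 0, 4, 3, 1, 3, 1, 3, 3, 3, 4, 2, 2, 2, 0, 2, 0, 2, 0, 3, 1, 3, 1, 3, 3, 3] [⟨32, true, [], [3, 0, 2, 2, 0, 2, 1, 3]⟩, ⟨4, true, [16, 16, 16, 12], [0, 2, 2, 0, 2, 0, 2, 1, 3]⟩,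 ⟨4, false, [4, 6, 5, 6, 5, 5, 5, 6], []⟩, ⟨32, false, [12, 17, 14, 16], [2, 2, 2, 2, 0, 3]⟩]]

/-- events, part 1 -/
def evs1 : List Evt := [
  .node ⟨2, [2, 5], 6, []⟩,
  .stab 6 [0, 3, 0, 3, 0, 2, 0, 2, 0, 3, 0, 3, 0, 2, 0, 2] [0, 2, 0, 3, 3, 0, 2, 2, 2, 0, 3, 0, 3] 0 0 [4, 4] [⟨33, true, [], [1, 3, 3]⟩, ⟨33, false, [10, 14, 16, 14, 16], [3, 3, 0]⟩],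
  .stab 6 [0, 2, 0, 3, 3, 0, 3, 0, 2, 0, 2, 2, 0, 3, 0, 3, 3, 0, 3, 3] [3, 0, 3, 0, 2, 0, 2, 0, 3, 0, 2, 2, 2, 1, 2] 0 0 [4, 4] [⟨33, true, [], [0, 2, 0, 3, 3, 3]⟩, ⟨33, false, [16, 14, 17], [0, 2, 1, 2, 2, 2]⟩],
  .edge ⟨5, [5], 6, [0, 2, 0, 3, 3, 0, 2, 0, 2, 2, 0, 2, 0, 3, 3, 0, 2, 1, 6]⟩ 2 0 [6, 4, 6, 4, 6] [⟨32, true, [], []⟩, ⟨33, false, [12, 12, 17, 14], [0, 3, 0, 2, 2, 2, 0, 2, 2, 2, 0, 2]⟩],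
  .edge ⟨6, [1, 5], 6, [3, 0, 3, 0, 3, 0, 2, 0, 2, 2, 0, 3, 3, 0, 2, 2, 0, 2, 0, 2, 0, 3, 6]⟩ 2 0 [6, 4, 6, 4, 6] [⟨33, true, [], [1]⟩, ⟨33, false, [10, 13, 16, 13], [2, 0, 2, 2, 0, 2, 2, 0, 2, 2, 2]⟩],
  .edge ⟨3, [0, 3, 0, 2, 2, 0, 2, 2, 0, 2, 0, 3, 0, 3, 0, 2, 0, 2, 2, 1], 6, [2, 2, 0, 3, 3, 0, 3, 0, 3, 0, 3, 3, 0, 2, 2, 0, 2, 0, 2, 2, 1, 2]⟩ 4 41 [2, 2, 2, 0, 2, 0, 2, 4, 1, 3, 1, 3, 1, 3, 3, 3, 4, 2, 2, 2, 0, 2, 0, 2, 1, 3, 1, 3, 1, 3, 3, 3, 4, 2, 2, 2, 0, 2, 0, 2, 1, 3, 1, 3, 1, 3, 3, 3] [⟨12, true, [], [0, 2, 2, 0, 2, 0, 2, 0, 3]⟩, ⟨8, true, [7, 4, 4, 7, 7, 4, 6, 8], [3, 1, 2]⟩, ⟨33, false, [14, 17, 14, 16], [2, 2, 2,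 1, 2, 2, 2]⟩],
  .edge ⟨6, [0, 3, 3, 0, 2, 0, 2, 0, 3, 0, 2, 2, 0, 2, 0, 2, 2, 0, 3, 3, 1, 3], 3, [3, 0, 2, 0, 2, 2, 0, 3, 0, 3, 3, 0, 3, 0, 2, 0, 2, 0, 3, 1, 3]⟩ 4 25 [2, 2, 2, 0, 2, 0, 2, 1, 3, 1, 3, 1, 3, 3, 3, 4, 2, 2, 2, 0, 2, 0, 2, 4, 1, 3, 1, 3, 1, 3, 3, 3, 4, 2, 2, 2, 0, 2, 0, 2, 1, 3, 1, 3, 1, 3, 3, 3] [⟨36, true, [], [0, 2, 0, 3, 3, 3, 1, 3]⟩, ⟨12, true, [22, 20, 22], [0, 2, 2, 0, 2, 1, 2]⟩, ⟨12, false, [5, 5, 7, 4, 4, 7, 4, 4, 6], [0, 2, 2, 0]⟩],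
  .edge ⟨6, [0, 2, 0, 2, 2, 0, 3, 0, 3, 0, 2, 0, 2, 0, 2, 2, 1, 3], 6, [0, 2, 0, 2, 2, 2, 0, 2, 2, 0, 3, 0, 3, 3, 0, 2, 2, 0, 2, 0, 3, 3, 0, 2]⟩ 4 25 [2, 2, 2, 0, 2, 0, 2, 1, 3, 1, 3, 1, 3, 3, 3, 4, 2, 2, 2, 0, 2, 0, 2, 4, 1, 3, 1, 3, 1, 3, 3, 3, 4, 2, 2, 2, 0, 2, 0, 2, 1, 3, 1, 3, 1, 3, 3, 3] [⟨33, true, [], [2, 0, 3, 3, 1]⟩, ⟨5, false, [14, 12, 17, 12], [3, 0, 2]⟩, ⟨33, false, [16], [3, 3, 3, 0, 3, 3]⟩],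
  .edge ⟨6, [3, 0, 2, 0, 2, 0, 2, 2, 0, 3, 0, 2, 2, 0, 2, 1, 3], 6, [0, 2, 0, 3, 0, 3, 0, 2, 0, 2, 2, 0, 3, 0, 3, 3, 0, 3, 0, 3, 1]⟩ 4 41 [2, 2, 2, 0, 2, 0, 2, 4, 1, 3, 1, 3, 1, 3, 3, 3, 4, 2, 2, 2, 0, 2, 0, 2, 1, 3, 1, 3, 1, 3, 3, 3, 4, 2, 2, 2, 0, 2, 0, 2, 1, 3, 1, 3, 1, 3, 3, 3] [⟨33, true, [], [3, 3, 3, 1, 2, 2, 2]⟩, ⟨5, false, [13, 14, 10, 16, 14], [2, 0, 2, 2, 2, 0]⟩, ⟨33, false, [12, 17, 13, 10], [2, 2, 2, 2, 0, 3, 3]⟩],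
  .stab 6 [0, 3, 3, 0, 3, 0, 3, 3, 0, 3, 0, 2, 0, 2, 2, 0, 3, 1, 3, 3] [2, 2, 2, 0, 2, 2, 0, 3, 0, 3, 3, 0, 3, 0, 2, 0, 2, 0, 2, 2, 2] 3 24 [4, 2, 2, 2, 0, 2, 0, 2, 0, 3, 1, 3, 1, 3, 3, 3, 4, 2, 2, 2, 0, 2, 0, 2, 0, 4, 3, 1, 3, 1, 3, 3, 3, 4, 2, 2, 2, 0, 2, 0, 2, 0, 3, 1, 3, 1, 3, 3, 3] [⟨37, false, [], [2, 2, 0, 2, 1, 3, 3, 3]⟩, ⟨13, true, [21, 21, 18, 23], [0, 2, 2, 1]⟩, ⟨33, false, [12, 16, 16, 12], [0, 2, 0, 2, 2, 0, 3]⟩, ⟨39, false, [42, 40, 42], [2, 0, 2, 2, 2, 0, 2, 2, 1, 2, 2, 2]⟩],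
  .edge ⟨6, [2, 2, 2, 0, 2, 0, 2, 0, 2, 2, 0, 3, 3, 0, 2], 6, [0, 2, 2, 0, 2, 0, 2, 2, 0, 2, 0, 3, 0, 3, 0, 2, 0, 2, 0, 2, 2, 0, 2, 1, 3]⟩ 4 25 [2, 2, 2, 0, 2, 0, 2, 1, 3, 1, 3, 1, 3, 3, 3, 4, 2, 2, 2, 0, 2, 0, 2, 4, 1, 3, 1, 3, 1, 3, 3, 3, 4, 2, 2, 2, 0, 2, 0, 2, 1, 3, 1, 3, 1, 3, 3, 3] [⟨39, true, [], [2, 2, 0, 2, 2, 0, 2, 2, 0, 2]⟩, ⟨33, true, [42, 40], [2, 2, 2, 0, 2, 0, 3]⟩, ⟨33, false, [14, 13, 10], [0, 2, 2, 2, 2, 2, 2, 0, 2, 2]⟩],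
  .edge ⟨6, [0, 2, 0, 3, 0, 3, 0, 3, 3, 0, 2, 2, 0, 2, 2, 0, 2, 0, 3], 6, [0, 2, 0, 3, 0, 3, 0, 3, 3, 0, 2, 2, 0, 2, 2, 0, 2, 0, 3]⟩ 4 41 [2, 2, 2, 0, 2, 0, 2, 4, 1, 3, 1, 3, 1, 3, 3, 3, 4, 2, 2, 2, 0, 2, 0, 2, 1, 3, 1, 3, 1, 3, 3, 3, 4, 2, 2, 2, 0, 2, 0, 2, 1, 3, 1, 3, 1, 3, 3, 3] [⟨33, true, [], [3, 3, 3, 0, 2, 2, 2, 0]⟩, ⟨33, false, [10, 12, 10, 12, 14], [2, 2, 2, 2, 0, 3, 3]⟩, ⟨39, true, [], []⟩],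
  .edge ⟨6, [0, 3, 0, 2, 2, 0, 2, 2, 0, 3, 0, 3, 0, 2, 0, 3, 3, 1, 3, 3, 5], 6, [2, 2, 0, 2, 2, 0, 2, 0, 2, 0, 3, 0, 3, 3, 0, 2, 0, 2, 2, 0, 2, 6]⟩ 2 0 [6, 4, 6, 4, 6] [⟨37, false, [], [0, 2, 0, 2, 0, 2, 2, 2, 2, 2, 2, 1, 2, 2, 2]⟩, ⟨37, true, [20, 22, 18, 20], [3, 0, 2, 2, 2, 0, 2, 2, 2, 1, 2]⟩],
  .edge ⟨6, [2, 0, 3, 0, 2, 2, 0, 2, 0, 3, 0, 3, 3, 0, 3, 3, 1, 5], 3, [3, 0, 2, 0, 2, 0, 2, 2, 0, 3, 3, 0, 2, 2, 0, 2, 6, 0, 2, 2]⟩ 2 0 [6, 4, 6, 4, 6] [⟨36, true, [], [3, 3, 3, 3, 0, 3, 1, 3, 3]⟩, ⟨17, true, [21, 22, 18, 21], [2, 0, 3, 3, 3, 0, 3, 0]⟩],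
  .edge ⟨6, [3, 0, 3, 0, 3, 3, 0, 2, 2, 0, 3, 0, 3, 3, 0, 3, 0, 3, 3, 0, 2, 2, 1, 5], 6, [0, 3, 0, 2, 2, 0, 2, 0, 2, 0, 3, 0, 3, 0, 2, 0, 2, 0, 2, 6, 0, 3]⟩ 2 0 [6, 4, 6, 4, 6] [⟨36, true, [], [0, 3, 3, 3, 0]⟩, ⟨43, true, [20, 18, 20], [0, 2, 1, 3, 3, 3, 3]⟩],
  .edge ⟨4, [3, 0, 3, 0, 2, 0, 2, 2, 0, 3, 3, 0, 3, 0, 3, 0, 2, 0, 2, 0, 5], 6, [3, 0, 3, 0, 3, 3, 0, 2, 2, 0, 2, 0, 2, 2, 0, 3, 0, 2, 2, 6, 0, 3]⟩ 4 25 [2, 2, 2, 0, 2, 0, 2, 1, 3, 1, 3, 1, 3, 3, 3, 4, 2, 2, 2, 0, 2, 0, 2, 4, 1, 3, 1, 3, 1, 3, 3, 3, 4, 2, 2, 2, 0, 2, 0, 2, 1, 3, 1, 3, 1, 3, 3, 3] [⟨31, false, [], [2, 2, 2, 2, 0, 2]⟩, ⟨24, true, [24, 29, 30, 26, 31], [0,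 3]⟩, ⟨43, true, [22, 22, 18], [3, 0, 2, 2, 2, 2, 1, 2]⟩],
  .edge ⟨6, [3, 0, 3, 3, 0, 3, 3, 0, 2, 2, 0, 3, 3, 0, 2, 2, 2, 5, 1], 6, [0, 3, 0, 3, 0, 2, 2, 0, 2, 1, 3, 3, 6]⟩ 4 25 [2, 2, 2, 0, 2, 0, 2, 1, 3, 1, 3, 1, 3, 3, 3, 4, 2, 2, 2, 0, 2, 0, 2, 4, 1, 3, 1, 3, 1, 3, 3, 3, 4, 2, 2, 2, 0, 2, 0, 2, 1, 3, 1, 3, 1, 3, 3, 3] [⟨45, true, [], [2, 1, 3]⟩, ⟨24, true, [26], [2, 0, 3]⟩, ⟨43, true, [18, 20, 18, 20], [0, 3, 0, 2, 2, 2, 2, 1, 2]⟩],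
  .edge ⟨6, [0, 2, 2, 2, 0, 2, 2, 0, 3, 3, 0, 2, 2, 0, 2, 0, 2, 2, 0, 2, 2, 2, 0, 5], 6, [0, 2, 0, 2, 2, 0, 2, 0, 3, 0, 3, 0, 3, 3, 0, 2, 2, 0, 3, 5]⟩ 2 0 [6, 4, 6, 4, 6] [⟨39, true, [], [0, 3, 3, 0, 2, 2, 2, 1]⟩, ⟨46, false, [40, 45], [3, 3, 3, 0, 3, 3, 0, 3, 0, 3, 3]⟩],
  .node ⟨2, [2, 0, 5], 7, []⟩,
  .stab 7 [0, 3, 0, 3, 0, 2, 0, 2, 0, 3, 0, 3, 0, 2, 0, 2] [0, 2, 0, 3, 3, 0, 2, 2, 2, 0, 3, 0, 3] 0 0 [4, 4] [⟨48, true, [], [1, 3, 3]⟩, ⟨48, false, [10, 14, 16, 14, 16], [3, 3, 0]⟩],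
  .stab 7 [3, 3, 0, 2, 2, 0, 2, 0, 2, 2, 2, 0, 3, 0, 3, 3, 1, 2, 2] [0, 3, 0, 3, 0, 2, 0, 2, 0, 3, 0, 2, 2, 2, 1, 2] 0 0 [4, 4] [⟨48, true, [], [2, 1, 3, 3, 3]⟩, ⟨48, false, [16, 14, 17], [2, 1, 2, 2, 2]⟩],
  .edge ⟨5, [1, 5], 7, [0, 3, 0, 3, 0, 3, 0, 2, 0, 2, 2, 0, 3, 3, 0, 2, 2, 0, 2, 0, 2, 0, 3, 6]⟩ 2 0 [6, 4, 6, 4, 6] [⟨32, true, [], [1]⟩, ⟨48, false, [10, 13, 16, 13], [0, 2, 0, 2, 2, 0, 2, 2, 1, 2, 2, 2]⟩],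
  .edge ⟨6, [0, 5], 7, [0, 3, 0, 3, 0, 3, 0, 2, 0, 2, 2, 0, 3, 3, 0, 2, 2, 0, 2, 0, 2, 1, 3, 6]⟩ 2 0 [6, 4, 6, 4, 6] [⟨33, true, [], [0]⟩, ⟨48, false, [10, 13, 16, 13], [0, 2, 0, 2, 2, 0, 2, 2, 0, 2, 2, 2]⟩],
  .edge ⟨6, [0, 0, 5], 7, [1, 6]⟩ 2 0 [6, 4, 6, 4, 6] [⟨33, true, [], [0, 0]⟩, ⟨48, false, [], [0]⟩],
  .edge ⟨7, [1, 5], 7, [2, 0, 3, 3, 0, 2, 0, 2, 2, 0, 2, 0, 3, 3, 0, 2, 1, 6]⟩ 2 0 [6, 4, 6, 4, 6] [⟨48, true, [], [1]⟩, ⟨48, false, [12, 12, 17, 14], [3, 0, 2, 2, 2, 0, 2, 2, 2, 1, 2]⟩],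
  .edge ⟨3, [0, 3, 3, 0, 2, 0, 3, 3, 0, 2, 2, 2, 0, 3, 0, 3, 1, 3, 3, 5], 7, [0, 2, 0, 3, 0, 2, 2, 0, 3, 0, 2, 2, 2, 0, 2, 0, 3, 0, 3, 0, 2, 1, 3]⟩ 4 41 [2, 2, 2, 0, 2, 0, 2, 4, 1, 3, 1, 3, 1, 3, 3, 3, 4, 2, 2, 2, 0, 2, 0, 2, 1, 3, 1, 3, 1, 3, 3, 3, 4, 2, 2, 2, 0, 2, 0, 2, 1, 3, 1, 3, 1, 3, 3, 3] [⟨14, true, [], [0, 2, 2, 0, 2, 0]⟩, ⟨10, true, [13, 17, 17, 12], [3, 1]⟩, ⟨48, false, [12, 12, 10, 16], [0, 3, 0, 3, 3, 3, 3, 0, 3, 0, 3]⟩],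
  .edge ⟨7, [3, 0, 3, 3, 0, 2, 2, 0, 2, 2, 0, 3, 3, 0, 3, 0, 3, 0, 3, 3, 1, 3], 7, [3, 3, 0, 2, 2, 2, 0, 3, 0, 3, 0, 2, 0, 2, 2]⟩ 4 25 [2, 2, 2, 0, 2, 0, 2, 1, 3, 1, 3, 1, 3, 3, 3, 4, 2, 2, 2, 0, 2, 0, 2, 4, 1, 3, 1, 3, 1, 3, 3, 3, 4, 2, 2, 2, 0, 2, 0, 2, 1, 3, 1, 3, 1, 3, 3, 3] [⟨53, true, [], [0, 2, 2, 2, 2, 1, 3]⟩, ⟨14, true, [18, 21], [1]⟩, ⟨48, false, [16, 16, 12, 10], [0, 2, 0, 2, 2, 0, 2, 0, 2, 2]⟩],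
  .edge ⟨7, [0, 2, 2, 0, 3, 3, 0, 2, 0, 2, 2, 0, 3, 0, 3, 3, 0, 3, 1, 2, 2, 2], 7, [2, 0, 2, 0, 3, 3, 0, 3, 0, 3, 0, 2, 2, 0, 2, 0, 2, 0, 3, 0, 3, 3]⟩ 4 41 [2, 2, 2, 0, 2, 0, 2, 4, 1, 3, 1, 3, 1, 3, 3, 3, 4, 2, 2, 2, 0, 2, 0, 2, 1, 3, 1, 3, 1, 3, 3, 3, 4, 2, 2, 2, 0, 2, 0, 2, 1, 3, 1, 3, 1, 3, 3, 3] [⟨48, true, [], [0, 2, 2, 2, 0, 2, 1, 2]⟩, ⟨14, false, [12, 12, 16, 16], [2, 0, 2, 2, 1]⟩, ⟨53, false, [21, 23, 18, 21], [2, 2, 2, 0, 2, 1, 3, 3]⟩],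
  .edge ⟨7, [0, 2, 0, 3, 0, 2, 2, 0, 2, 0, 3, 0, 2, 2, 0, 2, 2, 0, 2, 2, 2, 1], 7, [3, 0, 2, 2, 0, 3, 0, 2, 2, 0, 2, 0, 2, 2, 0, 3, 3, 1]⟩ 4 25 [2, 2, 2, 0, 2, 0, 2, 1, 3, 1, 3, 1, 3, 3, 3, 4, 2, 2, 2, 0, 2, 0, 2, 4, 1, 3, 1, 3, 1, 3, 3, 3, 4, 2, 2, 2, 0, 2, 0, 2, 1, 3, 1, 3, 1, 3, 3, 3] [⟨55, false, [], [2, 0, 2, 2, 2, 1]⟩, ⟨48, true, [46], [0, 2, 2, 2, 2, 1, 3, 3, 3]⟩, ⟨48, false, [13, 13, 14], [0, 2, 0, 2, 2, 0, 2, 2, 0, 2]⟩],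
  .edge ⟨4, [3, 0, 3, 0, 2, 0, 2, 0, 2, 0, 3, 3, 0, 3, 0, 3, 3, 1, 2, 2, 6], 7, [2, 2, 2, 0, 3, 0, 3, 3, 0, 3, 0, 3, 0, 2, 0, 2, 2, 2, 1, 3, 3]⟩ 4 25 [2, 2, 2, 0, 2, 0, 2, 1, 3, 1, 3, 1, 3, 3, 3, 4, 2, 2, 2, 0, 2, 0, 2, 4, 1, 3, 1, 3, 1, 3, 3, 3, 4, 2, 2, 2, 0, 2, 0, 2, 1, 3, 1, 3, 1, 3, 3, 3] [⟨30, false, [], [2, 2]⟩, ⟨23, true, [28, 31], [0, 2, 0, 3, 3]⟩, ⟨48, false, [10, 14, 10, 16, 12], [3, 0, 2, 2, 0, 2, 2, 2, 2, 0]⟩],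
  .edge ⟨7, [3, 0, 3, 3, 0, 3, 0, 3, 3, 0, 2, 0, 2, 0, 3, 1, 2], 7, [0, 2, 0, 3, 0, 2, 2, 0, 3, 0, 2, 2, 2, 0, 3, 3, 0, 3, 0, 3, 1, 3]⟩ 4 41 [2, 2, 2, 0, 2, 0, 2, 4, 1, 3, 1, 3, 1, 3, 3, 3, 4, 2, 2, 2, 0, 2, 0, 2, 1, 3, 1, 3, 1, 3, 3, 3, 4, 2, 2, 2, 0, 2, 0, 2, 1, 3, 1, 3, 1, 3, 3, 3] [⟨48, true, [], [0, 2, 2, 2, 0, 2, 0, 2, 0]⟩, ⟨23, false, [10, 16, 14, 12, 12], [0, 2, 2, 0, 2, 1]⟩, ⟨57, false, [24, 26, 31, 29], [2, 0, 3, 3, 3, 1, 2]⟩],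
  .edge ⟨7, [3, 0, 3, 3, 0, 2, 0, 2, 0, 3, 0, 2, 2, 0, 3, 3, 1, 3, 3], 7, [3, 3, 0, 3, 0, 2, 0, 2, 0, 2, 2, 0, 2, 0, 3, 3, 1, 3, 3]⟩ 4 25 [2, 2, 2, 0, 2, 0, 2, 1, 3, 1, 3, 1, 3, 3, 3, 4, 2, 2, 2, 0, 2, 0, 2, 4, 1, 3, 1, 3, 1, 3, 3, 3, 4, 2, 2, 2, 0, 2, 0, 2, 1, 3, 1, 3, 1, 3, 3, 3] [⟨57, true, [], [0, 2, 2, 2, 2, 2, 2]⟩, ⟨23, true, [29], [2, 0, 3, 3, 0, 3, 1]⟩, ⟨48, false, [14, 17, 10], [2, 2, 2, 2, 2, 0, 3, 3]⟩],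
  .edge ⟨7, [2, 0, 2, 0, 2, 2, 2, 0, 3, 0, 2, 2, 0, 2, 2, 2, 0, 2, 0, 3], 7, [0, 3, 3, 0, 3, 3, 0, 3, 3, 0, 2, 0, 2, 2, 0, 3, 0, 3, 3, 1]⟩ 4 25 [2, 2, 2, 0, 2, 0, 2, 1, 3, 1, 3, 1, 3, 3, 3, 4, 2, 2, 2, 0, 2, 0, 2, 4, 1, 3, 1, 3, 1, 3, 3, 3, 4, 2, 2, 2, 0, 2, 0, 2, 1, 3, 1, 3, 1, 3, 3, 3] [⟨58, true, [], [1]⟩, ⟨48, true, [48, 46, 48, 46], [0, 3, 3, 3, 3, 1, 2, 2, 2, 2]⟩, ⟨48, false, [10, 16, 16, 13, 13], [2, 0, 3, 3, 1, 3, 3, 3, 3]⟩],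
  .edge ⟨7, [2, 2, 2, 0, 2, 2, 0, 3, 3, 0, 2, 2, 0, 2, 0, 2, 2, 1, 3, 3, 6], 3, [2, 2, 0, 2, 0, 3, 0, 3, 0, 3, 3, 0, 2, 0, 2, 0, 2, 0, 3, 0, 3, 1, 2, 2, 5]⟩ 4 9 [2, 2, 2, 0, 2, 0, 2, 1, 3, 1, 3, 1, 3, 3, 3, 4, 2, 2, 2, 0, 2, 0, 2, 1, 3, 1, 3, 1, 3, 3, 3, 4, 2, 2, 2, 0, 2, 0, 2, 4, 1, 3, 1, 3, 1, 3, 3, 3] [⟨50, true, [], [2, 0, 2, 0, 3, 3, 3]⟩, ⟨35, true, [45], [0, 2, 2, 2, 1, 2, 2, 2]⟩, ⟨43, false, [42, 45], [2, 0, 3, 3, 0, 3, 0, 2]⟩],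
  .edge ⟨7, [0, 3, 3, 0, 2, 0, 2, 0, 2, 2, 2, 0, 3, 0, 3, 3, 5, 0, 2, 2], 7, [3, 0, 2, 0, 3, 3, 0, 2, 1, 2, 5]⟩ 4 25 [2, 2, 2, 0, 2, 0, 2, 1, 3, 1, 3, 1, 3, 3, 3, 4, 2, 2, 2, 0, 2, 0, 2, 4, 1, 3, 1, 3, 1, 3, 3, 3, 4, 2, 2, 2, 0, 2, 0, 2, 1, 3, 1, 3, 1, 3, 3, 3] [⟨61, false, [], [2, 0, 2, 0, 2, 0, 3, 3]⟩, ⟨15, false, [21, 22, 18], [2, 0, 3, 3, 3]⟩, ⟨61, true, [23, 18, 21], [3, 3, 3, 3, 0, 3, 0, 3, 3]⟩],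
  .stab 7 [2, 0, 2, 2, 0, 2, 0, 3, 5, 1, 3] [0, 2, 0, 2, 0, 3, 0, 3, 0, 2, 2, 0, 2, 2, 0, 3, 3, 0, 2, 6] 3 24 [4, 2, 2, 2, 0, 2, 0, 2, 0, 3, 1, 3, 1, 3, 3, 3, 4, 2, 2, 2, 0, 2, 0, 2, 0, 4, 3, 1, 3, 1, 3, 3, 3, 4, 2, 2, 2, 0, 2, 0, 2, 0, 3, 1, 3, 1, 3, 3, 3] [⟨61, false, [], [3, 3, 3, 3, 0, 3, 1, 2]⟩, ⟨21, true, [18, 23, 21], [0, 2, 0]⟩, ⟨15, true, [22, 22, 18], [0, 2, 2, 0, 2, 0]⟩, ⟨61, true, [20, 18, 23, 21], [0, 3, 0, 2, 2, 2, 2]⟩],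
  .edge ⟨7, [0, 3, 0, 2, 2, 0, 2, 2, 0, 3, 3, 0, 2, 2, 0, 3, 5], 7, [0, 3, 3, 0, 3, 0, 2, 2, 0, 3, 0, 3, 3, 0, 3, 0, 3, 3, 1, 2, 5]⟩ 4 41 [2, 2, 2, 0, 2, 0, 2, 4, 1, 3, 1, 3, 1, 3, 3, 3, 4, 2, 2, 2, 0, 2, 0, 2, 1, 3, 1, 3, 1, 3, 3, 3, 4, 2, 2, 2, 0, 2, 0, 2, 1, 3, 1, 3, 1, 3, 3, 3] [⟨61, false, [], [0, 2, 0, 3, 3, 3, 0, 2]⟩, ⟨43, true, [21, 18], [0, 3, 0, 2]⟩, ⟨50, false, [], [0, 2, 2, 2, 2, 0, 2, 2, 2, 0, 3]⟩],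
  .edge ⟨7, [0, 2, 0, 3, 0, 3, 0, 3, 3, 0, 2, 2, 0, 3, 3, 0, 3, 3, 0, 2, 5, 1, 2], 6, [3, 0, 2, 2, 0, 3, 0, 3, 3, 0, 3, 0, 2, 2, 0, 2, 0, 2, 2, 0, 5]⟩ 4 41 [2, 2, 2, 0, 2, 0, 2, 4, 1, 3, 1, 3, 1, 3, 3, 3, 4, 2, 2, 2, 0, 2, 0, 2, 1, 3, 1, 3, 1, 3, 3, 3, 4, 2, 2, 2, 0, 2, 0, 2, 1, 3, 1, 3, 1, 3, 3, 3] [⟨49, true, [], [0, 2, 2, 2, 2, 2, 1, 3, 3, 3, 3]⟩, ⟨34, false, [39, 32, 39, 34, 39], [2, 2, 2, 2, 0, 2, 2, 2, 0, 2]⟩, ⟨47, false, [42, 40], [2, 0, 2, 2, 2, 2, 0, 2, 1]⟩],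
  .edge ⟨6, [3, 0, 2, 0, 3, 3, 0, 2, 0, 3, 3, 5, 1, 3], 7, [2, 2, 2, 0, 2, 0, 3, 0, 3, 0, 3, 0, 2, 0, 3, 3, 6, 0, 3, 3]⟩ 4 41 [2, 2, 2, 0, 2, 0, 2, 4, 1, 3, 1, 3, 1, 3, 3, 3, 4, 2, 2, 2, 0, 2, 0, 2, 1, 3, 1, 3, 1, 3, 3, 3, 4, 2, 2, 2, 0, 2, 0, 2, 1, 3, 1, 3, 1, 3, 3, 3] [⟨34, true, [], [2, 2, 2, 2, 2]⟩, ⟨34, false, [36, 39, 39], [2, 2, 0, 3, 3, 3, 3, 3, 1, 2]⟩, ⟨64, true, [40, 42, 40], [0, 2, 0, 3, 3, 3, 3, 3, 0]⟩],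
  .edge ⟨7, [2, 0, 2, 0, 3, 0, 3, 3, 0, 2, 0, 2, 2, 0, 3, 3, 0, 3, 0, 2, 5], 7, [2, 0, 3, 0, 3, 3, 0, 2, 0, 2, 0, 3, 0, 3, 6, 0]⟩ 4 25 [2, 2, 2, 0, 2, 0, 2, 1, 3, 1, 3, 1, 3, 3, 3, 4, 2, 2, 2, 0, 2, 0, 2, 4, 1, 3, 1, 3, 1, 3, 3, 3, 4, 2, 2, 2, 0, 2, 0, 2, 1, 3, 1, 3, 1, 3, 3, 3] [⟨65, true, [], [2, 0, 2, 2, 0, 2, 2, 2]⟩, ⟨34, true, [42], [2, 2, 0, 2, 1, 2, 2]⟩, ⟨49, false, [34, 39, 36, 39, 39], [3, 3, 3, 3, 3, 0]⟩],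
  .edge ⟨6, [2, 0, 3, 0, 3, 0, 3, 3, 0, 3, 0, 2, 2, 0, 2, 0, 3, 1, 6], 7, [0, 3, 0, 3, 3, 0, 2, 2, 0, 3, 3, 0, 3, 0, 3, 0, 3, 3, 0, 2, 2, 2, 0, 2, 5, 1]⟩ 4 41 [2, 2, 2, 0, 2, 0, 2, 4, 1, 3, 1, 3, 1, 3, 3, 3, 4, 2, 2, 2, 0, 2, 0, 2, 1, 3, 1, 3, 1, 3, 3, 3, 4, 2, 2, 2, 0, 2, 0, 2, 1, 3, 1, 3, 1, 3, 3, 3] [⟨34, true, [], [2, 2, 2, 2, 2, 1]⟩, ⟨34, false, [32, 38, 38, 37], [0, 3, 3, 3, 0, 3, 3, 3, 1]⟩, ⟨51, false, [44, 40], [2, 2, 0, 3, 3, 3, 3, 3, 1, 2]⟩],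
  .edge ⟨7, [0, 2, 0, 2, 0, 3, 0, 2, 2, 0, 3, 3, 0, 3, 0, 3, 0, 2, 0, 2, 2, 2, 0, 2, 1, 2, 5], 7, [2, 2, 0, 2, 0, 2, 0, 3, 0, 2, 2, 0, 3, 3, 0, 3, 3, 0, 2, 1, 2, 2, 6]⟩ 4 25 [2, 2, 2, 0, 2, 0, 2, 1, 3, 1, 3, 1, 3, 3, 3, 4, 2, 2, 2, 0, 2, 0, 2, 4, 1, 3, 1, 3, 1, 3, 3, 3, 4, 2, 2, 2, 0, 2, 0, 2, 1, 3, 1, 3, 1, 3, 3, 3] [⟨67, true, [], [0, 2, 2, 2, 0, 2, 0, 3]⟩, ⟨34, true, [42, 40], [0, 3, 0, 2, 2, 2, 1, 2]⟩, ⟨49, false, [32, 39, 37, 38, 38], [0, 3, 3, 3, 3, 0, 3, 0, 2]⟩],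
  .node ⟨3, [2, 5], 8, []⟩,
  .stab 8 [0, 3, 0, 3, 0, 2, 0, 2, 0, 3, 0, 3, 0, 2, 0, 2] [0, 2, 0, 3, 3, 0, 2, 2, 2, 0, 3, 0, 3] 0 0 [4, 4] [⟨69, true, [], [1, 3, 3]⟩, ⟨69, false, [22, 20, 22], [3, 3, 0]⟩],
  .edge ⟨6, [0, 3, 0, 2, 2, 0, 2, 2, 0, 3, 0, 3, 0, 2, 0, 3, 3, 0, 3, 3, 0, 5], 8, [2, 0, 2, 0, 2, 0, 2, 2, 0, 2, 2, 0, 3, 0, 2, 2, 1, 3, 3, 6]⟩ 2 0 [6, 4, 6, 4, 6] [⟨37, false, [], [0, 3, 0, 3, 0, 2, 2, 2, 1, 3, 3, 3, 3, 3]⟩, ⟨69, false, [18, 21, 23, 18], [2, 2, 0, 2, 2, 0, 2, 2, 1, 2, 2, 2, 2]⟩],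
  .edge ⟨6, [0, 3, 0, 2, 2, 0, 2, 2, 0, 3, 0, 3, 0, 2, 0, 3, 3, 0, 3, 3, 5], 8, [0, 0, 6]⟩ 2 0 [6, 4, 6, 4, 6] [⟨37, false, [], [0, 2, 0, 2, 0, 2, 2, 2, 2, 2, 2, 0, 2, 2, 2]⟩, ⟨69, false, [18, 21, 21], [0, 0]⟩],
  .edge ⟨8, [0, 5], 8, [2, 0, 2, 0, 2, 0, 2, 2, 0, 2, 2, 0, 3, 0, 2, 2, 0, 3, 3, 6]⟩ 2 0 [6, 4, 6, 4, 6] [⟨69, true, [], [0]⟩, ⟨69, false, [18, 22, 21], [2, 2, 0, 2, 2, 0, 2, 2, 0, 2, 2, 2, 2]⟩],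
  .edge ⟨6, [3, 0, 2, 0, 2, 2, 0, 2, 0, 3, 3, 0, 3, 0, 2, 2, 2, 0, 3, 3, 5, 0, 2], 8, [2, 2, 0, 3, 0, 2, 2, 0, 3, 3, 0, 3, 0, 2, 2, 0, 3, 0, 3, 0]⟩ 4 25 [2, 2, 2, 0, 2, 0, 2, 1, 3, 1, 3, 1, 3, 3, 3, 4, 2, 2, 2, 0, 2, 0, 2, 4, 1, 3, 1, 3, 1, 3, 3, 3, 4, 2, 2, 2, 0, 2, 0, 2, 1, 3, 1, 3, 1, 3, 3, 3] [⟨44, true, [], [2, 0, 2, 2, 1]⟩, ⟨43, false, [40, 45], [2, 0, 2, 2, 2, 1, 3]⟩, ⟨69, false, [18, 22, 18, 22], [0, 3, 0, 2, 2, 2, 2, 1, 2, 2, 2]⟩],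
  .stab 8 [2, 0, 2, 0, 3, 0, 3, 3, 0, 2, 0, 3, 3, 0, 2, 2, 2, 0, 3, 5, 1, 2, 2] [3, 0, 3, 3, 0, 2, 0, 2, 2, 0, 2, 0, 3, 3, 0, 3, 0, 2, 2, 1, 2] 3 40 [4, 2, 2, 2, 0, 2, 0, 2, 0, 4, 3, 1, 3, 1, 3, 3, 3, 4, 2, 2, 2, 0, 2, 0, 2, 0, 3, 1, 3, 1, 3, 3, 3, 4, 2, 2, 2, 0, 2, 0, 2, 0, 3, 1, 3, 1, 3, 3, 3] [⟨69, true, [], [0, 2, 0, 2, 0, 2, 0, 3]⟩, ⟨61, true, [20, 20, 18], [0, 3, 1, 2, 2, 2, 2]⟩, ⟨50, true, [51], [2, 0, 2, 2, 0, 3, 3, 3, 0]⟩, ⟨70, false, [40, 44, 44], [0, 2, 0, 2, 2, 0, 2, 1]⟩],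
  .edge ⟨7, [0, 2, 0, 3, 3, 0, 3, 0, 3, 0, 3, 3, 0, 2, 2, 0, 3, 3, 0, 3, 3, 6, 0, 3], 8, [2, 2, 0, 3, 0, 3, 3, 0, 2, 0, 3, 3, 0, 2, 0, 2, 2, 0, 2, 2, 5, 0, 2, 2]⟩ 4 41 [2, 2, 2, 0, 2, 0, 2, 4, 1, 3, 1, 3, 1, 3, 3, 3, 4, 2, 2, 2, 0, 2, 0, 2, 1, 3, 1, 3, 1, 3, 3, 3, 4, 2, 2, 2, 0, 2, 0, 2, 1, 3, 1, 3, 1, 3, 3, 3] [⟨61, false, [], [2, 0, 2, 2, 0, 3, 3, 3, 3]⟩, ⟨43, true, [18, 22, 20, 22], [0, 3, 0, 2, 2, 2, 2]⟩, ⟨70, false, [42, 40], [0, 2, 2, 2, 0, 3, 3, 3, 3, 1, 2, 2]⟩]]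

/-- events, part 2 -/
def evs2 : List Evt := [
  .edge ⟨8, [0, 3, 0, 3, 0, 3, 0, 2, 0, 2, 0, 3, 0, 3, 0, 3, 3, 0, 2, 2, 2, 6, 0], 8, [3, 0, 3, 3, 0, 2, 0, 2, 0, 3, 0, 2, 2, 0, 2, 2, 0, 3, 0, 2, 2, 2]⟩ 4 25 [2, 2, 2, 0, 2, 0, 2, 1, 3, 1, 3, 1, 3, 3, 3, 4, 2, 2, 2, 0, 2, 0, 2, 4, 1, 3, 1, 3, 1, 3, 3, 3, 4, 2, 2, 2, 0, 2, 0, 2, 1, 3, 1, 3, 1, 3, 3, 3] [⟨74, true, [], [0, 2, 2, 2, 0, 2, 0, 2, 2]⟩, ⟨61, false, [50, 50, 48], [2, 0, 2, 0, 2, 0, 3, 3]⟩, ⟨69, false, [21, 21, 18, 21], [3, 3, 3, 1, 3, 3, 3, 3, 3]⟩],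
  .edge ⟨8, [0, 3, 0, 2, 2, 2, 0, 2, 0, 2, 0, 2, 2, 0, 2, 0, 3, 0, 2, 2], 8, [0, 3, 3, 0, 3, 0, 3, 3, 0, 3, 0, 2, 0, 2, 0, 3, 0, 2, 2, 0, 3, 6, 0, 3]⟩ 4 41 [2, 2, 2, 0, 2, 0, 2, 4, 1, 3, 1, 3, 1, 3, 3, 3, 4, 2, 2, 2, 0, 2, 0, 2, 1, 3, 1, 3, 1, 3, 3, 3, 4, 2, 2, 2, 0, 2, 0, 2, 1, 3, 1, 3, 1, 3, 3, 3] [⟨69, true, [], [2, 2, 2, 0, 2, 2, 0, 2, 0, 3]⟩, ⟨61, true, [20, 18, 20, 18], [3, 0, 3, 3, 0, 2, 2]⟩, ⟨74, false, [50], [0, 3, 3, 0, 3, 0, 3, 3, 3, 1, 3]⟩],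
  .edge ⟨8, [2, 0, 2, 0, 2, 0, 3, 0, 2, 2, 0, 2, 0, 3, 3, 0, 2, 5, 1], 6, [0, 2, 2, 0, 2, 0, 2, 0, 3, 3, 0, 3, 0, 3, 0, 2, 0, 2, 0, 5]⟩ 4 25 [2, 2, 2, 0, 2, 0, 2, 1, 3, 1, 3, 1, 3, 3, 3, 4, 2, 2, 2, 0, 2, 0, 2, 4, 1, 3, 1, 3, 1, 3, 3, 3, 4, 2, 2, 2, 0, 2, 0, 2, 1, 3, 1, 3, 1, 3, 3, 3] [⟨76, true, [], [1]⟩, ⟨69, true, [52], [0, 2, 0, 2, 0, 2, 2, 2, 2, 2, 0, 2, 2, 0, 2]⟩, ⟨43, true, [20, 18, 21, 21], [0, 3, 0]⟩],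
  .edge ⟨8, [2, 0, 2, 0, 2, 2, 0, 3, 3, 0, 3, 0, 3, 0, 2, 2, 0, 2, 0, 3, 1, 5], 8, [0, 3, 0, 2, 2, 0, 2, 0, 3, 3, 0, 3, 0, 3, 3, 0, 3, 0]⟩ 4 25 [2, 2, 2, 0, 2, 0, 2, 1, 3, 1, 3, 1, 3, 3, 3, 4, 2, 2, 2, 0, 2, 0, 2, 4, 1, 3, 1, 3, 1, 3, 3, 3, 4, 2, 2, 2, 0, 2, 0, 2, 1, 3, 1, 3, 1, 3, 3, 3] [⟨76, true, [], [0, 2, 0, 2, 2, 2, 0, 2, 2, 2, 1, 3]⟩, ⟨69, true, [], [0, 3, 0, 2, 2, 2, 2, 2, 1, 3]⟩, ⟨69, false, [21, 18, 21, 18], [0, 2, 2, 1, 2, 2, 2]⟩],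
  .edge ⟨8, [2, 0, 2, 2, 0, 3, 3, 0, 3, 0, 3, 0, 2, 2, 2, 0, 3, 3, 0, 2, 5, 1, 3, 3], 8, [3, 0, 3, 0, 3, 0, 2, 0, 2, 0, 3, 0, 3, 0, 3, 3, 0, 2, 2, 2]⟩ 4 25 [2, 2, 2, 0, 2, 0, 2, 1, 3, 1, 3, 1, 3, 3, 3, 4, 2, 2, 2, 0, 2, 0, 2, 4, 1, 3, 1, 3, 1, 3, 3, 3, 4, 2, 2, 2, 0, 2, 0, 2, 1, 3, 1, 3, 1, 3, 3, 3] [⟨74, true, [], [3, 3, 0, 2, 2, 2, 1, 2, 2]⟩, ⟨61, false, [48], [2, 2, 2, 0, 2, 2, 0, 2, 2, 2]⟩, ⟨69, false, [21, 23, 18, 22], [0, 2, 0, 3, 3, 3, 3, 3, 0]⟩],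
  .edge ⟨8, [2, 0, 3, 3, 0, 2, 0, 2, 2, 0, 3, 3, 0, 2, 0, 2, 2, 2, 1], 8, [3, 3, 0, 3, 0, 2, 0, 2, 2, 0, 2, 0, 3, 3, 0, 3, 0, 3, 3, 0, 2]⟩ 4 25 [2, 2, 2, 0, 2, 0, 2, 1, 3, 1, 3, 1, 3, 3, 3, 4, 2, 2, 2, 0, 2, 0, 2, 4, 1, 3, 1, 3, 1, 3, 3, 3, 4, 2, 2, 2, 0, 2, 0, 2, 1, 3, 1, 3, 1, 3, 3, 3] [⟨76, false, [], [0, 3, 0, 3, 3, 0, 3, 1, 3, 3]⟩, ⟨69, true, [54], [0, 2, 0, 2, 2, 0, 2, 2, 0, 2, 2, 1, 3, 3]⟩, ⟨69, false, [18, 20, 18, 20], [0, 2, 2, 0, 2, 0, 3, 3, 3, 3, 0, 3, 3]⟩],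
  .edge ⟨8, [2, 0, 3, 3, 0, 2, 2, 0, 3, 3, 0, 3, 0, 3, 0, 3, 3, 0, 2, 2], 8, [3, 3, 0, 2, 0, 3, 3, 0, 2, 0, 2, 0, 2, 2, 0, 3, 3, 0, 2, 1, 2, 2]⟩ 4 41 [2, 2, 2, 0, 2, 0, 2, 4, 1, 3, 1, 3, 1, 3, 3, 3, 4, 2, 2, 2, 0, 2, 0, 2, 1, 3, 1, 3, 1, 3, 3, 3, 4, 2, 2, 2, 0, 2, 0, 2, 1, 3, 1, 3, 1, 3, 3, 3] [⟨69, true, [], [0, 2, 2, 2, 0, 2, 2, 2, 2, 0, 2, 1, 2]⟩, ⟨43, true, [22, 18, 23, 20], [0, 3, 3, 3, 0, 2, 2, 2, 0, 3, 3]⟩, ⟨73, false, [42, 44], [2, 2, 2, 2, 0, 2, 0, 2, 2, 1, 2]⟩],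
  .edge ⟨8, [3, 3, 0, 2, 0, 3, 3, 0, 2, 0, 2, 2, 0, 3, 0, 2, 2, 0, 3, 3, 1], 8, [0, 2, 0, 3, 0, 3, 0, 2, 0, 2, 0, 2, 0, 3, 0, 3, 3, 0, 3, 1]⟩ 4 25 [2, 2, 2, 0, 2, 0, 2, 1, 3, 1, 3, 1, 3, 3, 3, 4, 2, 2, 2, 0, 2, 0, 2, 4, 1, 3, 1, 3, 1, 3, 3, 3, 4, 2, 2, 2, 0, 2, 0, 2, 1, 3, 1, 3, 1, 3, 3, 3] [⟨81, true, [], [2, 2, 2, 0, 2, 2, 2, 0, 2, 1, 3]⟩, ⟨69, true, [], [0, 3, 0, 3, 3, 0, 2, 2, 2, 1]⟩, ⟨69, false, [20, 20, 18, 21], [0, 2, 2, 0, 2, 0, 2, 0, 3, 3, 3, 3, 0, 3, 3]⟩],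
  .edge ⟨6, [0, 3, 3, 0, 2, 0, 2, 0, 3, 0, 3, 3, 0, 2, 0, 2, 2, 0, 3, 3, 5], 8, [0, 2, 2, 2, 0, 2, 0, 2, 0, 3, 0, 3, 0, 3, 0, 2, 0, 2, 5, 0, 3, 3]⟩ 4 41 [2, 2, 2, 0, 2, 0, 2, 4, 1, 3, 1, 3, 1, 3, 3, 3, 4, 2, 2, 2, 0, 2, 0, 2, 1, 3, 1, 3, 1, 3, 3, 3, 4, 2, 2, 2, 0, 2, 0, 2, 1, 3, 1, 3, 1, 3, 3, 3] [⟨34, true, [], [0, 3, 3, 3, 3, 3, 1, 2]⟩, ⟨34, false, [37, 38, 38], [0, 2, 0, 2, 0, 2, 2, 2, 2, 1, 3]⟩, ⟨71, false, [44, 44, 40], [0, 2, 2, 2, 0, 2, 0, 2, 2, 2]⟩],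
  .edge ⟨8, [2, 2, 0, 2, 2, 0, 3, 0, 3, 3, 0, 3, 3, 0, 3, 0, 2, 2, 0, 2, 2, 0, 2, 2, 5], 7, [0, 3, 3, 0, 3, 0, 3, 3, 0, 3, 0, 2, 2, 0, 2, 0, 2, 2, 1, 3, 6]⟩ 4 25 [2, 2, 2, 0, 2, 0, 2, 1, 3, 1, 3, 1, 3, 3, 3, 4, 2, 2, 2, 0, 2, 0, 2, 4, 1, 3, 1, 3, 1, 3, 3, 3, 4, 2, 2, 2, 0, 2, 0, 2, 1, 3, 1, 3, 1, 3, 3, 3] [⟨83, true, [], [3, 3, 0, 3, 3, 3, 1, 3]⟩, ⟨34, true, [44, 40, 45], [0, 0]⟩, ⟨49, false, [37, 38, 38, 37, 38], [0, 3, 3]⟩],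
  .edge ⟨8, [0, 2, 0, 3, 3, 0, 3, 0, 2, 2, 0, 2, 0, 3, 0, 3, 0, 2, 0, 2, 2, 0, 3, 6], 7, [3, 0, 3, 3, 0, 3, 3, 0, 2, 0, 2, 2, 0, 3, 0, 3, 3, 0, 2, 2, 0, 3, 5]⟩ 4 25 [2, 2, 2, 0, 2, 0, 2, 1, 3, 1, 3, 1, 3, 3, 3, 4, 2, 2, 2, 0, 2, 0, 2, 4, 1, 3, 1, 3, 1, 3, 3, 3, 4, 2, 2, 2, 0, 2, 0, 2, 1, 3, 1, 3, 1, 3, 3, 3] [⟨83, true, [], [2, 0, 2, 0, 2, 2, 2, 0, 2, 0, 3, 3]⟩, ⟨34, true, [42], [0, 3, 3, 3, 3, 0, 2, 2, 2, 0]⟩, ⟨49, false, [32, 39, 37, 39, 37, 38], [0, 3, 0, 3, 3]⟩],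
  .edge ⟨8, [3, 0, 3, 0, 2, 2, 0, 2, 0, 2, 0, 3, 0, 2, 2, 0, 2, 2, 0, 3, 5], 6, [0, 3, 0, 3, 0, 3, 0, 2, 2, 0, 2, 0, 2, 0, 3, 0, 2, 2, 2, 0, 3, 0, 3, 6]⟩ 4 25 [2, 2, 2, 0, 2, 0, 2, 1, 3, 1, 3, 1, 3, 3, 3, 4, 2, 2, 2, 0, 2, 0, 2, 4, 1, 3, 1, 3, 1, 3, 3, 3, 4, 2, 2, 2, 0, 2, 0, 2, 1, 3, 1, 3, 1, 3, 3, 3] [⟨83, true, [], [3, 3, 3, 3, 0, 2, 2, 2, 2, 1, 3, 3]⟩, ⟨34, true, [44, 44, 40], [0, 2, 0, 2, 0, 3]⟩, ⟨34, false, [39, 39, 36], [3, 0, 2, 2, 2, 2, 1, 3, 3]⟩],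
  .edge ⟨8, [2, 2, 0, 2, 0, 3, 0, 3, 0, 2, 0, 2, 0, 3, 0, 2, 2, 1, 2, 2, 2, 6], 6, [3, 0, 3, 0, 2, 0, 2, 2, 0, 3, 3, 0, 2, 0, 3, 3, 6]⟩ 4 41 [2, 2, 2, 0, 2, 0, 2, 4, 1, 3, 1, 3, 1, 3, 3, 3, 4, 2, 2, 2, 0, 2, 0, 2, 1, 3, 1, 3, 1, 3, 3, 3, 4, 2, 2, 2, 0, 2, 0, 2, 1, 3, 1, 3, 1, 3, 3, 3] [⟨83, true, [], [0, 3, 3, 3, 0, 3, 3, 0, 3, 3, 3, 3, 1]⟩, ⟨47, true, [], [2, 0, 2, 0, 2, 2, 0, 2, 2, 2, 2, 2]⟩, ⟨47, false, [40, 42], [2, 0, 2, 0, 2, 2, 0, 2, 2]⟩],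
  .edge ⟨8, [0, 3, 0, 3, 3, 0, 3, 3, 0, 3, 3, 0, 2, 1, 3, 3, 5], 8, [3, 3, 0, 3, 0, 2, 2, 0, 2, 0, 2, 0, 3, 0, 2, 2, 2, 0, 3, 1, 3, 6]⟩ 4 25 [2, 2, 2, 0, 2, 0, 2, 1, 3, 1, 3, 1, 3, 3, 3, 4, 2, 2, 2, 0, 2, 0, 2, 4, 1, 3, 1, 3, 1, 3, 3, 3, 4, 2, 2, 2, 0, 2, 0, 2, 1, 3, 1, 3, 1, 3, 3, 3] [⟨87, false, [], [3, 0, 3, 3, 0]⟩, ⟨47, false, [44, 40, 45], [3, 3, 3, 3, 0, 3, 3, 0, 3, 1, 2]⟩, ⟨83, false, [42], [0, 2, 0, 2, 2, 0, 2, 2, 0, 2]⟩],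
  .edge ⟨8, [0, 2, 0, 2, 0, 3, 0, 3, 0, 3, 0, 2, 0, 3, 3, 0, 3, 5, 1], 8, [2, 2, 2, 0, 2, 0, 3, 3, 0, 3, 3, 0, 2, 0, 3, 3, 5, 1, 2, 2, 2]⟩ 4 41 [2, 2, 2, 0, 2, 0, 2, 4, 1, 3, 1, 3, 1, 3, 3, 3, 4, 2, 2, 2, 0, 2, 0, 2, 1, 3, 1, 3, 1, 3, 3, 3, 4, 2, 2, 2, 0, 2, 0, 2, 1, 3, 1, 3, 1, 3, 3, 3] [⟨71, true, [], [0, 2, 2, 2, 0, 2, 2, 2, 2]⟩, ⟨87, true, [], [0, 3, 3, 3, 3, 0, 3, 3, 0, 2]⟩, ⟨72, true, [54], [0, 2, 2, 0, 2, 0, 3, 3, 3, 3, 0, 3, 3, 3]⟩],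
  .edge ⟨8, [0, 3, 0, 2, 0, 3, 3, 0, 2, 2, 2, 0, 2, 0, 3, 3, 6, 0, 3, 3], 8, [0, 2, 2, 0, 2, 0, 3, 0, 2, 2, 0, 2, 2, 0, 3, 3, 0, 3, 0, 3, 5, 0, 2]⟩ 4 25 [2, 2, 2, 0, 2, 0, 2, 1, 3, 1, 3, 1, 3, 3, 3, 4, 2, 2, 2, 0, 2, 0, 2, 4, 1, 3, 1, 3, 1, 3, 3, 3, 4, 2, 2, 2, 0, 2, 0, 2, 1, 3, 1, 3, 1, 3, 3, 3] [⟨87, false, [], [0, 3, 3, 0, 3, 3, 0, 3, 3, 3, 3, 0]⟩, ⟨42, false, [42, 45, 42], [0, 2, 0, 2, 2, 2, 0, 2, 2, 0, 2, 1]⟩, ⟨83, false, [45, 42], [0, 2, 0, 3, 3, 3, 0, 3, 3, 0, 3, 3, 3]⟩],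
  .edge ⟨8, [2, 2, 2, 0, 3, 0, 2, 2, 0, 3, 0, 3, 3, 0, 2, 2, 2, 1, 3, 5], 8, [2, 0, 3, 3, 0, 2, 0, 2, 0, 2, 2, 0, 3, 0, 3, 0, 2, 0, 2, 2, 2, 5, 1, 3]⟩ 4 25 [2, 2, 2, 0, 2, 0, 2, 1, 3, 1, 3, 1, 3, 3, 3, 4, 2, 2, 2, 0, 2, 0, 2, 4, 1, 3, 1, 3, 1, 3, 3, 3, 4, 2, 2, 2, 0, 2, 0, 2, 1, 3, 1, 3, 1, 3, 3, 3] [⟨87, false, [], [3, 0, 3, 3, 3, 0, 3, 3, 0]⟩, ⟨42, false, [42, 45, 42], [1]⟩, ⟨87, true, [44, 40], [2, 0, 2, 2, 2, 2, 2, 2, 0, 3, 3, 3, 0, 2]⟩],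
  .edge ⟨6, [0, 3, 3, 0, 3, 6], 8, [3, 3, 0, 2, 2, 0, 3, 0, 2, 2, 0, 3, 0, 3, 0, 3, 0, 2, 1, 2, 6]⟩ 4 0 [1, 3, 1, 3, 1, 3, 3, 3, 4, 2, 2, 2, 0, 2, 0, 2, 1, 3, 1, 3, 1, 3, 3, 3, 4, 2, 2, 2, 0, 2, 0, 2, 1, 3, 1, 3, 1, 3, 3, 3, 4, 2, 2, 2, 0, 2, 0, 2] [⟨42, true, [42, 44], [2, 2, 0, 2, 1, 3, 3, 3, 3]⟩, ⟨47, false, [44, 40], [0, 2, 0, 3, 3, 0, 3, 3, 3, 3, 3, 1, 2, 2]⟩, ⟨83, false, [44, 44], [2, 0, 2, 2, 0, 3, 3, 3, 1, 2, 2, 2, 2]⟩],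
  .edge ⟨8, [3, 0, 2, 0, 2, 2, 0, 2, 0, 2, 0, 3, 0, 3, 0, 2, 0, 2, 2, 0, 2, 1, 2, 2, 5], 8, [3, 3, 0, 2, 2, 2, 0, 2, 0, 3, 0, 3, 0, 2, 0, 2, 0, 3, 0, 5]⟩ 4 41 [2, 2, 2, 0, 2, 0, 2, 4, 1, 3, 1, 3, 1, 3, 3, 3, 4, 2, 2, 2, 0, 2, 0, 2, 1, 3, 1, 3, 1, 3, 3, 3, 4, 2, 2, 2, 0, 2, 0, 2, 1, 3, 1, 3, 1, 3, 3, 3] [⟨92, true, [], [2, 2, 2, 2, 2, 2, 0, 3, 3, 3, 0, 3]⟩, ⟨47, true, [44, 40, 45], [3, 3, 3, 0, 3, 1, 2, 2, 2, 2, 2]⟩, ⟨83, false, [40], [0, 3, 3, 3, 0, 3, 3, 0, 3, 3, 3, 1, 3, 3]⟩],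
  .edge ⟨8, [3, 0, 2, 2, 0, 2, 2, 0, 3, 0, 3, 0, 2, 0, 2, 2, 0, 2, 0, 2, 5, 0], 8, [0, 2, 0, 3, 3, 0, 2, 0, 2, 2, 0, 2, 2, 0, 2, 0, 3, 3, 0, 2, 5]⟩ 4 41 [2, 2, 2, 0, 2, 0, 2, 4, 1, 3, 1, 3, 1, 3, 3, 3, 4, 2, 2, 2, 0, 2, 0, 2, 1, 3, 1, 3, 1, 3, 3, 3, 4, 2, 2, 2, 0, 2, 0, 2, 1, 3, 1, 3, 1, 3, 3, 3] [⟨87, false, [], [3, 3, 0, 3, 3, 3, 0, 3, 3, 0, 3, 3, 3]⟩, ⟨87, true, [42, 40], [0, 2, 0, 2, 2, 2, 2, 0, 2, 2, 0, 3, 3, 3, 1, 3]⟩, ⟨88, true, [], [0, 2, 0, 2, 2, 0, 2, 2, 1, 3, 3]⟩],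
  .edge ⟨8, [3, 0, 3, 0, 2, 2, 0, 3, 0, 2, 2, 2, 0, 3, 0, 3, 0, 2, 0, 2, 5, 1, 3], 7, [2, 0, 3, 0, 2, 2, 2, 0, 2, 0, 3, 0, 3, 0, 3, 3, 0, 2, 2, 2, 6]⟩ 4 25 [2, 2, 2, 0, 2, 0, 2, 1, 3, 1, 3, 1, 3, 3, 3, 4, 2, 2, 2, 0, 2, 0, 2, 4, 1, 3, 1, 3, 1, 3, 3, 3, 4, 2, 2, 2, 0, 2, 0, 2, 1, 3, 1, 3, 1, 3, 3, 3] [⟨71, true, [], [0, 3, 3, 3, 0, 3, 0, 2, 2, 2, 1, 3]⟩, ⟨47, false, [40, 42], [3, 0, 2, 2, 0, 2, 2, 2, 2, 0]⟩, ⟨51, false, [44, 40], [0, 3, 3, 3, 3, 3, 0]⟩],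
  .edge ⟨8, [0, 2, 0, 2, 2, 0, 2, 0, 2, 0, 3, 0, 3, 0, 2, 2, 0, 3, 5, 0], 8, [0, 2, 2, 0, 2, 0, 3, 0, 3, 0, 3, 3, 0, 2, 2, 0, 3, 1, 3, 6]⟩ 4 25 [2, 2, 2, 0, 2, 0, 2, 1, 3, 1, 3, 1, 3, 3, 3, 4, 2, 2, 2, 0, 2, 0, 2, 4, 1, 3, 1, 3, 1, 3, 3, 3, 4, 2, 2, 2, 0, 2, 0, 2, 1, 3, 1, 3, 1, 3, 3, 3] [⟨89, false, [], [0, 2, 2, 2, 0, 2, 0, 2, 0, 3, 3, 3, 1]⟩, ⟨92, true, [52, 54], [0, 3, 3, 0, 2, 2, 2, 2, 0, 2, 2, 0, 3]⟩, ⟨83, false, [42, 40], [0, 2, 2, 0, 2, 2, 0, 3, 3, 3, 0, 3, 3, 3]⟩],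
  .edge ⟨7, [0, 2, 0, 2, 2, 0, 2, 0, 2, 0, 3, 3, 0, 2, 0, 2, 2, 0, 2, 1, 2, 2, 2, 6], 8, [0, 2, 0, 3, 0, 3, 0, 2, 0, 2, 0, 3, 0, 3, 0, 3, 5, 1]⟩ 4 41 [2, 2, 2, 0, 2, 0, 2, 4, 1, 3, 1, 3, 1, 3, 3, 3, 4, 2, 2, 2, 0, 2, 0, 2, 1, 3, 1, 3, 1, 3, 3, 3, 4, 2, 2, 2, 0, 2, 0, 2, 1, 3, 1, 3, 1, 3, 3, 3] [⟨51, true, [], [2, 2, 0, 3, 3, 3]⟩, ⟨47, true, [42, 45], [0, 3, 0, 2, 2, 2, 2, 1, 3]⟩, ⟨92, false, [44, 44], [0, 3, 0, 3, 1, 3, 3, 3]⟩],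
  .edge ⟨8, [0, 3, 0, 2, 2, 0, 2, 2, 0, 3, 3, 0, 2, 2, 0, 3, 3, 0, 3, 3, 0, 3, 5, 0, 2], 8, [3, 0, 2, 2, 0, 3, 3, 0, 3, 0, 2, 0, 2, 0, 3, 0, 2, 2, 2, 0, 5]⟩ 4 25 [2, 2, 2, 0, 2, 0, 2, 1, 3, 1, 3, 1, 3, 3, 3, 4, 2, 2, 2, 0, 2, 0, 2, 4, 1, 3, 1, 3, 1, 3, 3, 3, 4, 2, 2, 2, 0, 2, 0, 2, 1, 3, 1, 3, 1, 3, 3, 3] [⟨87, false, [], [2, 0, 2, 2, 2, 0, 2, 2, 2, 0, 3, 3]⟩, ⟨47, true, [44, 40, 45], [2, 2, 0, 2, 2, 0, 2, 2, 2, 2, 2, 0]⟩, ⟨92, false, [40, 44, 44], [0, 3, 0, 2, 2, 2, 0, 3, 3, 3, 1, 3, 3]⟩],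
  .edge ⟨8, [0, 3, 0, 3, 0, 2, 2, 0, 3, 0, 3, 3, 0, 2, 0, 2, 2, 0, 3, 3, 5, 1], 8, [0, 2, 2, 0, 3, 0, 2, 2, 2, 0, 3, 3, 0, 2, 1, 2, 2, 2, 5]⟩ 4 41 [2, 2, 2, 0, 2, 0, 2, 4, 1, 3, 1, 3, 1, 3, 3, 3, 4, 2, 2, 2, 0, 2, 0, 2, 1, 3, 1, 3, 1, 3, 3, 3, 4, 2, 2, 2, 0, 2, 0, 2, 1, 3, 1, 3, 1, 3, 3, 3] [⟨86, false, [], [3, 0, 3, 3, 3, 0, 3, 0, 2, 2, 2, 1, 3]⟩, ⟨42, true, [42, 45, 42], [2, 0, 2, 2, 0, 2, 2, 2, 2, 1, 2, 2]⟩, ⟨92, false, [42, 45], [2, 2, 0, 2, 2, 0, 2, 2, 2, 2, 0, 3, 3]⟩],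
  .edge ⟨8, [3, 0, 3, 0, 2, 0, 2, 2, 0, 2, 0, 2, 0, 3, 0, 3, 1, 2, 2, 2, 6], 8, [0, 2, 0, 3, 3, 0, 3, 0, 2, 2, 0, 2, 2, 0, 3, 0, 2, 2, 0, 3, 5, 1]⟩ 4 25 [2, 2, 2, 0, 2, 0, 2, 1, 3, 1, 3, 1, 3, 3, 3, 4, 2, 2, 2, 0, 2, 0, 2, 4, 1, 3, 1, 3, 1, 3, 3, 3, 4, 2, 2, 2, 0, 2, 0, 2, 1, 3, 1, 3, 1, 3, 3, 3] [⟨86, false, [], [3, 1, 3]⟩, ⟨42, true, [42, 45, 42], [3, 0, 2, 2, 2, 1, 3, 3, 3]⟩, ⟨92, false, [45, 42], [0, 2, 2, 0, 3, 3, 3, 3, 0, 3, 0, 3, 1, 2]⟩],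
  .edge ⟨8, [0, 2, 2, 0, 2, 0, 2, 2, 0, 3, 0, 3, 0, 2, 6, 0, 2], 8, [3, 0, 2, 2, 2, 0, 2, 0, 2, 2, 0, 2, 2, 0, 3, 0, 3, 3, 6, 0]⟩ 4 25 [2, 2, 2, 0, 2, 0, 2, 1, 3, 1, 3, 1, 3, 3, 3, 4, 2, 2, 2, 0, 2, 0, 2, 4, 1, 3, 1, 3, 1, 3, 3, 3, 4, 2, 2, 2, 0, 2, 0, 2, 1, 3, 1, 3, 1, 3, 3, 3] [⟨99, true, [], [3, 3, 0, 3, 3, 0, 3, 3, 3, 3, 0, 2]⟩, ⟨86, false, [], [3, 3, 3, 0, 3, 3, 3, 0, 3, 1, 2]⟩, ⟨92, false, [40, 42], [0, 2, 2, 0, 2, 2, 2, 2, 0, 2, 2, 1]⟩],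
  .edge ⟨8, [0, 3, 3, 0, 2, 2, 0, 3, 0, 2, 2, 2, 0, 3, 3, 0, 2, 0, 2, 2, 2, 0, 2, 5], 8, [3, 0, 2, 2, 2, 0, 2, 0, 2, 0, 3, 0, 3, 3, 0, 3, 3, 6, 0, 2]⟩ 4 25 [2, 2, 2, 0, 2, 0, 2, 1, 3, 1, 3, 1, 3, 3, 3, 4, 2, 2, 2, 0, 2, 0, 2, 4, 1, 3, 1, 3, 1, 3, 3, 3, 4, 2, 2, 2, 0, 2, 0, 2, 1, 3, 1, 3, 1, 3, 3, 3] [⟨92, true, [], [3, 0, 3, 1, 3, 3, 3]⟩, ⟨42, false, [44], [2, 0, 2, 2, 2, 1, 2, 2, 2, 2, 2]⟩, ⟨87, true, [42, 40, 44], [0, 2, 0, 2, 2, 0, 2, 2, 0, 2, 2, 0, 2, 0]⟩],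
  .edge ⟨8, [0, 3, 3, 0, 2, 0, 2, 2, 0, 3, 0, 3, 3, 0, 3, 6, 1, 2, 2, 2], 8, [0, 3, 0, 3, 0, 3, 0, 2, 2, 0, 3, 0, 3, 3, 0, 3, 3, 0, 2, 0, 2, 0, 2, 6, 1]⟩ 4 25 [2, 2, 2, 0, 2, 0, 2, 1, 3, 1, 3, 1, 3, 3, 3, 4, 2, 2, 2, 0, 2, 0, 2, 4, 1, 3, 1, 3, 1, 3, 3, 3, 4, 2, 2, 2, 0, 2, 0, 2, 1, 3, 1, 3, 1, 3, 3, 3] [⟨83, true, [], [2, 2, 1, 3, 3]⟩, ⟨42, true, [42, 44], [0, 2, 2, 2, 0, 3, 3, 3, 1, 3, 3, 3, 3]⟩, ⟨86, true, [42, 40, 44], [0, 3, 0, 2, 2, 2, 2, 2, 0, 2]⟩],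
  .edge ⟨8, [3, 0, 2, 0, 2, 2, 0, 2, 0, 3, 3, 0, 2, 5], 8, [0, 3, 0, 2, 2, 0, 2, 0, 2, 2, 0, 2, 2, 0, 3, 0, 3, 3, 0, 3, 5, 0]⟩ 4 25 [2, 2, 2, 0, 2, 0, 2, 1, 3, 1, 3, 1, 3, 3, 3, 4, 2, 2, 2, 0, 2, 0, 2, 4, 1, 3, 1, 3, 1, 3, 3, 3, 4, 2, 2, 2, 0, 2, 0, 2, 1, 3, 1, 3, 1, 3, 3, 3] [⟨89, true, [], [3, 3, 0, 3, 1, 3]⟩, ⟨92, true, [], [0, 2, 2, 0, 2, 2, 2, 2, 0, 2, 2, 1, 3]⟩, ⟨86, true, [42, 40], [2, 2, 2, 2, 2, 0, 2, 0, 2, 1]⟩],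
  .edge ⟨8, [0, 2, 0, 3, 3, 0, 3, 0, 3, 0, 2, 0, 3, 3, 0, 3, 0, 2, 0, 2, 2, 0, 2, 6], 8, [0, 2, 2, 0, 2, 2, 2, 0, 3, 0, 2, 2, 0, 2, 1, 2, 5]⟩ 4 25 [2, 2, 2, 0, 2, 0, 2, 1, 3, 1, 3, 1, 3, 3, 3, 4, 2, 2, 2, 0, 2, 0, 2, 4, 1, 3, 1, 3, 1, 3, 3, 3, 4, 2, 2, 2, 0, 2, 0, 2, 1, 3, 1, 3, 1, 3, 3, 3] [⟨91, true, [], [3, 3, 3, 3, 3, 0, 3, 0, 3, 0]⟩, ⟨86, false, [52], [0, 3, 0, 3, 0, 2, 2, 2, 1, 3, 3, 3]⟩, ⟨87, true, [40], [3, 0, 2, 2, 2, 0, 2, 2, 0, 2, 2, 2, 2, 0, 3]⟩],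
  .edge ⟨8, [3, 3, 0, 2, 0, 2, 2, 0, 3, 3, 0, 2, 0, 2, 2, 0, 2, 0, 2, 2, 2, 0, 5], 7, [3, 0, 2, 2, 2, 0, 3, 0, 3, 3, 0, 2, 2, 0, 3, 3, 0, 3, 6, 0, 2]⟩ 4 25 [2, 2, 2, 0, 2, 0, 2, 1, 3, 1, 3, 1, 3, 3, 3, 4, 2, 2, 2, 0, 2, 0, 2, 4, 1, 3, 1, 3, 1, 3, 3, 3, 4, 2, 2, 2, 0, 2, 0, 2, 1, 3, 1, 3, 1, 3, 3, 3] [⟨97, true, [], [0, 2, 0, 3, 3, 3, 3, 0, 3, 3, 1, 3]⟩, ⟨51, true, [48, 50, 50], [0, 2, 2, 2, 0, 3, 3, 3, 1, 3]⟩, ⟨64, true, [42, 40, 44], [0, 3, 3, 3, 3, 3, 1, 2, 2]⟩],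
  .edge ⟨8, [0, 2, 2, 0, 3, 3, 0, 2, 2, 0, 2, 0, 3, 3, 0, 2, 0, 2, 2, 0, 3, 3, 0, 6], 8, [0, 3, 0, 2, 2, 0, 2, 0, 3, 0, 2, 2, 0, 2, 2, 0, 3, 0, 3, 0, 3, 1]⟩ 4 41 [2, 2, 2, 0, 2, 0, 2, 4, 1, 3, 1, 3, 1, 3, 3, 3, 4, 2, 2, 2, 0, 2, 0, 2, 1, 3, 1, 3, 1, 3, 3, 3, 4, 2, 2, 2, 0, 2, 0, 2, 1, 3, 1, 3, 1, 3, 3, 3] [⟨70, true, [], [0, 2, 0, 2, 2, 2, 2, 2, 2, 1, 2, 2, 2, 2]⟩, ⟨77, true, [44, 44, 40], [3, 3, 0, 3, 3, 3, 3, 3, 0, 2, 2]⟩, ⟨81, true, [54], [2, 2, 0, 2, 2, 2, 2, 2, 2, 0]⟩],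
  .edge ⟨8, [3, 3, 0, 3, 0, 2, 2, 0, 3, 0, 2, 2, 0, 2, 0, 3, 0, 2, 2, 0], 8, [1, 2, 2, 2]⟩ 4 9 [2, 2, 2, 0, 2, 0, 2, 1, 3, 1, 3, 1, 3, 3, 3, 4, 2, 2, 2, 0, 2, 0, 2, 1, 3, 1, 3, 1, 3, 3, 3, 4, 2, 2, 2, 0, 2, 0, 2, 4, 1, 3, 1, 3, 1, 3, 3, 3] [⟨69, true, [], [2, 2, 0, 2, 2, 2, 0, 2, 0, 2, 1]⟩, ⟨69, false, [22, 22, 18, 21], [2, 2, 2, 0, 2, 0, 3, 3, 3, 3, 1, 3, 3, 3]⟩, ⟨76, true, [54], [0, 2, 0, 2, 0, 2, 2, 2, 2, 1, 3, 3]⟩],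
  .edge ⟨8, [0, 2, 0, 2, 2, 0, 3, 0, 3, 3, 0, 2, 0, 2, 0, 3, 5, 1, 2], 8, [2, 2, 0, 2, 2, 0, 2, 0, 2, 2, 2, 0, 2, 0, 3, 0, 3, 0, 3, 3]⟩ 4 41 [2, 2, 2, 0, 2, 0, 2, 4, 1, 3, 1, 3, 1, 3, 3, 3, 4, 2, 2, 2, 0, 2, 0, 2, 1, 3, 1, 3, 1, 3, 3, 3, 4, 2, 2, 2, 0, 2, 0, 2, 1, 3, 1, 3, 1, 3, 3, 3] [⟨76, true, [], [3, 3, 3, 0, 2, 2, 2, 2, 2, 2]⟩, ⟨108, false, [52], [2, 2, 0, 2, 2, 2, 2, 0, 2]⟩, ⟨107, false, [52, 54], [2, 2, 2, 2, 2, 2, 1, 2]⟩],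
  .edge ⟨8, [3, 3, 0, 2, 2, 0, 2, 0, 2, 0, 3, 0, 3, 0, 2, 2, 0, 2, 0, 3, 6, 1, 2], 8, [2, 0, 2, 0, 3, 0, 3, 3, 0, 2, 2, 0, 2, 0, 2, 5, 1, 2, 2]⟩ 2 0 [6, 4, 6, 4, 6] [⟨92, true, [], [0, 2, 2, 0, 2, 2, 2, 2, 0, 2, 2, 0, 3, 3, 3, 3, 3]⟩, ⟨87, true, [44], [0, 2, 0, 3, 3, 3, 3, 3, 0, 3, 3, 0, 3, 3, 0]⟩],
  .edge ⟨8, [0, 3, 3, 0, 2, 0, 2, 2, 0, 2, 2, 2, 6, 1, 3], 8, [0, 3, 0, 2, 2, 0, 2, 0, 2, 0, 2, 2, 0, 2, 2, 0, 2, 2, 1, 2, 2, 2, 5]⟩ 2 0 [6, 4, 6, 4, 6] [⟨86, false, [], [2, 2, 0, 2, 2, 2, 1]⟩, ⟨77, true, [45, 42], [3, 0, 3, 3, 3, 3, 0, 2, 2, 2, 0, 2]⟩],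
  .edge ⟨8, [2, 2, 2, 0, 2, 0, 2, 2, 0, 2, 0, 3, 3, 0, 3, 0, 3, 5, 0, 2], 8, [2, 0, 3, 3, 0, 3, 0, 3, 3, 0, 2, 2, 0, 3, 3, 0, 3, 0, 2, 2, 0, 2, 6]⟩ 2 0 [6, 4, 6, 4, 6] [⟨83, true, [], [0, 2, 2, 2, 1, 2, 2, 2]⟩, ⟨73, false, [42, 40, 44], [0, 2, 2, 2, 0, 2, 0, 3, 3, 3, 3, 0]⟩],
  .edge ⟨8, [0, 3, 0, 2, 2, 2, 0, 2, 0, 2, 2, 0, 2, 2, 0, 3, 0, 3, 3, 0, 3, 6, 1], 8, [2, 2, 0, 2, 0, 2, 2, 2, 0, 3, 0, 3, 3, 0, 3, 3, 0, 5]⟩ 2 0 [6, 4, 6, 4, 6] [⟨95, false, [], [0, 2, 2, 0, 2, 2, 0, 3, 3, 3, 3, 3]⟩, ⟨74, false, [48, 46, 48], [2, 0, 3, 3, 3, 0, 2, 2, 2, 2, 0, 3]⟩],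
  .edge ⟨8, [2, 0, 2, 2, 0, 2, 0, 3, 3, 0, 3, 0, 2, 2, 2, 0, 2, 2, 5, 0], 8, [0, 3, 0, 2, 0, 3, 3, 0, 2, 0, 2, 0, 3, 0, 3, 0, 3, 3, 6]⟩ 2 0 [6, 4, 6, 4, 6] [⟨96, false, [], [2, 2, 2, 2, 0, 2, 2, 0, 3, 3, 3, 1]⟩, ⟨79, false, [52, 54], [0, 2, 0, 3, 3, 3, 0, 3, 3, 0, 3, 3, 1, 2]⟩],
  .edge ⟨8, [3, 3, 0, 3, 0, 3, 3, 0, 3, 0, 2, 2, 2, 0, 3, 3, 0, 3, 5, 0], 8, [3, 0, 3, 0, 2, 0, 2, 0, 3, 0, 3, 0, 2, 0, 2, 2, 0, 2, 2, 6]⟩ 2 0 [6, 4, 6, 4, 6] [⟨105, false, [], [0, 3, 3, 3, 3, 0, 3, 3, 0, 3, 3, 1, 2]⟩, ⟨80, false, [52, 54], [3, 0, 2, 2, 0, 2, 2, 2, 1, 2]⟩],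
  .edge ⟨8, [0, 3, 3, 0, 3, 3, 0, 2, 2, 0, 3, 3, 0, 3, 0, 3, 3, 0, 2, 0, 2, 2, 6], 8, [3, 0, 2, 0, 2, 0, 2, 0, 3, 3, 0, 3, 3, 0, 3, 0, 2, 2, 0, 3, 6, 0]⟩ 2 0 [6, 4, 6, 4, 6] [⟨78, false, [], [2, 2, 0, 3, 3, 3, 3, 0, 3, 3, 1]⟩, ⟨101, true, [52, 54], [2, 0, 2, 2, 2, 2, 2, 2, 0, 2]⟩],
  .edge ⟨8, [3, 0, 3, 3, 0, 2, 0, 2, 2, 0, 2, 0, 2, 0, 2, 2, 0, 3, 3, 1, 5], 8, [0, 3, 0, 3, 0, 2, 2, 0, 3, 0, 3, 3, 0, 3, 0, 2, 0, 2, 6, 0, 2, 2, 2]⟩ 2 0 [6, 4, 6, 4, 6] [⟨81, true, [], [2, 0, 2, 0, 2, 2, 2, 2, 0, 2]⟩, ⟨103, true, [54], [0, 2, 2, 2, 0, 2, 0, 3, 3, 3, 3, 0]⟩],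
  .edge ⟨8, [3, 0, 3, 0, 3, 0, 2, 0, 2, 2, 0, 2, 0, 3, 3, 0, 3, 0, 3, 0, 2, 0, 3, 3, 5, 0], 8, [2, 6, 0, 3, 3]⟩ 2 0 [6, 4, 6, 4, 6] [⟨100, true, [], [3, 3, 3, 0, 3, 0, 3, 3, 3, 3, 0, 3]⟩, ⟨94, true, [52, 54], [2, 0, 2, 0, 2, 2, 2, 0, 2, 2, 0, 3, 3, 3]⟩],
  .edge ⟨8, [2, 0, 2, 2, 0, 2, 0, 2, 2, 0, 2, 2, 2, 6, 1, 2], 8, [2, 0, 2, 2, 0, 2, 5, 1, 2, 2, 2]⟩ 2 0 [6, 4, 6, 4, 6] [⟨98, false, [], [3, 0, 3, 0, 2, 2, 2, 2, 2, 1]⟩, ⟨98, true, [52, 54], [0, 3, 0, 3, 3, 0, 3, 3, 3, 0, 3, 3]⟩],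
  .node ⟨3, [0, 3, 6], 9, []⟩,
  .stab 9 [0, 3, 0, 2, 2, 0, 3, 3, 0, 3, 0, 2, 2, 1, 3, 3] [0, 3, 3, 0, 2, 0, 2, 0, 3, 0, 2, 2, 0, 2, 0] 0 0 [4, 4] [⟨120, true, [], [0, 3, 3, 1, 3]⟩, ⟨120, false, [20, 22, 18, 23], [2, 2, 0, 2, 2]⟩],
  .stab 9 [0, 2, 2, 0, 3, 3, 0, 2, 0, 2, 2, 0, 3, 3, 1, 2] [3, 0, 2, 2, 0, 2, 0, 2, 0, 3, 0, 3, 0, 2, 0, 2, 2, 0, 3, 1, 2] 0 0 [4, 4] [⟨120, true, [], [0, 2, 2, 0, 2]⟩, ⟨120, false, [20, 20, 18, 20], [3, 3, 0, 3, 3]⟩],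
  .stab 9 [0, 3, 0, 3, 0, 3, 0, 2, 0, 2, 2, 0, 2, 0, 3, 3, 0, 3, 3, 0, 2, 0, 2, 2, 0, 2, 5] [] 1 0 [4, 5, 4, 5, 4, 5] [⟨120, true, [], []⟩, ⟨16, false, [22, 18, 22, 22], [0, 3, 3, 3, 0, 3, 1, 3, 3]⟩, ⟨120, false, [20, 23], [0, 2, 0, 3, 3, 1, 2]⟩],
  .edge ⟨9, [3, 0, 3, 0, 3, 0, 2, 0, 2, 2, 0, 2, 0, 3, 3, 0, 3, 3, 0, 2, 0, 2, 2, 1, 2, 5], 9, [0, 0, 6]⟩ 2 0 [6, 4, 6, 4, 6] [⟨120, true, [], [2, 0, 3, 3, 1, 2]⟩, ⟨120, false, [20, 18, 21, 22], [0, 0]⟩]]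

/-- events, part 3 -/
def evs3 : List Evt := [
  .edge ⟨9, [3, 0, 3, 0, 3, 3, 0, 2, 2, 0, 2, 0, 2, 0, 2, 2, 0, 2, 0], 8, [2, 0, 2, 2, 0, 3, 3, 0, 2, 2, 2, 0, 2, 0, 3, 3, 0, 2, 0, 2, 5]⟩ 4 41 [2, 2, 2, 0, 2, 0, 2, 4, 1, 3, 1, 3, 1, 3, 3, 3, 4, 2, 2, 2, 0, 2, 0, 2, 1, 3, 1, 3, 1, 3, 3, 3, 4, 2, 2, 2, 0, 2, 0, 2, 1, 3, 1, 3, 1, 3, 3, 3] [⟨120, true, [], [2, 0, 3, 3, 0, 2]⟩, ⟨69, false, [18, 21, 21, 18, 23], [3, 3, 3, 0, 3, 3, 3, 1]⟩, ⟨107, true, [], [2, 0, 2, 0, 2, 2, 2, 2, 2, 0, 3]⟩],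
  .edge ⟨9, [0, 3, 3, 0, 2, 0, 2, 0, 3, 1, 3, 3], 9, [2, 0, 2, 2, 0, 3, 0, 2, 2, 0, 3, 0, 3, 3, 0, 2, 0, 2, 2, 0, 2]⟩ 4 41 [2, 2, 2, 0, 2, 0, 2, 4, 1, 3, 1, 3, 1, 3, 3, 3, 4, 2, 2, 2, 0, 2, 0, 2, 1, 3, 1, 3, 1, 3, 3, 3, 4, 2, 2, 2, 0, 2, 0, 2, 1, 3, 1, 3, 1, 3, 3, 3] [⟨120, true, [], [2, 0, 2, 2, 0, 2, 0, 2, 2]⟩, ⟨69, false, [20, 18, 21, 22], [2, 0, 2, 0, 2, 2, 2, 2, 2, 0, 2, 2, 2, 1, 2]⟩, ⟨122, true, [54], [3, 0, 2, 2, 2, 2, 1, 3, 3]⟩],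
  .stab 9 [2, 2, 0, 2, 2, 2, 0, 2, 0, 2, 2, 0, 3, 0, 2, 2, 1, 2, 2] [3, 0, 3, 0, 3, 0, 3, 3, 0, 2, 2, 0, 2, 2, 0, 3, 1] 3 40 [4, 2, 2, 2, 0, 2, 0, 2, 0, 4, 3, 1, 3, 1, 3, 3, 3, 4, 2, 2, 2, 0, 2, 0, 2, 0, 3, 1, 3, 1, 3, 3, 3, 4, 2, 2, 2, 0, 2, 0, 2, 0, 3, 1, 3, 1, 3, 3, 3] [⟨120, true, [], [0, 2, 0, 2, 0]⟩, ⟨69, false, [20, 23], [2, 2, 2, 0, 2, 2, 2, 0, 3]⟩, ⟨81, true, [52], [0, 2, 1, 2, 2, 2, 2]⟩, ⟨122, true, [52, 54], [2, 0, 2, 2, 1, 2, 2, 2, 2, 2]⟩],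
  .edge ⟨9, [0, 2, 2, 0, 2, 0, 3, 0, 3, 0, 2, 0, 2, 0, 2, 2, 2, 0, 2, 0, 3, 3], 9, [0, 2, 2, 0, 2, 0, 3, 0, 3, 0, 2, 0, 2, 0, 2, 2, 2, 0, 2, 0, 3, 3]⟩ 4 25 [2, 2, 2, 0, 2, 0, 2, 1, 3, 1, 3, 1, 3, 3, 3, 4, 2, 2, 2, 0, 2, 0, 2, 4, 1, 3, 1, 3, 1, 3, 3, 3, 4, 2, 2, 2, 0, 2, 0, 2, 1, 3, 1, 3, 1, 3, 3, 3] [⟨120, true, [], [3, 3, 0, 2, 2, 2, 2, 0]⟩, ⟨21, true, [21], [2, 2, 1]⟩, ⟨120, false, [20, 18, 22, 22], [3, 3, 0, 2, 2, 2, 2, 1]⟩],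
  .edge ⟨9, [2, 2, 0, 3, 3, 0, 3, 0, 3, 0, 2, 0, 3, 3, 0, 2, 2, 0, 2, 2, 0, 2, 2, 2], 4, [0, 2, 2, 0, 2, 0, 2, 2, 0, 2, 0, 3, 3, 0, 3, 0, 2, 6, 1, 2, 2]⟩ 4 25 [2, 2, 2, 0, 2, 0, 2, 1, 3, 1, 3, 1, 3, 3, 3, 4, 2, 2, 2, 0, 2, 0, 2, 4, 1, 3, 1, 3, 1, 3, 3, 3, 4, 2, 2, 2, 0, 2, 0, 2, 1, 3, 1, 3, 1, 3, 3, 3] [⟨120, true, [], [3, 0, 2, 2, 2, 0, 2]⟩, ⟨21, true, [21, 21, 18, 21], [3, 3, 3, 3, 0, 3]⟩, ⟨24, false, [22], [2, 0, 2, 2, 1, 2]⟩],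
  .edge ⟨9, [2, 2, 0, 2, 0, 2, 2, 0, 3, 0, 2, 2, 0, 2, 0, 2, 2, 2, 0, 2, 0, 2, 5], 9, [2, 2, 0, 2, 0, 2, 2, 0, 3, 0, 2, 2, 0, 2, 0, 2, 2, 2, 0, 2, 1, 2, 6]⟩ 2 0 [6, 4, 6, 4, 6] [⟨125, false, [], [3, 0, 3, 0, 3, 1]⟩, ⟨125, true, [24], [3, 0, 3, 0, 3, 0]⟩],
  .edge ⟨9, [3, 0, 2, 2, 0, 2, 2, 0, 3, 0, 3, 3, 0, 2, 2, 0, 3, 3, 0, 3, 0, 3, 5], 9, [0, 2, 0, 2, 0, 3, 0, 3, 0, 3, 0, 2, 0, 3, 3, 0, 3, 3, 0, 2, 0, 3, 6]⟩ 2 0 [6, 4, 6, 4, 6] [⟨122, false, [], [3, 3, 3, 0, 3, 3, 3, 3, 3, 0, 3, 0]⟩, ⟨122, true, [52, 54], [0, 2, 0, 2, 2, 2, 2, 2, 2, 1]⟩],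
  .edge ⟨9, [3, 0, 2, 2, 0, 2, 0, 3, 0, 2, 2, 0, 2, 0, 2, 2, 0, 3, 3, 0, 3, 3, 5], 9, [3, 0, 2, 2, 0, 2, 0, 3, 0, 2, 2, 0, 2, 0, 2, 2, 0, 3, 3, 1, 3, 3, 6]⟩ 2 0 [6, 4, 6, 4, 6] [⟨123, false, [], [0, 2, 2, 1, 2, 2, 2, 2, 2]⟩, ⟨123, true, [60, 60], [0, 2, 2, 1, 2, 2, 2, 2, 2]⟩],
  .edge ⟨9, [0, 2, 2, 0, 2, 0, 3, 0, 3, 3, 0, 2, 1, 2, 2, 5], 9, [2, 2, 2, 0, 3, 3, 0, 3, 3, 0, 2, 2, 0, 2, 2, 5, 0, 3]⟩ 4 25 [2, 2, 2, 0, 2, 0, 2, 1, 3, 1, 3, 1, 3, 3, 3, 4, 2, 2, 2, 0, 2, 0, 2, 4, 1, 3, 1, 3, 1, 3, 3, 3, 4, 2, 2, 2, 0, 2, 0, 2, 1, 3, 1, 3, 1, 3, 3, 3] [⟨127, false, [], [3, 3, 3, 0, 2, 2, 2, 0, 3]⟩, ⟨121, true, [58], [0, 0, 3]⟩, ⟨127,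 true, [57, 58, 60, 60], [0, 2, 2, 0, 2, 0, 2, 2]⟩],
  .edge ⟨9, [0, 3, 0, 3, 3, 0, 2, 0, 2, 2, 0, 3, 0, 3, 3, 0, 2, 2, 0, 2, 2, 5, 1], 9, [0, 2, 0, 2, 2, 2, 0, 3, 3, 0, 2, 2, 5, 1, 2, 2]⟩ 4 41 [2, 2, 2, 0, 2, 0, 2, 4, 1, 3, 1, 3, 1, 3, 3, 3, 4, 2, 2, 2, 0, 2, 0, 2, 1, 3, 1, 3, 1, 3, 3, 3, 4, 2, 2, 2, 0, 2, 0, 2, 1, 3, 1, 3, 1, 3, 3, 3] [⟨129, false, [], [2, 0, 2, 0, 2, 0, 3]⟩, ⟨129, true, [58, 57, 60], [0, 3, 3, 1, 2]⟩, ⟨127, true, [62, 56], [2, 2, 2, 2, 0, 2, 0, 2]⟩],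
  .node ⟨3, [2, 0, 5], 10, []⟩,
  .stab 10 [0, 3, 0, 3, 0, 2, 0, 2, 0, 3, 0, 3, 0, 2, 0, 2] [0, 2, 0, 3, 3, 0, 2, 2, 2, 0, 3, 0, 3] 0 0 [4, 4] [⟨131, true, [], [1, 3, 3]⟩, ⟨131, false, [22, 20, 22], [3, 3, 0]⟩],
  .stab 10 [2, 0, 2, 2, 0, 3, 0, 2, 2, 0, 2, 0, 2, 2, 2, 0, 2, 2, 2] [3, 3, 0, 3, 3, 0, 2, 0, 3, 3, 0, 2, 2, 2, 0, 3, 0, 3, 1, 3] 0 0 [4, 4] [⟨131, true, [], [0, 3, 3, 3, 3, 1, 3]⟩, ⟨131, false, [18, 22, 21], [2, 2, 0, 2, 2, 0, 2]⟩],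
  .edge ⟨6, [0, 3, 0, 2, 2, 0, 2, 2, 0, 3, 0, 3, 0, 2, 0, 3, 3, 0, 3, 3, 1, 5], 10, [0, 0, 6]⟩ 2 0 [6, 4, 6, 4, 6] [⟨37, false, [], [0, 3, 0, 3, 0, 2, 2, 2, 0, 3, 3, 3, 3, 3]⟩, ⟨131, false, [18, 21, 21], [0, 0]⟩],
  .edge ⟨8, [0, 0, 5], 10, [1, 6]⟩ 2 0 [6, 4, 6, 4, 6] [⟨69, true, [], [0, 0]⟩, ⟨131, false, [], [0]⟩],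
  .edge ⟨7, [3, 3, 0, 2, 2, 0, 3, 0, 3, 3, 0, 2, 2, 0, 2, 0, 3, 3, 0, 2, 1, 3], 10, [0, 3, 0, 3, 0, 3, 0, 2, 2, 0, 3, 0, 3, 3, 0, 3, 3, 0, 2, 0]⟩ 4 41 [2, 2, 2, 0, 2, 0, 2, 4, 1, 3, 1, 3, 1, 3, 3, 3, 4, 2, 2, 2, 0, 2, 0, 2, 1, 3, 1, 3, 1, 3, 3, 3, 4, 2, 2, 2, 0, 2, 0, 2, 1, 3, 1, 3, 1, 3, 3, 3] [⟨48, true, [], [2, 0, 2, 2, 0, 3]⟩, ⟨14, false, [16, 10, 17], [2, 1, 2]⟩, ⟨131, false, [18, 21, 23, 18, 21], [0, 2, 2, 0, 2, 2, 2, 0, 2, 2, 2, 2]⟩],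
  .edge ⟨10, [2, 0, 3, 0, 3, 0, 2, 0, 2, 0, 3, 0, 3, 3, 0, 2, 1, 3, 3], 7, [2, 2, 0, 2, 0, 2, 2, 0, 2, 0, 3, 0, 3, 0, 2, 0, 2, 0, 2, 2, 0, 2, 0, 3]⟩ 4 25 [2, 2, 2, 0, 2, 0, 2, 1, 3, 1, 3, 1, 3, 3, 3, 4, 2, 2, 2, 0, 2, 0, 2, 4, 1, 3, 1, 3, 1, 3, 3, 3, 4, 2, 2, 2, 0, 2, 0, 2, 1, 3, 1, 3, 1, 3, 3, 3] [⟨134, true, [], [0, 3, 3, 3, 3, 3, 0, 3]⟩, ⟨48, true, [48, 50, 50], [0, 2, 2, 2, 0, 2, 0, 3]⟩, ⟨48, false, [14, 13, 10], [2, 2, 2, 2, 2, 2, 0, 2, 2]⟩],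
  .edge ⟨10, [2, 0, 2, 2, 0, 3, 0, 3, 3, 0, 3, 0, 2, 2, 0, 2, 0, 3, 3, 1, 2, 2], 7, [2, 0, 2, 2, 0, 3, 3, 0, 2, 0, 2, 2, 0, 2, 0, 2, 2]⟩ 4 25 [2, 2, 2, 0, 2, 0, 2, 1, 3, 1, 3, 1, 3, 3, 3, 4, 2, 2, 2, 0, 2, 0, 2, 4, 1, 3, 1, 3, 1, 3, 3, 3, 4, 2, 2, 2, 0, 2, 0, 2, 1, 3, 1, 3, 1, 3, 3, 3] [⟨134, true, [], [0, 2, 2, 2, 0, 2, 2, 2, 2, 2, 2, 1]⟩, ⟨48, true, [], [0, 2, 0, 2, 2, 0, 2, 1, 2, 2]⟩, ⟨48, false, [14, 10, 13, 14], [0, 3, 3, 3, 3, 0, 3, 3, 3]⟩],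
  .edge ⟨10, [3, 0, 3, 3, 0, 2, 0, 2, 0, 3, 0, 2, 2, 0, 3, 3, 0, 2], 4, [0, 3, 0, 3, 3, 0, 3, 3, 0, 2, 0, 2, 2, 0, 3, 0, 3, 3, 0, 3, 6, 0]⟩ 4 25 [2, 2, 2, 0, 2, 0, 2, 1, 3, 1, 3, 1, 3, 3, 3, 4, 2, 2, 2, 0, 2, 0, 2, 4, 1, 3, 1, 3, 1, 3, 3, 3, 4, 2, 2, 2, 0, 2, 0, 2, 1, 3, 1, 3, 1, 3, 3, 3] [⟨134, true, [], [3, 3, 3, 0, 3, 3, 3, 0, 2, 2, 2]⟩, ⟨48, true, [48, 46], [2, 0, 2, 2, 0, 2, 2, 2, 2]⟩, ⟨23, false, [16, 16, 12, 16], [0, 2, 2, 0, 3, 3, 3, 1]⟩],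
  .stab 10 [0, 2, 0, 2, 0, 2, 0, 3, 0, 2, 2, 0, 2, 0, 2, 2, 0, 3, 3, 0, 3, 1] [0, 2, 0, 2, 0, 2, 2, 2, 0, 2, 0, 3, 0, 3, 0, 3, 3, 0, 3, 0, 3, 1, 2] 0 0 [4, 4] [⟨137, false, [], [3, 0, 3, 3, 3]⟩, ⟨137, true, [24, 29, 29, 26, 30], [3, 0, 2, 2, 2]⟩],
  .edge ⟨10, [0, 2, 2, 0, 2, 0, 3, 0, 3, 0, 2, 0, 2, 0, 3, 0, 2, 2, 2, 5, 1, 3, 3], 7, [0, 3, 0, 2, 0, 3, 3, 0, 2, 2, 0, 2, 0, 2, 0, 2, 2, 0, 3, 3, 6, 0, 3]⟩ 4 25 [2, 2, 2, 0, 2, 0, 2, 1, 3, 1, 3, 1, 3, 3, 3, 4, 2, 2, 2, 0, 2, 0, 2, 4, 1, 3, 1, 3, 1, 3, 3, 3, 4, 2, 2, 2, 0, 2, 0, 2, 1, 3, 1, 3, 1, 3, 3, 3] [⟨132, true, [], [2, 0, 2, 2, 2, 2, 2, 2, 1, 2]⟩, ⟨43, false, [44], [2, 0,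 2, 2, 0, 2, 1, 3]⟩, ⟨61, true, [22, 21, 22], [3, 3, 3, 0, 2, 2, 2, 0]⟩],
  .edge ⟨10, [2, 2, 0, 2, 0, 3, 0, 3, 0, 2, 2, 0, 2, 2, 0, 3, 0, 3, 0, 2, 5, 1, 2], 8, [2, 0, 2, 2, 2, 0, 2, 0, 3, 0, 3, 0, 3, 0, 3, 3, 0, 2, 2, 0, 2, 0, 2, 2]⟩ 4 25 [2, 2, 2, 0, 2, 0, 2, 1, 3, 1, 3, 1, 3, 3, 3, 4, 2, 2, 2, 0, 2, 0, 2, 4, 1, 3, 1, 3, 1, 3, 3, 3, 4, 2, 2, 2, 0, 2, 0, 2, 1, 3, 1, 3, 1, 3, 3, 3] [⟨132, true, [], [0, 3, 0, 3, 3, 0, 2, 2, 2, 0]⟩, ⟨43, false, [40, 44], [0, 2, 0, 3, 3, 3, 3, 0]⟩, ⟨69, false, [20, 20, 18, 21], [2, 0, 2, 2, 2, 2, 2, 2, 1, 3, 3, 3, 3, 3]⟩],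
  .edge ⟨10, [2, 2, 2, 0, 2, 2, 0, 3, 3, 0, 3, 0, 3, 0, 3, 3, 1, 3, 3, 5], 8, [0, 2, 2, 0, 2, 0, 3, 0, 2, 2, 0, 3, 0, 3, 3, 0, 2, 0, 2, 2]⟩ 4 25 [2, 2, 2, 0, 2, 0, 2, 1, 3, 1, 3, 1, 3, 3, 3, 4, 2, 2, 2, 0, 2, 0, 2, 4, 1, 3, 1, 3, 1, 3, 3, 3, 4, 2, 2, 2, 0, 2, 0, 2, 1, 3, 1, 3, 1, 3, 3, 3] [⟨132, true, [], [0, 2, 2, 0, 2, 0, 2, 2, 0, 2, 2]⟩, ⟨43, false, [42, 40, 44], [1, 2, 2, 2, 2, 2, 2]⟩, ⟨69, false, [22, 22, 18, 21], [2, 0, 2, 2, 2, 2, 2, 2, 1, 3, 3]⟩],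
  .edge ⟨8, [2, 2, 0, 3, 0, 2, 2, 0, 2, 0, 3, 0, 3, 3, 0, 3, 0, 3, 0, 2], 10, [0, 2, 2, 0, 2, 2, 0, 3, 3, 0, 3, 0, 3, 0, 2, 0, 2, 2, 0, 3, 5, 0, 2]⟩ 4 41 [2, 2, 2, 0, 2, 0, 2, 4, 1, 3, 1, 3, 1, 3, 3, 3, 4, 2, 2, 2, 0, 2, 0, 2, 1, 3, 1, 3, 1, 3, 3, 3, 4, 2, 2, 2, 0, 2, 0, 2, 1, 3, 1, 3, 1, 3, 3, 3] [⟨69, true, [], [2, 0, 2, 0, 2, 2, 2, 2, 2, 2, 1, 3]⟩, ⟨61, true, [22, 18, 22], [2, 0, 3, 3, 3, 0, 3, 1, 2]⟩, ⟨138, true, [50, 48], [2, 2, 2, 2, 1, 2, 2, 2, 2, 2, 2]⟩],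
  .edge ⟨10, [0, 2, 2, 0, 2, 0, 3, 0, 2, 2, 0, 2, 2, 0, 3, 3, 0, 3, 3, 0, 3, 5], 4, [2, 2, 0, 3, 0, 3, 3, 0, 2, 0, 2, 2, 0, 2, 0, 3, 3, 0, 6]⟩ 4 25 [2, 2, 2, 0, 2, 0, 2, 1, 3, 1, 3, 1, 3, 3, 3, 4, 2, 2, 2, 0, 2, 0, 2, 4, 1, 3, 1, 3, 1, 3, 3, 3, 4, 2, 2, 2, 0, 2, 0, 2, 1, 3, 1, 3, 1, 3, 3, 3] [⟨132, true, [], [0, 2, 2, 2, 0, 2, 2, 1, 3]⟩, ⟨43, false, [44], [0, 2, 0, 3, 3, 3, 3, 1, 3]⟩, ⟨24, false, [20, 18, 21, 21], [0, 3, 3]⟩],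
  .edge ⟨10, [3, 0, 3, 3, 0, 3, 0, 3, 3, 0, 2, 2, 0, 2, 0, 3, 3, 0, 2, 1, 6], 9, [2, 0, 2, 0, 3, 3, 0, 3, 3, 0, 3, 0, 2, 0, 2, 0, 2, 2, 0, 3, 1]⟩ 4 25 [2, 2, 2, 0, 2, 0, 2, 1, 3, 1, 3, 1, 3, 3, 3, 4, 2, 2, 2, 0, 2, 0, 2, 4, 1, 3, 1, 3, 1, 3, 3, 3, 4, 2, 2, 2, 0, 2, 0, 2, 1, 3, 1, 3, 1, 3, 3, 3] [⟨141, true, [], [0, 3, 3, 3, 0, 3, 3, 0, 3, 3, 3, 3]⟩, ⟨69, true, [], [0, 2, 0, 2, 0, 2, 2, 2, 2, 2, 0, 2, 2, 0, 2, 1]⟩, ⟨120, false, [20, 23], [0, 2, 0, 2]⟩],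
  .edge ⟨10, [0, 2, 2, 0, 3, 3, 0, 2, 2, 0, 2, 2, 0, 3, 0, 3, 0, 3, 0, 2, 0, 3, 3, 0, 6], 8, [3, 0, 2, 0, 2, 2, 0, 3, 0, 3, 3, 0, 3, 1, 2, 2, 2]⟩ 4 25 [2, 2, 2, 0, 2, 0, 2, 1, 3, 1, 3, 1, 3, 3, 3, 4, 2, 2, 2, 0, 2, 0, 2, 4, 1, 3, 1, 3, 1, 3, 3, 3, 4, 2, 2, 2, 0, 2, 0, 2, 1, 3, 1, 3, 1, 3, 3, 3] [⟨141, true, [], [0, 3, 3, 3]⟩, ⟨69, true, [52], [2, 2, 2, 2, 0, 2, 2, 2]⟩, ⟨69, false, [21, 18, 21, 18], [0, 2, 2, 2, 0, 3, 3, 3, 3, 0, 3, 3, 3]⟩],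
  .edge ⟨10, [2, 2, 2, 0, 2, 2, 0, 2, 0, 2, 0, 3, 0, 3, 3, 0, 2, 0, 3, 3, 1, 6], 8, [0, 2, 2, 0, 3, 3, 0, 3, 0, 2, 0, 2, 0, 3, 0, 2, 2, 0, 2, 0, 3, 3, 1, 3, 3]⟩ 4 25 [2, 2, 2, 0, 2, 0, 2, 1, 3, 1, 3, 1, 3, 3, 3, 4, 2, 2, 2, 0, 2, 0, 2, 4, 1, 3, 1, 3, 1, 3, 3, 3, 4, 2, 2, 2, 0, 2, 0, 2, 1, 3, 1, 3, 1, 3, 3, 3] [⟨141, true, [], [3, 3, 0, 3, 0, 2, 2, 2, 2, 2, 2, 0]⟩, ⟨69, true, [52], [0, 2, 2, 0, 3, 3, 3, 3, 1, 2]⟩, ⟨69, false, [23, 18, 23], [2, 2, 2, 2, 1, 2, 2, 2, 2]⟩],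
  .edge ⟨10, [2, 0, 2, 2, 0, 3, 3, 0, 3, 0, 3, 0, 2, 0, 3, 3, 0], 10, [0, 3, 0, 3, 3, 0, 3, 0, 3, 3, 0, 2, 2, 0, 2, 0, 2, 0, 2, 2, 0, 3, 3, 0]⟩ 4 25 [2, 2, 2, 0, 2, 0, 2, 1, 3, 1, 3, 1, 3, 3, 3, 4, 2, 2, 2, 0, 2, 0, 2, 4, 1, 3, 1, 3, 1, 3, 3, 3, 4, 2, 2, 2, 0, 2, 0, 2, 1, 3, 1, 3, 1, 3, 3, 3] [⟨131, true, [], [0, 2, 0, 2, 2, 2, 1, 3]⟩, ⟨18, false, [21, 22, 22], [0, 3, 0, 3, 3]⟩, ⟨131, false, [18, 20, 18, 21], [0, 3, 3, 3, 0, 3, 3, 3, 0]⟩],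
  .edge ⟨10, [0, 3, 0, 3, 0, 2, 2, 2, 0, 3, 0, 3, 0, 2, 0, 3, 3, 0], 10, [0, 2, 2, 2, 0, 2, 0, 2, 0, 2, 2, 0, 3, 3, 0, 3, 3, 0]⟩ 4 41 [2, 2, 2, 0, 2, 0, 2, 4, 1, 3, 1, 3, 1, 3, 3, 3, 4, 2, 2, 2, 0, 2, 0, 2, 1, 3, 1, 3, 1, 3, 3, 3, 4, 2, 2, 2, 0, 2, 0, 2, 1, 3, 1, 3, 1, 3, 3, 3] [⟨131, true, [], [2, 2, 2, 2, 0, 2, 2, 2, 0, 2]⟩, ⟨18, true, [22, 20, 18], [3, 0, 3, 3, 0, 3, 3, 3]⟩, ⟨131, false, [23], [0, 3, 0, 3, 3, 3, 0, 3, 3, 1]⟩],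
  .edge ⟨10, [0, 3, 0, 3, 0, 2, 0, 2, 0, 3, 0, 2, 2, 2, 0, 2, 2, 0, 3, 3, 0], 10, [2, 0, 2, 0, 3, 0, 3, 3, 0, 3, 1]⟩ 4 41 [2, 2, 2, 0, 2, 0, 2, 4, 1, 3, 1, 3, 1, 3, 3, 3, 4, 2, 2, 2, 0, 2, 0, 2, 1, 3, 1, 3, 1, 3, 3, 3, 4, 2, 2, 2, 0, 2, 0, 2, 1, 3, 1, 3, 1, 3, 3, 3] [⟨131, true, [], [2, 2, 0, 2, 2, 0, 3, 3, 3, 1, 2]⟩, ⟨131, false, [20, 20, 18, 22], [0, 3, 0, 3, 3, 3, 0, 3, 3, 1]⟩, ⟨147, true, [], []⟩],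
  .edge ⟨10, [0, 2, 0, 3, 0, 3, 0, 3, 3, 0, 2, 0, 2, 2, 0, 2, 0, 3, 0], 10, [0, 3, 0, 2, 0, 2, 2, 0, 3, 0, 3, 0, 2, 0, 3, 3, 0]⟩ 4 41 [2, 2, 2, 0, 2, 0, 2, 4, 1, 3, 1, 3, 1, 3, 3, 3, 4, 2, 2, 2, 0, 2, 0, 2, 1, 3, 1, 3, 1, 3, 3, 3, 4, 2, 2, 2, 0, 2, 0, 2, 1, 3, 1, 3, 1, 3, 3, 3] [⟨131, true, [], [2, 1, 3, 3, 3, 3, 3]⟩, ⟨18, false, [18, 21], [3, 0, 3, 3, 3, 1, 2]⟩, ⟨131, false, [21, 22, 18, 21], [0, 3, 0, 2, 2, 2, 0, 2, 2, 2, 0]⟩],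
  .edge ⟨10, [3, 0, 3, 0, 3, 0, 2, 0, 3, 3, 0, 3, 0, 2, 0, 2, 0, 3, 0, 3, 1], 10, [0, 3, 0, 3, 0, 2, 0, 3, 3, 0, 2, 0, 2, 0, 3, 0, 3, 0]⟩ 4 25 [2, 2, 2, 0, 2, 0, 2, 1, 3, 1, 3, 1, 3, 3, 3, 4, 2, 2, 2, 0, 2, 0, 2, 4, 1, 3, 1, 3, 1, 3, 3, 3, 4, 2, 2, 2, 0, 2, 0, 2, 1, 3, 1, 3, 1, 3, 3, 3] [⟨131, true, [], [2, 2, 2, 0, 3, 3, 3, 0, 2, 2, 2]⟩, ⟨18, false, [21, 22, 22], [3, 0, 2, 2]⟩, ⟨131, false, [21, 18, 21, 18], [0, 2, 2, 2, 0, 2, 2, 2, 0, 2, 0, 3]⟩],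
  .edge ⟨10, [0, 2, 2, 0, 2, 0, 3, 0, 3, 0, 3, 0, 2, 2, 0, 3, 0, 2, 2, 0, 3, 0, 3, 1], 10, [2, 2, 0, 2, 0, 2, 2, 0, 3, 0, 2, 2, 2, 0, 2, 0, 3, 1]⟩ 4 25 [2, 2, 2, 0, 2, 0, 2, 1, 3, 1, 3, 1, 3, 3, 3, 4, 2, 2, 2, 0, 2, 0, 2, 4, 1, 3, 1, 3, 1, 3, 3, 3, 4, 2, 2, 2, 0, 2, 0, 2, 1, 3, 1, 3, 1, 3, 3, 3] [⟨147, false, [], [3, 3, 0, 3, 0, 3, 3, 0]⟩, ⟨131, true, [66, 68], [0, 2, 0, 2, 0, 3, 3, 3, 3, 0, 3]⟩, ⟨131, false, [20, 20, 18, 21], [2, 2, 2, 2, 2, 0, 3, 3, 3, 1]⟩],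
  .edge ⟨10, [2, 0, 3, 3, 0, 2, 2, 0, 2, 2, 0, 2, 2, 0, 3, 0, 3, 0, 3, 0], 10, [2, 0, 3, 0, 3, 3, 0, 2, 0, 2, 0, 2, 2, 0, 3, 3, 0, 3, 3, 0]⟩ 4 25 [2, 2, 2, 0, 2, 0, 2, 1, 3, 1, 3, 1, 3, 3, 3, 4, 2, 2, 2, 0, 2, 0, 2, 4, 1, 3, 1, 3, 1, 3, 3, 3, 4, 2, 2, 2, 0, 2, 0, 2, 1, 3, 1, 3, 1, 3, 3, 3] [⟨147, true, [], [2, 2, 2, 2, 0, 2, 2, 2, 2, 2]⟩, ⟨131, true, [], [2, 2, 0, 3, 3, 3, 3, 1, 2, 2, 2, 2]⟩, ⟨131, false, [23, 18, 23], [2, 1, 2, 2, 2]⟩],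
  .edge ⟨10, [0, 3, 3, 0, 2, 2, 2, 0, 2, 0, 3, 0, 3, 0, 2, 0, 3, 3, 0, 3, 3, 5, 1, 2], 10, [0, 2, 0, 2, 0, 3, 3, 0, 2, 0, 3, 3, 0, 3, 0, 2, 2, 0, 2, 2, 0, 2, 1, 2, 2, 5]⟩ 4 25 [2, 2, 2, 0, 2, 0, 2, 1, 3, 1, 3, 1, 3, 3, 3, 4, 2, 2, 2, 0, 2, 0, 2, 4, 1, 3, 1, 3, 1, 3, 3, 3, 4, 2, 2, 2, 0, 2, 0, 2, 1, 3, 1, 3, 1, 3, 3, 3] [⟨143, false, [], [0, 2, 0, 3, 3, 0, 3, 3, 3, 3]⟩, ⟨125, false, [57], [3, 0, 3, 0, 3]⟩, ⟨142, true, [24, 28, 30, 30], [2, 0, 2, 1, 2, 2, 2]⟩],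
  .edge ⟨10, [0, 2, 2, 0, 2, 2, 2, 0, 2, 0, 3, 0, 3, 0, 3, 3, 0, 3, 0, 2, 2, 0, 3, 1, 5], 10, [2, 0, 3, 3, 0, 3, 0, 3, 0, 2, 0, 3, 3, 0, 3, 3, 6, 0]⟩ 4 25 [2, 2, 2, 0, 2, 0, 2, 1, 3, 1, 3, 1, 3, 3, 3, 4, 2, 2, 2, 0, 2, 0, 2, 4, 1, 3, 1, 3, 1, 3, 3, 3, 4, 2, 2, 2, 0, 2, 0, 2, 1, 3, 1, 3, 1, 3, 3, 3] [⟨143, false, [], [0, 2, 0, 2, 2, 2, 2, 0, 2, 2, 0]⟩, ⟨125, false, [56, 62, 56], [0, 3, 0, 3, 1, 2, 2, 2]⟩, ⟨142, true, [24, 31, 26], [0, 2, 0, 3, 3, 3, 3, 3, 1, 3, 3, 3]⟩],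
  .edge ⟨10, [2, 0, 3, 0, 3, 0, 2, 0, 2, 2, 2, 0, 2, 2, 0, 2, 6, 0], 10, [2, 0, 3, 0, 2, 2, 0, 3, 0, 2, 2, 2, 0, 2, 0, 3, 0, 3, 0, 2, 5, 0, 3]⟩ 4 41 [2, 2, 2, 0, 2, 0, 2, 4, 1, 3, 1, 3, 1, 3, 3, 3, 4, 2, 2, 2, 0, 2, 0, 2, 1, 3, 1, 3, 1, 3, 3, 3, 4, 2, 2, 2, 0, 2, 0, 2, 1, 3, 1, 3, 1, 3, 3, 3] [⟨142, false, [], [0, 2, 2, 0, 2, 0, 3, 3, 3, 1, 2]⟩, ⟨45, false, [24, 28, 26, 29, 30], [0, 2, 0, 2, 2, 0, 2, 2]⟩, ⟨132, false, [44], [3, 0, 3, 3, 3, 3, 0, 3, 1, 3]⟩],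
  .edge ⟨10, [3, 0, 2, 2, 0, 2, 0, 3, 3, 0, 3, 0, 2, 0, 2, 2, 0, 3, 1, 6], 10, [0, 2, 0, 3, 3, 0, 3, 3, 0, 2, 2, 0, 3, 3, 0, 3, 0, 3, 0, 3, 3, 5, 1, 3, 3]⟩ 4 25 [2, 2, 2, 0, 2, 0, 2, 1, 3, 1, 3, 1, 3, 3, 3, 4, 2, 2, 2, 0, 2, 0, 2, 4, 1, 3, 1, 3, 1, 3, 3, 3, 4, 2, 2, 2, 0, 2, 0, 2, 1, 3, 1, 3, 1, 3, 3, 3] [⟨155, true, [], [3, 3, 3, 0, 2, 2, 2, 1]⟩, ⟨142, false, [], [0, 3, 0, 2, 2, 2, 2, 2, 2]⟩, ⟨142, true, [31, 26, 28], [2, 0, 3, 3, 0, 3, 1, 2, 2, 2]⟩],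
  .edge ⟨10, [0, 3, 3, 0, 2, 2, 0, 2, 0, 2, 0, 2, 2, 0, 2, 6, 0], 10, [0, 2, 2, 0, 2, 2, 0, 3, 0, 3, 3, 0, 3, 0, 3, 3, 0, 2, 2, 0, 2, 0, 3, 3, 0, 2, 6]⟩ 4 25 [2, 2, 2, 0, 2, 0, 2, 1, 3, 1, 3, 1, 3, 3, 3, 4, 2, 2, 2, 0, 2, 0, 2, 4, 1, 3, 1, 3, 1, 3, 3, 3, 4, 2, 2, 2, 0, 2, 0, 2, 1, 3, 1, 3, 1, 3, 3, 3] [⟨155, false, [], [2, 0, 2, 2, 2, 2, 0, 2, 2]⟩, ⟨142, false, [68], [0, 2, 2, 2, 2, 0, 2, 0, 3, 3, 3, 1]⟩, ⟨142, true, [29, 26, 30, 26], [2, 2, 0, 2, 1, 2, 2, 2, 2]⟩],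
  .edge ⟨10, [0, 3, 0, 3, 0, 2, 2, 2, 6], 8, [2, 2, 0, 2, 0, 2, 0, 3, 3, 0, 3, 3, 0, 3, 3, 1, 2, 2, 2, 6]⟩ 4 41 [2, 2, 2, 0, 2, 0, 2, 4, 1, 3, 1, 3, 1, 3, 3, 3, 4, 2, 2, 2, 0, 2, 0, 2, 1, 3, 1, 3, 1, 3, 3, 3, 4, 2, 2, 2, 0, 2, 0, 2, 1, 3, 1, 3, 1, 3, 3, 3] [⟨133, true, [], [0, 0]⟩, ⟨118, false, [54], [0, 2, 2, 0, 3, 3, 3, 0, 2, 2, 2, 2, 0, 2]⟩, ⟨114, false, [54], [2, 0, 2, 2, 2, 2, 0, 2, 0, 3, 3]⟩],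
  .edge ⟨10, [3, 0, 3, 0, 2, 0, 2, 0, 2, 2, 0, 2, 2, 0, 2, 2, 1, 2, 5], 10, [3, 0, 3, 0, 2, 0, 2, 0, 2, 2, 0, 2, 2, 0, 2, 2, 0, 2, 6]⟩ 4 25 [2, 2, 2, 0, 2, 0, 2, 1, 3, 1, 3, 1, 3, 3, 3, 4, 2, 2, 2, 0, 2, 0, 2, 4, 1, 3, 1, 3, 1, 3, 3, 3, 4, 2, 2, 2, 0, 2, 0, 2, 1, 3, 1, 3, 1, 3, 3, 3] [⟨158, false, [], [0, 3, 3, 3, 3, 3, 0, 3, 0, 3, 1]⟩, ⟨111, false, [54], [0, 3, 0, 2, 2, 2, 0, 2]⟩, ⟨158, true, [52], [0, 3, 3, 3, 3, 3, 0, 3, 0, 3, 0]⟩],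
  .edge ⟨10, [2, 0, 2, 2, 2, 0, 3, 3, 0, 3, 0, 2, 0, 2, 0, 3, 0, 3, 6], 8, [2, 0, 3, 3, 0, 3, 3, 0, 2, 0, 3, 3, 0, 2, 0, 2, 2, 0, 2, 1, 2, 5]⟩ 4 25 [2, 2, 2, 0, 2, 0, 2, 1, 3, 1, 3, 1, 3, 3, 3, 4, 2, 2, 2, 0, 2, 0, 2, 4, 1, 3, 1, 3, 1, 3, 3, 3, 4, 2, 2, 2, 0, 2, 0, 2, 1, 3, 1, 3, 1, 3, 3, 3] [⟨158, false, [], [2, 0, 2, 2, 2, 2, 2, 0, 3, 3, 3]⟩, ⟨110, false, [54], [0, 2, 2, 2, 0, 2, 2, 2, 2, 2, 0, 2]⟩, ⟨115, true, [52], [2, 2, 2, 2, 2, 2, 0, 2, 2, 2, 0, 2]⟩],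
  .edge ⟨8, [2, 0, 2, 2, 2, 0, 3, 0, 2, 2, 0, 2, 2, 2, 6, 0, 2], 10, [3, 3, 0, 3, 0, 3, 0, 3, 3, 0, 2, 2, 0, 2, 2, 0, 3, 0, 2, 2, 2, 6]⟩ 4 41 [2, 2, 2, 0, 2, 0, 2, 4, 1, 3, 1, 3, 1, 3, 3, 3, 4, 2, 2, 2, 0, 2, 0, 2, 1, 3, 1, 3, 1, 3, 3, 3, 4, 2, 2, 2, 0, 2, 0, 2, 1, 3, 1, 3, 1, 3, 3, 3] [⟨114, false, [], []⟩, ⟨116, true, [54], [3, 3, 3, 3, 0, 3, 1, 2, 2, 2]⟩, ⟨160, true, [], [0, 2, 0, 2, 2, 0, 2, 2, 2, 2, 0, 3, 3]⟩],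
  .edge ⟨10, [3, 3, 0, 2, 2, 0, 2, 2, 0, 2, 0, 2, 0, 3, 0, 3, 0, 3, 3, 6, 0, 2], 8, [0, 3, 3, 0, 3, 3, 0, 3, 0, 2, 2, 0, 2, 2, 0, 3, 3, 0, 2, 2, 1, 5]⟩ 4 9 [2, 2, 2, 0, 2, 0, 2, 1, 3, 1, 3, 1, 3, 3, 3, 4, 2, 2, 2, 0, 2, 0, 2, 1, 3, 1, 3, 1, 3, 3, 3, 4, 2, 2, 2, 0, 2, 0, 2, 4, 1, 3, 1, 3, 1, 3, 3, 3] [⟨158, false, [], [2, 0, 2, 0, 2, 2, 2, 2, 2, 2, 0, 2, 2, 1]⟩, ⟨117, false, [54], [2, 0, 2, 0, 3, 3, 3, 1, 2, 2, 2]⟩, ⟨114, false, [54], [1]⟩],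
  .edge ⟨10, [0, 3, 3, 0, 3, 3, 0, 3, 0, 3, 0, 2, 0, 2, 0, 3, 6, 0, 3, 3], 10, [3, 0, 3, 3, 0, 2, 0, 2, 2, 0, 3, 3, 0, 2, 2, 0, 2, 0, 3, 3, 6, 1, 2]⟩ 4 25 [2, 2, 2, 0, 2, 0, 2, 1, 3, 1, 3, 1, 3, 3, 3, 4, 2, 2, 2, 0, 2, 0, 2, 4, 1, 3, 1, 3, 1, 3, 3, 3, 4, 2, 2, 2, 0, 2, 0, 2, 1, 3, 1, 3, 1, 3, 3, 3] [⟨162, false, [], [0, 2, 0, 2, 2, 2, 1, 2, 2]⟩, ⟨114, true, [], [0, 2, 2, 2, 0, 2, 2, 0, 2, 0, 2]⟩, ⟨161, false, [52, 54], [0, 3, 3, 3, 0, 3, 3, 3, 1, 2, 2, 2]⟩],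
  .edge ⟨10, [0, 2, 2, 0, 3, 0, 2, 2, 0, 3, 0, 3, 3, 0, 3, 0, 2, 2, 0, 2, 2, 0, 3, 5, 1], 8, [0, 2, 0, 2, 2, 0, 3, 3, 0, 3, 3, 0, 3, 3, 0, 3, 0, 3, 0, 6]⟩ 4 9 [2, 2, 2, 0, 2, 0, 2, 1, 3, 1, 3, 1, 3, 3, 3, 4, 2, 2, 2, 0, 2, 0, 2, 1, 3, 1, 3, 1, 3, 3, 3, 4, 2, 2, 2, 0, 2, 0, 2, 4, 1, 3, 1, 3, 1, 3, 3, 3] [⟨162, false, [], [0, 3, 3, 0, 3, 0, 3, 3, 3, 3, 0]⟩, ⟨110, true, [], [0, 2, 0, 2, 2, 0, 2, 2, 0, 2, 2, 2, 1, 2, 2]⟩, ⟨112, true, [52], [3, 0, 3, 3, 3, 0, 2, 2]⟩],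
  .edge ⟨10, [2, 0, 3, 0, 3, 3, 0, 2, 2, 2, 0, 3, 0, 3, 3, 0, 2, 0, 2, 6], 10, [0, 3, 3, 0, 2, 2, 0, 3, 3, 0, 3, 0, 2, 2, 0, 3, 0, 3, 3, 6, 1, 2]⟩ 4 25 [2, 2, 2, 0, 2, 0, 2, 1, 3, 1, 3, 1, 3, 3, 3, 4, 2, 2, 2, 0, 2, 0, 2, 4, 1, 3, 1, 3, 1, 3, 3, 3, 4, 2, 2, 2, 0, 2, 0, 2, 1, 3, 1, 3, 1, 3, 3, 3] [⟨164, false, [], [3, 3, 3, 3, 3, 0, 3, 3, 0, 3, 0, 2]⟩, ⟨111, false, [52, 54], [2, 2, 2, 2, 2]⟩, ⟨158, true, [], [2, 0, 2, 0, 3, 3, 3, 3, 0, 3, 3, 3, 0, 2]⟩],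
  .edge ⟨10, [2, 2, 0, 3, 0, 2, 2, 0, 3, 0, 3, 3, 0, 2, 0, 2, 2, 1, 5], 10, [3, 0, 3, 0, 3, 3, 0, 3, 0, 2, 0, 2, 0, 2, 2, 0, 2, 2, 0, 3, 0, 3, 5, 0]⟩ 4 25 [2, 2, 2, 0, 2, 0, 2, 1, 3, 1, 3, 1, 3, 3, 3, 4, 2, 2, 2, 0, 2, 0, 2, 4, 1, 3, 1, 3, 1, 3, 3, 3, 4, 2, 2, 2, 0, 2, 0, 2, 1, 3, 1, 3, 1, 3, 3, 3] [⟨162, false, [], [3, 0, 2, 2, 2, 0, 2, 2, 2, 2, 2, 2, 1, 2]⟩, ⟨118, false, [], [2, 2, 0, 2, 0, 2, 2, 2, 2, 2, 0, 2, 2, 0, 2]⟩, ⟨161, false, [], [0, 2, 0, 2, 2, 0, 2, 2, 0, 2, 2, 0, 2, 2]⟩],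
  .edge ⟨10, [0, 2, 0, 2, 0, 2, 0, 3, 0, 3, 0, 3, 3, 0, 3, 3, 6, 1], 10, [0, 2, 0, 2, 0, 2, 0, 3, 0, 3, 0, 3, 3, 0, 3, 3, 6]⟩ 4 25 [2, 2, 2, 0, 2, 0, 2, 1, 3, 1, 3, 1, 3, 3, 3, 4, 2, 2, 2, 0, 2, 0, 2, 4, 1, 3, 1, 3, 1, 3, 3, 3, 4, 2, 2, 2, 0, 2, 0, 2, 1, 3, 1, 3, 1, 3, 3, 3] [⟨160, false, [], [0, 3, 3, 0, 3, 3, 3, 3, 3, 1, 2, 2]⟩, ⟨114, true, [52, 54], [1, 2, 2, 2]⟩, ⟨161, false, [], [0, 2, 2, 2, 2, 0, 2, 2, 2, 2, 2, 0, 2, 2, 2]⟩]]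

/-- events, part 4 -/
def evs4 : List Evt := [
  .edge ⟨10, [2, 2, 0, 3, 3, 0, 3, 0, 2, 0, 2, 0, 3, 0, 3, 0, 3, 3, 0, 3, 3, 0, 3, 5], 10, [0, 3, 0, 2, 0, 2, 2, 0, 2, 2, 0, 3, 0, 3, 0, 6]⟩ 4 25 [2, 2, 2, 0, 2, 0, 2, 1, 3, 1, 3, 1, 3, 3, 3, 4, 2, 2, 2, 0, 2, 0, 2, 4, 1, 3, 1, 3, 1, 3, 3, 3, 4, 2, 2, 2, 0, 2, 0, 2, 1, 3, 1, 3, 1, 3, 3, 3] [⟨165, false, [], [0, 2, 0, 2, 0, 2, 2, 2, 2, 1, 3]⟩, ⟨160, false, [64, 68], [0, 3, 3, 0, 3, 3, 3, 3, 0, 3, 1, 2]⟩, ⟨158, true, [], [0, 3, 0, 3, 0, 3, 0, 2, 2, 2, 2, 2, 0, 2, 0]⟩],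
  .edge ⟨10, [3, 3, 0, 2, 0, 2, 0, 2, 2, 0, 2, 2, 0, 2, 2, 2, 5, 1, 3], 10, [0, 2, 0, 2, 2, 2, 0, 3, 0, 3, 0, 2, 2, 5]⟩ 4 25 [2, 2, 2, 0, 2, 0, 2, 1, 3, 1, 3, 1, 3, 3, 3, 4, 2, 2, 2, 0, 2, 0, 2, 4, 1, 3, 1, 3, 1, 3, 3, 3, 4, 2, 2, 2, 0, 2, 0, 2, 1, 3, 1, 3, 1, 3, 3, 3] [⟨160, false, [], [0, 2, 0, 3, 3, 0, 3, 3, 3, 3, 0, 2]⟩, ⟨110, true, [52, 54], [0, 3, 0, 3, 3, 0, 3, 3, 3]⟩, ⟨158, true, [54], [2, 0, 2, 0, 2, 0, 3, 3, 3, 3, 3, 0, 3, 3, 0]⟩],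
  .edge ⟨10, [0, 2, 0, 3, 0, 3, 0, 2, 0, 3, 3, 0, 2, 0, 2, 2, 0, 2, 0, 3, 0, 3, 1, 5], 10, [3, 0, 3, 3, 0, 3, 3, 0, 2, 0, 2, 2, 0, 2, 0, 3, 0, 3, 6, 1, 3]⟩ 4 25 [2, 2, 2, 0, 2, 0, 2, 1, 3, 1, 3, 1, 3, 3, 3, 4, 2, 2, 2, 0, 2, 0, 2, 4, 1, 3, 1, 3, 1, 3, 3, 3, 4, 2, 2, 2, 0, 2, 0, 2, 1, 3, 1, 3, 1, 3, 3, 3] [⟨158, false, [], [2, 0, 3, 3, 3, 0, 2, 2, 2]⟩, ⟨114, false, [52, 54], [0, 2, 2, 0, 2, 0, 3, 3, 3, 3, 1, 3]⟩, ⟨162, true, [54], [0, 2, 0, 2, 0, 2, 2, 0, 2, 2, 1, 2, 2, 2, 2]⟩],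
  .edge ⟨10, [2, 0, 2, 2, 0, 3, 3, 0, 3, 0, 2, 2, 0, 2, 0, 3, 3, 0, 3, 3, 0, 2, 2, 0, 5], 10, [2, 0, 3, 0, 3, 3, 0, 3, 3, 0, 3, 0, 2, 2, 0, 2, 2, 0, 2, 2, 2, 6, 0]⟩ 4 41 [2, 2, 2, 0, 2, 0, 2, 4, 1, 3, 1, 3, 1, 3, 3, 3, 4, 2, 2, 2, 0, 2, 0, 2, 1, 3, 1, 3, 1, 3, 3, 3, 4, 2, 2, 2, 0, 2, 0, 2, 1, 3, 1, 3, 1, 3, 3, 3] [⟨160, false, [], [3, 3, 0, 3, 3, 0, 3, 3, 1, 2, 2, 2]⟩, ⟨158, true, [], [1, 3, 3, 3, 3]⟩, ⟨168, false, [64], [0, 2, 0, 2, 2, 2, 2, 2, 2, 0, 2, 0, 2, 1]⟩],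
  .edge ⟨10, [2, 0, 3, 0, 3, 3, 0, 2, 2, 0, 2, 0, 2, 5, 1], 10, [2, 0, 3, 0, 3, 0, 2, 0, 2, 0, 3, 0, 2, 2, 2, 0, 2, 0, 3, 1, 6]⟩ 4 41 [2, 2, 2, 0, 2, 0, 2, 4, 1, 3, 1, 3, 1, 3, 3, 3, 4, 2, 2, 2, 0, 2, 0, 2, 1, 3, 1, 3, 1, 3, 3, 3, 4, 2, 2, 2, 0, 2, 0, 2, 1, 3, 1, 3, 1, 3, 3, 3] [⟨162, false, [], [2, 0, 2, 2, 2, 2, 2, 2, 1, 2, 2, 2]⟩, ⟨161, false, [52], [2, 2, 0, 2, 2, 0, 2, 2, 0, 3, 3, 3, 0, 2]⟩, ⟨163, false, [], [2, 2, 2, 0, 2, 2, 0, 3, 3, 3, 3, 0]⟩],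
  .node ⟨6, [0, 2, 5], 11, []⟩,
  .edge ⟨11, [0, 2, 0, 3, 0, 3, 0, 3, 3, 0, 3, 0, 2, 2, 0, 2, 0, 3, 0, 3, 1, 3, 5], 6, [3, 0, 3, 0, 2, 0, 2, 0, 3, 0, 3, 0, 2, 1, 2, 2, 6]⟩ 2 0 [6, 4, 6, 4, 6] [⟨173, true, [], [3, 0, 2, 2, 2, 2, 2, 2, 0, 2]⟩, ⟨40, false, [42, 40], [0, 2, 2, 2, 0, 2, 2, 0, 2, 2, 1, 2, 2, 2]⟩],
  .edge ⟨8, [3, 3, 0, 2, 2, 0, 2, 0, 2, 0, 3, 0, 3, 0, 2, 2, 0, 2, 0, 3, 0, 2, 6], 11, [0, 2, 0, 3, 0, 3, 0, 3, 3, 0, 3, 0, 2, 2, 0, 2, 0, 3, 0, 3, 5, 0, 3]⟩ 2 0 [6, 4, 6, 4, 6] [⟨92, true, [], [0, 2, 2, 0, 2, 2, 2, 2, 0, 2, 2, 1, 3, 3, 3, 3, 3]⟩, ⟨174, true, [40, 44, 44], [0, 0]⟩],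
  .edge ⟨8, [3, 0, 2, 2, 0, 3, 3, 0, 3, 0, 2, 2, 0, 2, 0, 2, 0, 3, 0, 3, 3, 0, 6], 11, [2, 2, 0, 2, 0, 2, 2, 2, 0, 2, 0, 2, 0, 2, 2, 0, 3, 3, 0, 2, 0, 6]⟩ 2 0 [6, 4, 6, 4, 6] [⟨87, false, [], [3, 3, 0, 3, 3, 3, 0, 3, 3, 1, 3, 3, 3]⟩, ⟨173, false, [40, 45], [0, 2, 2, 0, 3, 3, 3, 1, 3, 3]⟩],
  .edge ⟨11, [0, 2, 2, 0, 2, 0, 3, 0, 3, 3, 0, 2, 0, 3, 3, 0, 2, 2, 2, 5], 11, [0, 3, 0, 2, 2, 0, 3, 0, 3, 0, 3, 0, 2, 0, 3, 5]⟩ 2 0 [6, 4, 6, 4, 6] [⟨173, true, [], [0, 3, 3, 3, 0, 3, 0, 2, 2, 2, 2]⟩, ⟨174, true, [40], [0, 3, 3, 3, 0, 3, 1, 2, 2, 2, 2]⟩],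
  .edge ⟨8, [3, 3, 0, 2, 0, 2, 2, 0, 2, 0, 2, 2, 0, 3, 0, 3, 0, 3, 0, 2, 0], 11, [0, 3, 0, 3, 0, 3, 3, 0, 3, 3, 0, 3, 0, 3, 0, 2, 0, 2, 1, 2, 2, 6]⟩ 4 41 [2, 2, 2, 0, 2, 0, 2, 4, 1, 3, 1, 3, 1, 3, 3, 3, 4, 2, 2, 2, 0, 2, 0, 2, 1, 3, 1, 3, 1, 3, 3, 3, 4, 2, 2, 2, 0, 2, 0, 2, 1, 3, 1, 3, 1, 3, 3, 3] [⟨69, true, [], [0, 2, 2, 2, 0, 2, 2, 2, 0, 3, 3]⟩, ⟨69, false, [20, 18, 21, 21], [2, 0, 2, 2, 2, 2, 2, 2]⟩, ⟨175, false, [52, 54], [3, 0, 3, 0, 3, 0, 2, 2, 2, 2, 2, 0]⟩],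
  .edge ⟨11, [3, 3, 0, 3, 3, 0, 3, 3, 0, 3, 3, 0, 2, 0, 2, 0, 2, 0, 3, 6, 1, 3], 8, [0, 3, 0, 2, 0, 2, 2, 0, 2, 2, 0, 3, 3, 0, 3, 0]⟩ 4 25 [2, 2, 2, 0, 2, 0, 2, 1, 3, 1, 3, 1, 3, 3, 3, 4, 2, 2, 2, 0, 2, 0, 2, 4, 1, 3, 1, 3, 1, 3, 3, 3, 4, 2, 2, 2, 0, 2, 0, 2, 1, 3, 1, 3, 1, 3, 3, 3] [⟨178, true, [], [0, 3, 0, 2, 2, 2, 2, 0, 3, 3]⟩, ⟨69, true, [], [0, 2, 0, 2, 2, 0, 2, 2, 2, 0, 2, 0, 3, 3, 3]⟩, ⟨69, false, [21, 18, 21, 18], [2, 2, 2, 2, 2, 0, 2, 0, 3, 3, 3, 3]⟩],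
  .edge ⟨11, [0, 2, 0, 2, 2, 0, 2, 2, 2, 0, 2, 0, 2, 0, 2, 2, 0, 3, 3, 0, 3, 0, 3, 3, 5], 9, [0, 2, 0, 3, 0, 3, 3, 0, 2, 0, 2, 0, 2, 2, 0, 3, 3, 0, 3, 3, 1]⟩ 4 25 [2, 2, 2, 0, 2, 0, 2, 1, 3, 1, 3, 1, 3, 3, 3, 4, 2, 2, 2, 0, 2, 0, 2, 4, 1, 3, 1, 3, 1, 3, 3, 3, 4, 2, 2, 2, 0, 2, 0, 2, 1, 3, 1, 3, 1, 3, 3, 3] [⟨178, true, [], [3, 0, 2, 2, 0, 2, 2, 0, 2, 2, 0, 2, 2]⟩, ⟨69, true, [], [0, 2, 0, 3, 3, 3, 3, 3]⟩, ⟨120, false, [22, 22, 18, 23], [0, 2, 1, 2, 2, 2]⟩],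
  .stab 11 [2, 2, 0, 2, 0, 3, 3, 0, 2, 0, 3, 3, 0, 2, 1, 2, 2] [0, 2, 2, 0, 2, 0, 2, 2, 0, 2, 0, 3, 3, 0, 3, 0, 2, 0, 2, 1, 6] 0 0 [4, 4] [⟨180, false, [], [0, 2, 0, 2, 2, 2]⟩, ⟨180, true, [58, 62], [0, 3, 3, 3, 0, 3]⟩],
  .edge ⟨11, [3, 0, 3, 0, 2, 0, 3, 3, 0, 3, 3, 0, 2, 2, 0, 2, 0, 2, 0, 3, 3, 0, 3, 5, 1], 7, [3, 3, 0, 2, 2, 2, 0, 2, 0, 2, 2, 0, 2, 6, 0, 2, 2, 2]⟩ 4 25 [2, 2, 2, 0, 2, 0, 2, 1, 3, 1, 3, 1, 3, 3, 3, 4, 2, 2, 2, 0, 2, 0, 2, 4, 1, 3, 1, 3, 1, 3, 3, 3, 4, 2, 2, 2, 0, 2, 0, 2, 1, 3, 1, 3, 1, 3, 3, 3] [⟨178, true, [], [0, 2, 2, 2, 0, 2, 2, 2, 0, 3, 3, 3]⟩, ⟨69, true, [52], [3, 0, 2, 2, 0, 2, 2, 2, 2, 0, 3]⟩, ⟨61,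 true, [18, 20, 18, 21, 21], [0, 2, 2, 2, 2, 0, 2, 2, 1, 2]⟩],
  .edge ⟨8, [0, 2, 0, 2, 2, 0, 2, 2, 0, 3, 3, 0], 11, [3, 3, 0, 2, 2, 0, 2, 0, 3, 0, 3, 0, 3, 0, 2, 0, 3, 3, 0, 3, 6, 0]⟩ 4 41 [2, 2, 2, 0, 2, 0, 2, 4, 1, 3, 1, 3, 1, 3, 3, 3, 4, 2, 2, 2, 0, 2, 0, 2, 1, 3, 1, 3, 1, 3, 3, 3, 4, 2, 2, 2, 0, 2, 0, 2, 1, 3, 1, 3, 1, 3, 3, 3] [⟨69, true, [], [0, 2, 2, 0, 3, 3, 3, 3, 1, 3, 3, 3, 3]⟩, ⟨69, false, [22, 18, 22], [0, 2, 2, 2, 2, 2, 2, 0, 2, 1]⟩, ⟨176, false, [54], [2, 0, 2, 0, 3, 3, 3, 1]⟩],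
  .edge ⟨11, [2, 0, 2, 2, 0, 3, 0, 3, 0, 2, 0, 2, 0, 2, 2, 2, 5, 0, 3], 9, [0, 3, 3, 0, 3, 0, 2, 0, 2, 2, 0, 2, 0, 2, 0, 2, 2]⟩ 4 25 [2, 2, 2, 0, 2, 0, 2, 1, 3, 1, 3, 1, 3, 3, 3, 4, 2, 2, 2, 0, 2, 0, 2, 4, 1, 3, 1, 3, 1, 3, 3, 3, 4, 2, 2, 2, 0, 2, 0, 2, 1, 3, 1, 3, 1, 3, 3, 3] [⟨182, true, [], [0, 2, 2, 2, 2, 2, 2, 0, 3, 3, 3, 0, 2, 2, 2]⟩, ⟨69, true, [], [2, 2, 0, 3, 3, 3, 3, 1]⟩, ⟨120, false, [20, 18, 23, 21], [0, 2, 0, 3, 3, 3, 0, 3, 1, 2]⟩],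
  .edge ⟨11, [3, 0, 2, 0, 2, 2, 0, 2, 0, 3, 0, 2, 2, 2, 0, 3, 1, 2, 2, 5], 8, [0, 3, 3, 0, 3, 0, 2, 0, 2, 0, 2, 0, 3, 3, 0, 2, 0, 3, 3, 0, 3, 1]⟩ 4 25 [2, 2, 2, 0, 2, 0, 2, 1, 3, 1, 3, 1, 3, 3, 3, 4, 2, 2, 2, 0, 2, 0, 2, 4, 1, 3, 1, 3, 1, 3, 3, 3, 4, 2, 2, 2, 0, 2, 0, 2, 1, 3, 1, 3, 1, 3, 3, 3] [⟨178, true, [], [0, 2, 2, 2, 0, 2, 2, 0, 2, 2, 2, 0, 2, 1, 2]⟩, ⟨69, true, [], [2, 2, 2, 2, 2, 0, 2, 1]⟩, ⟨69, false, [23, 18, 23], [0, 3, 0, 3, 3, 3, 3]⟩],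
  .stab 11 [0, 2, 0, 3, 3, 0, 3, 3, 0, 2, 0, 2, 2, 2, 5, 1, 2, 2, 2] [3, 0, 3, 0, 3, 3, 0, 2, 2, 0, 2, 2, 2, 0, 3] 3 24 [4, 2, 2, 2, 0, 2, 0, 2, 0, 3, 1, 3, 1, 3, 3, 3, 4, 2, 2, 2, 0, 2, 0, 2, 0, 4, 3, 1, 3, 1, 3, 3, 3, 4, 2, 2, 2, 0, 2, 0, 2, 0, 3, 1, 3, 1, 3, 3, 3] [⟨173, true, [], [0, 3, 0, 3, 0, 3, 3, 3, 0, 3, 3, 0, 2, 2, 2]⟩, ⟨43, false, [], [3, 3, 3, 0, 3, 1]⟩, ⟨69, false, [20, 18, 20, 18], [0, 2, 0, 2, 2, 2, 0, 2, 2, 0, 2, 0]⟩, ⟨178, false, [], [0, 2, 2, 0, 2, 2, 2, 2, 0, 2, 2, 0, 2, 2, 2, 2, 2]⟩],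
  .edge ⟨11, [2, 0, 2, 2, 2, 0, 2, 2, 0, 3, 0, 2, 2, 0, 2, 1, 3, 6], 8, [0, 2, 0, 3, 0, 3, 3, 0, 2, 0, 2, 0, 2, 2, 0, 3, 3, 0, 3, 3, 1]⟩ 4 25 [2, 2, 2, 0, 2, 0, 2, 1, 3, 1, 3, 1, 3, 3, 3, 4, 2, 2, 2, 0, 2, 0, 2, 4, 1, 3, 1, 3, 1, 3, 3, 3, 4, 2, 2, 2, 0, 2, 0, 2, 1, 3, 1, 3, 1, 3, 3, 3] [⟨182, true, [], [3, 3, 0, 3, 0, 3, 3, 3, 1, 3, 3, 3]⟩, ⟨69, true, [], [0, 2, 2, 0, 3, 3, 3, 3, 0, 2, 2, 2, 2]⟩, ⟨69, false, [23, 18, 23], [0, 2, 1, 2, 2, 2]⟩],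
  .edge ⟨11, [3, 0, 2, 2, 0, 2, 2, 2, 0, 3, 3, 0, 2, 6, 1, 2, 2, 2], 8, [2, 2, 2, 0, 3, 3, 0, 3, 3, 0, 3, 3, 0, 2, 0, 3, 3, 1]⟩ 4 25 [2, 2, 2, 0, 2, 0, 2, 1, 3, 1, 3, 1, 3, 3, 3, 4, 2, 2, 2, 0, 2, 0, 2, 4, 1, 3, 1, 3, 1, 3, 3, 3, 4, 2, 2, 2, 0, 2, 0, 2, 1, 3, 1, 3, 1, 3, 3, 3] [⟨182, true, [], [2, 2, 0, 3, 3, 3, 3, 0, 3, 1, 3]⟩, ⟨69, true, [52], [2, 0, 2, 2, 2, 1, 2, 2, 2, 2, 2, 2]⟩, ⟨69, false, [21, 18, 21, 18], [3, 0, 2, 2, 2, 2, 1, 2, 2]⟩],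
  .edge ⟨10, [3, 3, 0, 3, 0, 2, 2, 2, 0, 2, 2, 2, 0, 2, 2, 2, 5], 11, [2, 2, 0, 3, 0, 3, 3, 0, 3, 6, 0, 2, 2]⟩ 4 41 [2, 2, 2, 0, 2, 0, 2, 4, 1, 3, 1, 3, 1, 3, 3, 3, 4, 2, 2, 2, 0, 2, 0, 2, 1, 3, 1, 3, 1, 3, 3, 3, 4, 2, 2, 2, 0, 2, 0, 2, 1, 3, 1, 3, 1, 3, 3, 3] [⟨142, false, [], [2, 2, 0, 2, 0, 2, 2, 0]⟩, ⟨125, true, [29, 26, 31], [2, 2, 0, 3]⟩, ⟨180, true, [59], [0, 3, 0, 2, 2, 0, 2, 2, 2, 0, 2, 0]⟩],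
  .edge ⟨10, [3, 0, 3, 3, 0, 2, 0, 3, 3, 0, 2, 2, 2, 0, 3, 0, 3, 6, 0, 3, 3], 11, [0, 2, 2, 0, 2, 2, 0, 2, 0, 3, 3, 0, 3, 3, 0, 2, 2, 0, 2, 0, 3, 3, 6, 1, 2]⟩ 4 41 [2, 2, 2, 0, 2, 0, 2, 4, 1, 3, 1, 3, 1, 3, 3, 3, 4, 2, 2, 2, 0, 2, 0, 2, 1, 3, 1, 3, 1, 3, 3, 3, 4, 2, 2, 2, 0, 2, 0, 2, 1, 3, 1, 3, 1, 3, 3, 3] [⟨142, false, [], [0, 2, 0, 3, 3, 3, 0, 3, 3, 3, 0, 3, 1]⟩, ⟨125, true, [29, 26, 31], [2, 0, 2, 0, 2, 2, 1]⟩, ⟨183, true, [62], [0, 3, 0, 3, 3, 0, 2, 2, 2, 2, 0, 2, 0]⟩],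
  .edge ⟨11, [2, 0, 3, 0, 3, 0, 2, 0, 3, 3, 0, 3, 3, 0, 2, 0, 2, 2, 6, 1, 3], 10, [0, 3, 0, 3, 0, 3, 3, 0, 3, 0, 2, 0, 2, 0, 2, 0, 3, 0, 3, 0, 2, 2, 6, 0, 2]⟩ 4 25 [2, 2, 2, 0, 2, 0, 2, 1, 3, 1, 3, 1, 3, 3, 3, 4, 2, 2, 2, 0, 2, 0, 2, 4, 1, 3, 1, 3, 1, 3, 3, 3, 4, 2, 2, 2, 0, 2, 0, 2, 1, 3, 1, 3, 1, 3, 3, 3] [⟨187, true, [], [0, 2, 0, 2, 2, 0, 2, 2, 2]⟩, ⟨142, false, [68], [0, 2, 0, 2, 1, 3, 3]⟩, ⟨142, true, [24, 28, 26, 29, 29], [3, 0, 3, 0]⟩],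
  .edge ⟨11, [3, 0, 3, 0, 3, 3, 0, 3, 0, 2, 2, 2, 0, 3, 3, 0, 3, 0, 3, 3, 0, 2, 6], 10, [2, 0, 2, 2, 0, 2, 2, 0, 3, 0, 3, 0, 3, 0, 3, 3, 6, 0]⟩ 4 25 [2, 2, 2, 0, 2, 0, 2, 1, 3, 1, 3, 1, 3, 3, 3, 4, 2, 2, 2, 0, 2, 0, 2, 4, 1, 3, 1, 3, 1, 3, 3, 3, 4, 2, 2, 2, 0, 2, 0, 2, 1, 3, 1, 3, 1, 3, 3, 3] [⟨188, true, [], [0, 3, 0, 3, 3, 3, 3, 0, 2, 2, 2, 2]⟩, ⟨142, false, [64, 68], [2, 2, 2, 0, 2, 2, 2, 0, 2, 0, 3]⟩, ⟨142, true, [29, 26, 30, 26], [2, 0, 2, 2, 0, 2, 2, 2, 2, 0]⟩],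
  .edge ⟨11, [0, 3, 0, 3, 3, 0, 2, 2, 0, 3, 3, 0, 2, 2, 0, 2, 0, 2, 2, 2, 0, 2, 1, 6], 10, [0, 2, 2, 0, 3, 3, 0, 2, 2, 0, 2, 0, 2, 0, 2, 2, 0, 2, 2, 2, 0, 2, 0, 2, 0, 6]⟩ 4 25 [2, 2, 2, 0, 2, 0, 2, 1, 3, 1, 3, 1, 3, 3, 3, 4, 2, 2, 2, 0, 2, 0, 2, 4, 1, 3, 1, 3, 1, 3, 3, 3, 4, 2, 2, 2, 0, 2, 0, 2, 1, 3, 1, 3, 1, 3, 3, 3] [⟨187, true, [], [2, 2, 2, 2, 1, 2, 2, 2, 2, 2]⟩, ⟨142, false, [], [2, 2, 2, 2, 2, 0, 2, 2, 0, 3]⟩, ⟨142, true, [29, 26, 30], [0, 2, 2, 0, 2, 0, 2, 2, 0, 2, 2]⟩],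
  .edge ⟨11, [2, 2, 0, 3, 0, 3, 3, 0, 2, 2, 0, 2, 0, 3, 3, 0, 2, 0, 2, 2, 2, 0, 6], 10, [0, 2, 0, 2, 0, 3, 3, 0, 2, 0, 2, 2, 0, 2, 2, 0, 2, 0, 3, 3, 5, 1, 3]⟩ 4 25 [2, 2, 2, 0, 2, 0, 2, 1, 3, 1, 3, 1, 3, 3, 3, 4, 2, 2, 2, 0, 2, 0, 2, 4, 1, 3, 1, 3, 1, 3, 3, 3, 4, 2, 2, 2, 0, 2, 0, 2, 1, 3, 1, 3, 1, 3, 3, 3] [⟨188, true, [], [2, 0, 3, 3, 3, 3, 0, 3, 3, 3]⟩, ⟨142, false, [], [2, 0, 2, 0, 2, 1, 3, 3, 3]⟩, ⟨142, true, [31, 26, 28], [0, 3, 0, 3, 3, 0, 2, 2, 2, 1, 3, 3]⟩],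
  .edge ⟨11, [2, 0, 2, 0, 3, 0, 3, 0, 3, 3, 0, 3, 0, 2, 2, 0, 3, 0, 2, 2, 0, 3, 1, 3, 5], 11, [2, 0, 2, 0, 3, 0, 3, 0, 3, 3, 0, 3, 0, 2, 2, 0, 3, 0, 2, 2, 0, 3, 1, 3, 5]⟩ 4 25 [2, 2, 2, 0, 2, 0, 2, 1, 3, 1, 3, 1, 3, 3, 3, 4, 2, 2, 2, 0, 2, 0, 2, 4, 1, 3, 1, 3, 1, 3, 3, 3, 4, 2, 2, 2, 0, 2, 0, 2, 1, 3, 1, 3, 1, 3, 3, 3] [⟨174, false, [], [3, 0, 3, 3, 3, 0, 3, 3, 0, 3, 3, 0, 2]⟩, ⟨46, true, [42, 40, 44], [3, 3, 3, 0, 3, 3, 0, 3, 0, 3, 3]⟩, ⟨174, true, [45, 42], [3, 0, 3, 3, 3, 0, 3, 3, 0, 3, 3, 0, 2]⟩],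
  .edge ⟨11, [2, 2, 0, 2, 2, 0, 2, 0, 2, 0, 3, 0, 2, 2, 5, 1, 3, 3], 11, [0, 2, 2, 2, 0, 3, 3, 0, 2, 2, 0, 2, 0, 2, 0, 3, 3, 0, 3, 3]⟩ 4 25 [2, 2, 2, 0, 2, 0, 2, 1, 3, 1, 3, 1, 3, 3, 3, 4, 2, 2, 2, 0, 2, 0, 2, 4, 1, 3, 1, 3, 1, 3, 3, 3, 4, 2, 2, 2, 0, 2, 0, 2, 1, 3, 1, 3, 1, 3, 3, 3] [⟨184, false, [], [3, 0, 3, 0, 3, 3, 0, 3, 3, 0, 3, 3, 3, 3]⟩, ⟨70, true, [54], [2, 2, 2, 0, 2, 2, 2, 2, 1]⟩, ⟨173, false, [], [2, 2, 0, 2, 2, 0, 2, 2, 1, 2, 2, 2]⟩],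
  .edge ⟨11, [2, 0, 3, 3, 0, 2, 0, 2, 2, 0, 2, 2, 2, 0, 3, 3, 0, 3], 11, [3, 0, 2, 2, 0, 2, 0, 3, 3, 0, 2, 0, 2, 2, 0, 3, 3, 0, 3, 3, 6]⟩ 4 41 [2, 2, 2, 0, 2, 0, 2, 4, 1, 3, 1, 3, 1, 3, 3, 3, 4, 2, 2, 2, 0, 2, 0, 2, 1, 3, 1, 3, 1, 3, 3, 3, 4, 2, 2, 2, 0, 2, 0, 2, 1, 3, 1, 3, 1, 3, 3, 3] [⟨173, true, [], [0, 3, 0, 2, 2, 2, 0, 3, 3, 3, 0, 3, 3, 3]⟩, ⟨132, false, [44, 40], [3, 0, 3, 3, 0, 2, 2, 2, 1, 3, 3, 3, 3]⟩, ⟨187, false, [64], [0, 2, 2, 0, 2, 0, 3, 3, 3, 3, 3, 1]⟩],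
  .edge ⟨11, [3, 3, 0, 3, 3, 0, 3, 0, 2, 0, 2, 0, 2, 2, 0, 2, 0, 2, 1, 3], 11, [2, 0, 3, 0, 3, 3, 0, 2, 2, 0, 3, 0, 3, 3, 0, 2, 2, 0, 2, 2, 0, 3, 5]⟩ 4 25 [2, 2, 2, 0, 2, 0, 2, 1, 3, 1, 3, 1, 3, 3, 3, 4, 2, 2, 2, 0, 2, 0, 2, 4, 1, 3, 1, 3, 1, 3, 3, 3, 4, 2, 2, 2, 0, 2, 0, 2, 1, 3, 1, 3, 1, 3, 3, 3] [⟨173, true, [], [0, 2, 0, 2, 0, 3, 3, 3, 3, 0, 3, 3, 1, 3, 3]⟩, ⟨46, false, [], [2, 2, 2, 0, 2, 1, 2, 2]⟩, ⟨174, true, [45, 42], [0, 2, 0, 3, 3, 0, 3, 3, 0, 3, 3, 3, 0]⟩],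
  .edge ⟨11, [3, 3, 0, 3, 0, 2, 0, 2, 0, 3, 0, 2, 2, 0, 2, 2, 2, 0, 2, 6, 0, 3, 3], 11, [0, 2, 0, 3, 0, 3, 0, 3, 3, 0, 2, 2, 0, 2, 0, 2, 0, 2, 2, 0, 2, 0, 3, 3, 6, 0]⟩ 4 25 [2, 2, 2, 0, 2, 0, 2, 1, 3, 1, 3, 1, 3, 3, 3, 4, 2, 2, 2, 0, 2, 0, 2, 4, 1, 3, 1, 3, 1, 3, 3, 3, 4, 2, 2, 2, 0, 2, 0, 2, 1, 3, 1, 3, 1, 3, 3, 3] [⟨175, true, [], [0, 2, 2, 0, 2, 2, 2, 0, 2, 0, 3, 3, 3, 0, 2]⟩, ⟨73, true, [54], [3, 3, 0, 3, 3, 0, 3, 3, 3, 3, 1, 2]⟩, ⟨174, true, [44, 44, 40], [0, 2, 2, 0, 2, 0, 3, 3, 3, 0, 2, 2, 2, 2]⟩],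
  .edge ⟨11, [2, 0, 3, 0, 2, 2, 2, 0, 2, 0, 3, 3, 0, 3, 0, 2, 2, 0, 3, 0, 2], 11, [0, 2, 2, 0, 2, 0, 2, 2, 0, 2, 0, 3, 3, 0, 2, 0, 2, 2, 2, 0, 2, 2, 5, 1, 3]⟩ 4 25 [2, 2, 2, 0, 2, 0, 2, 1, 3, 1, 3, 1, 3, 3, 3, 4, 2, 2, 2, 0, 2, 0, 2, 4, 1, 3, 1, 3, 1, 3, 3, 3, 4, 2, 2, 2, 0, 2, 0, 2, 1, 3, 1, 3, 1, 3, 3, 3] [⟨196, false, [], [0, 3, 0, 3, 0, 2, 2, 2, 2, 0, 2, 2, 0]⟩, ⟨174, false, [70], [3, 0, 3, 3, 3, 0, 3, 3, 0, 3, 3, 3, 3]⟩, ⟨174, true, [44, 44, 40], [2, 0, 2, 0, 2, 2, 2, 0, 2, 2, 2, 0]⟩],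
  .edge ⟨11, [0, 2, 0, 2, 0, 3, 0, 3, 0, 2, 0, 3, 3, 0, 3, 3, 6, 1, 2, 2], 11, [0, 2, 0, 3, 3, 0, 2, 0, 3, 3, 0, 2, 0, 2, 2, 0, 2, 2, 0, 2, 2, 5, 1]⟩ 4 25 [2, 2, 2, 0, 2, 0, 2, 1, 3, 1, 3, 1, 3, 3, 3, 4, 2, 2, 2, 0, 2, 0, 2, 4, 1, 3, 1, 3, 1, 3, 3, 3, 4, 2, 2, 2, 0, 2, 0, 2, 1, 3, 1, 3, 1, 3, 3, 3] [⟨184, false, [], [2, 2, 2, 2, 2, 0, 3, 3, 3, 1, 3, 3]⟩, ⟨70, true, [52, 54], [0, 2, 0, 3, 3, 0, 3, 3, 0, 3, 3, 0, 3]⟩, ⟨174, true, [42, 44], [2, 2, 2, 0, 2, 0, 2, 2, 2, 2, 2, 1]⟩],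
  .edge ⟨11, [0, 2, 2, 2, 0, 3, 0, 3, 0, 3, 3, 0, 2, 2, 0, 3, 1, 2, 2, 2, 6], 11, [2, 2, 0, 3, 3, 0, 3, 0, 3, 0, 3, 3, 0, 3, 0, 6]⟩ 4 25 [2, 2, 2, 0, 2, 0, 2, 1, 3, 1, 3, 1, 3, 3, 3, 4, 2, 2, 2, 0, 2, 0, 2, 4, 1, 3, 1, 3, 1, 3, 3, 3, 4, 2, 2, 2, 0, 2, 0, 2, 1, 3, 1, 3, 1, 3, 3, 3] [⟨177, true, [], [0, 2, 0, 2, 0, 3, 3, 3, 3, 3, 1]⟩, ⟨174, false, [70, 72], [2, 2, 0, 2, 0, 2, 0, 3, 3, 3, 3, 1, 3, 3]⟩, ⟨174, true, [44, 44, 40], [0, 2, 2, 2, 2, 2, 2, 0, 2, 2, 2, 0, 2]⟩],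
  .edge ⟨11, [2, 2, 0, 3, 0, 2, 2, 2, 0, 3, 3, 0, 2, 1, 2, 2, 6], 11, [2, 2, 2, 0, 2, 2, 0, 2, 0, 2, 2, 2, 0, 3, 0, 3, 1, 2, 2, 2]⟩ 4 25 [2, 2, 2, 0, 2, 0, 2, 1, 3, 1, 3, 1, 3, 3, 3, 4, 2, 2, 2, 0, 2, 0, 2, 4, 1, 3, 1, 3, 1, 3, 3, 3, 4, 2, 2, 2, 0, 2, 0, 2, 1, 3, 1, 3, 1, 3, 3, 3] [⟨184, false, [], [2, 2, 0, 2, 0, 2, 2, 2, 2, 2, 2]⟩, ⟨70, true, [52, 54], [3, 0, 3, 3, 3, 3, 1, 3]⟩, ⟨173, false, [], [2, 2, 2, 0, 2, 2, 2, 0, 2, 0, 3, 3, 3]⟩],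
  .node ⟨8, [3, 6, 0, 3, 3], 12, []⟩,
  .stab 12 [0, 3, 0, 2, 0, 3, 3, 0, 3, 0, 3, 3, 0, 2, 2, 0, 2, 2, 6, 0, 2] [0] 1 0 [4, 5, 4, 5, 4, 5] [⟨202, true, [], [0]⟩, ⟨82, false, [], [0, 2, 0, 2, 0, 2, 2, 2, 2, 1, 3, 3]⟩, ⟨202, false, [52, 54], [2, 2, 0, 2, 0, 2, 0, 3, 3, 3, 3, 1, 3]⟩],
  .stab 12 [2, 2, 0, 2, 0, 2, 0, 3, 0, 3, 3, 0, 2, 0, 3, 3] [2, 0, 2, 0, 2, 0, 3, 0, 3, 0, 2, 0, 2, 2, 0, 3, 0, 3, 1, 2, 2, 2] 3 40 [4, 2, 2, 2, 0, 2, 0, 2, 0, 4, 3, 1, 3, 1, 3, 3, 3, 4, 2, 2, 2, 0, 2, 0, 2, 0, 3, 1, 3, 1, 3, 3, 3, 4, 2, 2, 2, 0, 2, 0, 2, 0, 3, 1, 3, 1, 3, 3, 3] [⟨202, true, [], [2, 2, 2, 0, 2, 2, 0, 2, 2, 1, 3]⟩, ⟨160, true, [52],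 [3, 0, 2, 2, 2, 2, 2, 0, 2, 1, 2]⟩, ⟨161, true, [68], [2, 2, 0, 2, 0, 2, 2, 2, 0, 2, 0, 2, 2]⟩, ⟨202, false, [54], [0, 2, 0, 3, 3, 3, 0, 3, 3, 0, 3, 3, 3, 0]⟩],
  .edge ⟨12, [0, 3, 3, 0, 3, 0, 2, 0, 2, 0, 3, 0, 3, 3, 0, 2, 0, 2, 0, 3, 0, 2, 2, 1], 12, [0, 3, 0, 3, 0, 2, 0, 2, 0, 2, 2, 2, 0, 3, 0, 3, 3, 0, 3, 0]⟩ 4 25 [2, 2, 2, 0, 2, 0, 2, 1, 3, 1, 3, 1, 3, 3, 3, 4, 2, 2, 2, 0, 2, 0, 2, 4, 1, 3, 1, 3, 1, 3, 3, 3, 4, 2, 2, 2, 0, 2, 0, 2, 1, 3, 1, 3, 1, 3, 3, 3] [⟨202, true, [], [2, 2, 2, 0, 2, 2, 2, 2, 2, 2]⟩, ⟨113, true, [], [0, 2, 2, 2, 2, 2, 0, 2, 0]⟩, ⟨202, false, [], [0, 3, 0, 2, 2, 2, 2, 0, 3, 3]⟩],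
  .stab 12 [2, 2, 0, 3, 3, 0, 3, 0, 2, 2, 0, 2, 2, 0] [0, 2, 0, 2, 2, 2, 0, 2, 0, 2, 2, 0, 3, 0, 3, 3, 1, 3, 3] 3 40 [4, 2, 2, 2, 0, 2, 0, 2, 0, 4, 3, 1, 3, 1, 3, 3, 3, 4, 2, 2, 2, 0, 2, 0, 2, 0, 3, 1, 3, 1, 3, 3, 3, 4, 2, 2, 2, 0, 2, 0, 2, 0, 3, 1, 3, 1, 3, 3, 3] [⟨202, true, [], [0, 2, 2, 0, 3, 3, 3, 3, 0, 3, 3, 3, 0]⟩, ⟨118, true, [52, 54], []⟩, ⟨202, false, [54], [3, 3, 3, 0, 3, 3, 0, 3, 3, 3, 3, 0, 3, 0]⟩, ⟨203, true, [76], [0, 2, 0, 2, 0, 2, 2, 1, 2, 2]⟩],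
  .edge ⟨12, [3, 0, 3, 0, 2, 2, 2], 10, [3, 3, 0, 2, 0, 2, 0, 3, 0, 2, 2, 0, 2, 0, 3, 3, 1, 5]⟩ 4 41 [2, 2, 2, 0, 2, 0, 2, 4, 1, 3, 1, 3, 1, 3, 3, 3, 4, 2, 2, 2, 0, 2, 0, 2, 1, 3, 1, 3, 1, 3, 3, 3, 4, 2, 2, 2, 0, 2, 0, 2, 1, 3, 1, 3, 1, 3, 3, 3] [⟨202, true, [], []⟩, ⟨162, true, [52], [0, 3, 0, 2, 2, 2, 0, 3, 3, 3]⟩, ⟨165, true, [], [0, 2, 0, 3, 3, 0, 3, 1, 2, 2, 2]⟩],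
  .edge ⟨12, [3, 0, 2, 0, 3, 3, 0, 2, 2, 0, 2, 2, 0, 3, 3, 0, 2, 2, 0], 12, [2, 2, 2, 0, 3, 0, 3, 3, 0, 3, 0, 3, 0, 3, 3, 1, 2]⟩ 4 25 [2, 2, 2, 0, 2, 0, 2, 1, 3, 1, 3, 1, 3, 3, 3, 4, 2, 2, 2, 0, 2, 0, 2, 4, 1, 3, 1, 3, 1, 3, 3, 3, 4, 2, 2, 2, 0, 2, 0, 2, 1, 3, 1, 3, 1, 3, 3, 3] [⟨204, false, [], [0, 2, 2, 2, 2, 0, 3, 3, 3, 0, 2, 2]⟩, ⟨162, false, [], [2, 2, 0, 3, 3, 3, 0, 2, 2, 2, 0, 2, 2]⟩, ⟨202, false, [52], [2, 2, 0, 2, 2, 2, 2, 2, 2, 0, 3]⟩],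
  .node ⟨9, [3, 0, 3, 0, 3, 3, 6], 13, []⟩,
  .stab 13 [0, 0] [1] 0 0 [4, 4] [⟨206, true, [], [1]⟩, ⟨206, false, [60, 60], [1]⟩],
  .stab 13 [0, 3, 0, 3, 0, 3, 0, 2, 0, 2, 2, 0, 2, 0, 3, 3, 0, 3, 3, 0, 2, 0, 2, 2, 0, 2] [2, 0, 3, 3, 0, 3, 0, 3, 0, 2, 0, 2, 0, 2, 2, 0, 3] 0 0 [4, 4] [⟨206, true, [], [3, 1, 2]⟩, ⟨206, false, [60], [0, 2, 0, 3]⟩],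
  .stab 13 [0, 2, 2, 0, 2, 0, 2, 2, 0, 3, 3, 0, 3, 0, 3, 0, 2, 0, 2, 2, 2, 0, 3, 3] [2, 2, 0, 2, 2, 0, 3, 0, 2, 2, 0, 2, 0, 2, 2, 2, 0, 2, 1] 0 0 [4, 4] [⟨206, true, [], [0, 0, 2, 2, 2, 2, 2]⟩, ⟨206, false, [62, 61], [0, 3, 0, 3, 3, 0]⟩],
  .stab 13 [5] [] 1 0 [4, 5, 4, 5, 4, 5] [⟨206, true, [], []⟩, ⟨124, true, [62], [0, 2, 2, 2, 2, 2, 1, 3, 3]⟩, ⟨206, false, [60, 60, 62], []⟩],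
  .edge ⟨13, [2, 0, 3, 0, 3, 3, 0, 2, 0, 2, 0, 2, 0, 3, 0, 3, 0, 2, 2, 0, 3, 0], 13, [2, 0, 3, 0, 3, 3, 0, 2, 0, 2, 0, 2, 0, 3, 0, 3, 0, 2, 2, 0, 3, 1]⟩ 4 25 [2, 2, 2, 0, 2, 0, 2, 1, 3, 1, 3, 1, 3, 3, 3, 4, 2, 2, 2, 0, 2, 0, 2, 4, 1, 3, 1, 3, 1, 3, 3, 3, 4, 2, 2, 2, 0, 2, 0, 2, 1, 3, 1, 3, 1, 3, 3, 3] [⟨206, true, [], [3, 3, 3, 0, 3, 0, 3, 1, 2]⟩, ⟨129, true, [57, 58], [2, 2, 2, 0, 3, 3, 3, 3, 0, 2]⟩, ⟨206, false, [58, 60, 60, 62], [3, 3, 3, 0, 3, 0, 3, 0, 2]⟩],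
  .stab 13 [3, 0, 2, 2, 0, 3, 3, 0, 3, 0, 2, 2, 0, 2, 2, 0, 3, 0, 3, 3, 0, 2, 0, 2, 0] [0, 2, 0, 2, 0, 3, 0, 2, 2, 0, 2, 2, 2, 0, 3, 3, 0, 3, 1, 2] 3 40 [4, 2, 2, 2, 0, 2, 0, 2, 0, 4, 3, 1, 3, 1, 3, 3, 3, 4, 2, 2, 2, 0, 2, 0, 2, 0, 3, 1, 3, 1, 3, 3, 3, 4, 2, 2, 2, 0, 2, 0, 2, 0, 3, 1, 3, 1, 3, 3, 3] [⟨206, true, [], [0, 2, 0, 2, 2, 2]⟩, ⟨129, false, [57, 62, 60], [2, 2, 2, 0, 2, 0, 2, 2]⟩, ⟨129, true, [58, 57, 61], [0, 3, 3, 0, 3, 0, 3, 3, 3, 1, 3]⟩, ⟨206, false, [57, 61, 62], [2, 0, 2, 2, 2]⟩]]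

/-- all edges -/
def edges : List Ed := [
  ⟨0, [], 0, []⟩,
  ⟨0, [5], 1, []⟩,
  ⟨1, [1, 5], 1, [0, 6]⟩,
  ⟨1, [0, 5], 1, [6]⟩,
  ⟨1, [2], 2, []⟩,
  ⟨2, [0, 0, 5], 2, [6]⟩,
  ⟨1, [3, 0, 3, 0, 2, 2, 2], 2, [0, 2, 0, 2, 0, 3, 0, 3, 3, 0, 3, 0, 2, 2, 0, 2, 2, 0, 3, 0, 3, 3, 0, 3, 1]⟩,
  ⟨2, [3, 5], 2, [0, 2, 2, 0, 2, 0, 2, 2, 2, 0, 3, 0, 3, 3, 0, 3, 3, 0, 2, 0, 2, 6, 0, 2]⟩,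
  ⟨2, [2, 2, 2, 0, 2, 2, 0, 3, 3, 0, 3, 0, 2, 2, 5, 0, 2, 2, 2], 1, [3, 0, 3, 0, 2, 2, 2, 0, 6]⟩,
  ⟨2, [0, 2, 0, 2, 0, 3, 0, 3, 3, 0, 3, 0, 2, 2, 0, 2, 2, 0, 3, 0, 3, 3, 0, 3, 1, 5], 2, [0, 2, 0, 2, 0, 3, 0, 3, 3, 0, 3, 0, 2, 2, 0, 2, 2, 0, 3, 0, 3, 3, 0, 3, 0, 6]⟩,
  ⟨2, [0, 2, 0, 2, 0, 3, 0, 3, 3, 0, 3, 0, 2, 2, 0, 2, 2, 0, 3, 0, 3, 3, 0, 3, 0, 5], 2, [2, 2, 2, 0, 2, 2, 0, 3, 3, 0, 3, 0, 2, 2, 0, 2, 2, 2, 5, 0]⟩,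
  ⟨1, [3, 0, 3, 0, 2, 2, 2, 0, 2, 0, 2, 0, 2, 2, 6, 1, 3], 1, [3, 0, 3, 0, 3, 3, 0, 2, 0, 2, 2, 0, 3, 6]⟩,
  ⟨1, [2, 6], 3, []⟩,
  ⟨2, [5], 3, [6]⟩,
  ⟨2, [0, 3, 3, 0, 2, 2, 2, 0, 2, 2, 2, 0, 2, 0, 2, 2, 5], 3, [0, 3, 3, 0, 2, 2, 2, 0, 2, 2, 2, 0, 2, 1, 2, 2, 6]⟩,
  ⟨3, [0, 3, 3, 0, 2, 2, 2, 0, 2, 2, 2, 0, 2, 1, 2, 2, 5], 3, [0, 3, 3, 0, 2, 2, 2, 0, 2, 2, 2, 0, 2, 0, 2, 2, 6]⟩,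
  ⟨3, [2, 0, 3, 3, 0, 3, 0, 2, 2, 0, 3, 0, 3, 3, 0, 3, 3, 0, 2, 0, 6], 3, [2, 2, 0, 2, 2, 2, 0, 3, 0, 3, 0, 2, 2, 2, 0, 2, 0, 2, 2, 0, 3]⟩,
  ⟨3, [0, 3, 0, 3, 0, 3, 3, 0, 2, 2, 6, 0, 2], 3, [0, 2, 2, 2, 0, 2, 2, 0, 2, 0, 3, 3, 0, 2, 1, 2, 2]⟩,
  ⟨3, [0, 2, 2, 0, 2, 0, 3, 3, 0, 3, 0, 2, 2, 0, 3, 0, 2, 2, 2, 0, 2, 0, 2, 5, 1], 3, [0, 2, 2, 0, 2, 0, 3, 3, 0, 3, 0, 2, 2, 0, 3, 0, 2, 2, 2, 0, 2, 0, 2, 5, 0]⟩,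
  ⟨3, [2, 0, 2, 0, 3, 0, 2, 2, 2, 0, 3, 3, 0, 2, 0, 2, 2, 0, 2, 0, 3, 6, 0], 3, [3, 0, 2, 2, 2, 0, 3, 0, 2, 2, 0, 3, 3, 0, 3, 0, 2, 2, 0]⟩,
  ⟨3, [2, 2, 0, 2, 2, 0, 2, 0, 2, 2, 2, 6], 3, [0, 3, 0, 2, 2, 0, 2, 0, 3, 0, 3, 3, 0, 3, 0, 2, 2, 0, 3, 0, 3, 3, 5, 0, 2]⟩,
  ⟨3, [3, 0, 3, 0, 3, 0, 2, 2, 0, 2, 0, 2, 0, 2, 2, 2, 0, 2, 2, 5], 3, [0, 3, 0, 2, 2, 0, 2, 0, 3, 0, 3, 3, 0, 3, 0, 2, 2, 0, 3, 0, 3, 3, 6, 0, 2]⟩,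
  ⟨1, [0, 2, 6], 4, []⟩,
  ⟨2, [0, 3, 3, 0, 2, 2, 2, 0, 2, 2, 2, 0, 2, 1, 2, 2, 5], 4, [6]⟩,
  ⟨3, [5], 4, [0, 3, 3, 0, 2, 2, 2, 0, 2, 2, 2, 0, 2, 1, 2, 2, 6]⟩,
  ⟨4, [2, 0, 3, 3, 0, 3, 0, 2, 2, 0, 3, 0, 3, 3, 0, 3, 3, 0, 2, 1], 4, [2, 0, 3, 3, 0, 3, 0, 2, 2, 0, 3, 0, 3, 3, 0, 3, 3, 0, 2, 0]⟩,
  ⟨4, [0, 3, 0, 3, 0, 3, 3, 0, 2, 2, 0, 2, 2, 0, 2, 0, 3, 1, 3], 4, [0, 2, 2, 2, 0, 2, 0, 2, 0, 3, 0, 3, 0, 2, 2, 2]⟩,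
  ⟨4, [0, 2, 0, 2, 0, 3, 0, 2, 2, 0, 2, 2, 0, 3, 0, 3, 0, 3, 0], 4, [0, 2, 0, 2, 0, 3, 3, 0, 3, 3, 0, 3, 0, 2, 0, 2, 0, 2, 2, 0, 3, 1]⟩,
  ⟨4, [0, 2, 2, 0, 2, 2, 0, 2, 0, 2, 2, 0, 2, 1, 3], 4, [3, 0, 3, 3, 0, 2, 0, 3, 3, 0, 2, 0, 2, 2, 0, 3, 0, 3, 0, 2, 0, 2]⟩,
  ⟨4, [3, 0, 2, 0, 2, 2, 0, 3, 0, 3, 0, 2, 0, 2, 0, 2, 2, 0, 3, 0, 3, 3, 1, 3, 6], 4, [2, 2, 0, 2, 0, 3, 3, 0, 3, 0, 2, 2, 0, 3, 0, 2, 2, 5, 0, 2, 2]⟩,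
  ⟨4, [2, 2, 0, 2, 2, 0, 2, 6, 0, 2, 2, 2], 4, [2, 2, 0, 3, 3, 0, 3, 3, 0, 2, 2, 0, 3, 3, 0, 3, 0, 3, 5, 0, 3, 3]⟩,
  ⟨4, [2, 2, 0, 3, 0, 2, 2, 0, 3, 6, 0, 3, 3], 4, [3, 3, 0, 3, 0, 2, 2, 0, 2, 2, 0, 3, 3, 0, 3, 0, 3, 0, 3, 3, 0, 3, 1, 2, 6]⟩,
  ⟨2, [2], 5, []⟩,
  ⟨2, [2, 5], 6, []⟩,
  ⟨5, [5], 6, [0, 2, 0, 3, 3, 0, 2, 0, 2, 2, 0, 2, 0, 3, 3, 0, 2, 1, 6]⟩,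
  ⟨6, [1, 5], 6, [3, 0, 3, 0, 3, 0, 2, 0, 2, 2, 0, 3, 3, 0, 2, 2, 0, 2, 0, 2, 0, 3, 6]⟩,
  ⟨3, [0, 3, 0, 2, 2, 0, 2, 2, 0, 2, 0, 3, 0, 3, 0, 2, 0, 2, 2, 1], 6, [2, 2, 0, 3, 3, 0, 3, 0, 3, 0, 3, 3, 0, 2, 2, 0, 2, 0, 2, 2, 1, 2]⟩,
  ⟨6, [0, 3, 3, 0, 2, 0, 2, 0, 3, 0, 2, 2, 0, 2, 0, 2, 2, 0, 3, 3, 1, 3], 3, [3, 0, 2, 0, 2, 2, 0, 3, 0, 3, 3, 0, 3, 0, 2, 0, 2, 0, 3, 1, 3]⟩,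
  ⟨6, [0, 2, 0, 2, 2, 0, 3, 0, 3, 0, 2, 0, 2, 0, 2, 2, 1, 3], 6, [0, 2, 0, 2, 2, 2, 0, 2, 2, 0, 3, 0, 3, 3, 0, 2, 2, 0, 2, 0, 3, 3, 0, 2]⟩,
  ⟨6, [3, 0, 2, 0, 2, 0, 2, 2, 0, 3, 0, 2, 2, 0, 2, 1, 3], 6, [0, 2, 0, 3, 0, 3, 0, 2, 0, 2, 2, 0, 3, 0, 3, 3, 0, 3, 0, 3, 1]⟩,
  ⟨6, [2, 2, 2, 0, 2, 0, 2, 0, 2, 2, 0, 3, 3, 0, 2], 6, [0, 2, 2, 0, 2, 0, 2, 2, 0, 2, 0, 3, 0, 3, 0, 2, 0, 2, 0, 2, 2, 0, 2, 1, 3]⟩,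
  ⟨6, [0, 2, 0, 3, 0, 3, 0, 3, 3, 0, 2, 2, 0, 2, 2, 0, 2, 0, 3], 6, [0, 2, 0, 3, 0, 3, 0, 3, 3, 0, 2, 2, 0, 2, 2, 0, 2, 0, 3]⟩,
  ⟨6, [0, 3, 0, 2, 2, 0, 2, 2, 0, 3, 0, 3, 0, 2, 0, 3, 3, 1, 3, 3, 5], 6, [2, 2, 0, 2, 2, 0, 2, 0, 2, 0, 3, 0, 3, 3, 0, 2, 0, 2, 2, 0, 2, 6]⟩,
  ⟨6, [2, 0, 3, 0, 2, 2, 0, 2, 0, 3, 0, 3, 3, 0, 3, 3, 1, 5], 3, [3, 0, 2, 0, 2, 0, 2, 2, 0, 3, 3, 0, 2, 2, 0, 2, 6, 0, 2, 2]⟩,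
  ⟨6, [3, 0, 3, 0, 3, 3, 0, 2, 2, 0, 3, 0, 3, 3, 0, 3, 0, 3, 3, 0, 2, 2, 1, 5], 6, [0, 3, 0, 2, 2, 0, 2, 0, 2, 0, 3, 0, 3, 0, 2, 0, 2, 0, 2, 6, 0, 3]⟩,
  ⟨4, [3, 0, 3, 0, 2, 0, 2, 2, 0, 3, 3, 0, 3, 0, 3, 0, 2, 0, 2, 0, 5], 6, [3, 0, 3, 0, 3, 3, 0, 2, 2, 0, 2, 0, 2, 2, 0, 3, 0, 2, 2, 6, 0, 3]⟩,
  ⟨6, [3, 0, 3, 3, 0, 3, 3, 0, 2, 2, 0, 3, 3, 0, 2, 2, 2, 5, 1], 6, [0, 3, 0, 3, 0, 2, 2, 0, 2, 1, 3, 3, 6]⟩,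
  ⟨6, [0, 2, 2, 2, 0, 2, 2, 0, 3, 3, 0, 2, 2, 0, 2, 0, 2, 2, 0, 2, 2, 2, 0, 5], 6, [0, 2, 0, 2, 2, 0, 2, 0, 3, 0, 3, 0, 3, 3, 0, 2, 2, 0, 3, 5]⟩,
  ⟨2, [2, 0, 5], 7, []⟩,
  ⟨5, [1, 5], 7, [0, 3, 0, 3, 0, 3, 0, 2, 0, 2, 2, 0, 3, 3, 0, 2, 2, 0, 2, 0, 2, 0, 3, 6]⟩,
  ⟨6, [0, 5], 7, [0, 3, 0, 3, 0, 3, 0, 2, 0, 2, 2, 0, 3, 3, 0, 2, 2, 0, 2, 0, 2, 1, 3, 6]⟩,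
  ⟨6, [0, 0, 5], 7, [1, 6]⟩,
  ⟨7, [1, 5], 7, [2, 0, 3, 3, 0, 2, 0, 2, 2, 0, 2, 0, 3, 3, 0, 2, 1, 6]⟩,
  ⟨3, [0, 3, 3, 0, 2, 0, 3, 3, 0, 2, 2, 2, 0, 3, 0, 3, 1, 3, 3, 5], 7, [0, 2, 0, 3, 0, 2, 2, 0, 3, 0, 2, 2, 2, 0, 2, 0, 3, 0, 3, 0, 2, 1, 3]⟩,
  ⟨7, [3, 0, 3, 3, 0, 2, 2, 0, 2, 2, 0, 3, 3, 0, 3, 0, 3, 0, 3, 3, 1, 3], 7, [3, 3, 0, 2, 2, 2, 0, 3, 0, 3, 0, 2, 0, 2, 2]⟩,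
  ⟨7, [0, 2, 2, 0, 3, 3, 0, 2, 0, 2, 2, 0, 3, 0, 3, 3, 0, 3, 1, 2, 2, 2], 7, [2, 0, 2, 0, 3, 3, 0, 3, 0, 3, 0, 2, 2, 0, 2, 0, 2, 0, 3, 0, 3, 3]⟩,
  ⟨7, [0, 2, 0, 3, 0, 2, 2, 0, 2, 0, 3, 0, 2, 2, 0, 2, 2, 0, 2, 2, 2, 1], 7, [3, 0, 2, 2, 0, 3, 0, 2, 2, 0, 2, 0, 2, 2, 0, 3, 3, 1]⟩,
  ⟨4, [3, 0, 3, 0, 2, 0, 2, 0, 2, 0, 3, 3, 0, 3, 0, 3, 3, 1, 2, 2, 6], 7, [2, 2, 2, 0, 3, 0, 3, 3, 0, 3, 0, 3, 0, 2, 0, 2, 2, 2, 1, 3, 3]⟩,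
  ⟨7, [3, 0, 3, 3, 0, 3, 0, 3, 3, 0, 2, 0, 2, 0, 3, 1, 2], 7, [0, 2, 0, 3, 0, 2, 2, 0, 3, 0, 2, 2, 2, 0, 3, 3, 0, 3, 0, 3, 1, 3]⟩,
  ⟨7, [3, 0, 3, 3, 0, 2, 0, 2, 0, 3, 0, 2, 2, 0, 3, 3, 1, 3, 3], 7, [3, 3, 0, 3, 0, 2, 0, 2, 0, 2, 2, 0, 2, 0, 3, 3, 1, 3, 3]⟩,
  ⟨7, [2, 0, 2, 0, 2, 2, 2, 0, 3, 0, 2, 2, 0, 2, 2, 2, 0, 2, 0, 3], 7, [0, 3, 3, 0, 3, 3, 0, 3, 3, 0, 2, 0, 2, 2, 0, 3, 0, 3, 3, 1]⟩,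
  ⟨7, [2, 2, 2, 0, 2, 2, 0, 3, 3, 0, 2, 2, 0, 2, 0, 2, 2, 1, 3, 3, 6], 3, [2, 2, 0, 2, 0, 3, 0, 3, 0, 3, 3, 0, 2, 0, 2, 0, 2, 0, 3, 0, 3, 1, 2, 2, 5]⟩,
  ⟨7, [0, 3, 3, 0, 2, 0, 2, 0, 2, 2, 2, 0, 3, 0, 3, 3, 5, 0, 2, 2], 7, [3, 0, 2, 0, 3, 3, 0, 2, 1, 2, 5]⟩,
  ⟨7, [0, 3, 0, 2, 2, 0, 2, 2, 0, 3, 3, 0, 2, 2, 0, 3, 5], 7, [0, 3, 3, 0, 3, 0, 2, 2, 0, 3, 0, 3, 3, 0, 3, 0, 3, 3, 1, 2, 5]⟩,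
  ⟨7, [0, 2, 0, 3, 0, 3, 0, 3, 3, 0, 2, 2, 0, 3, 3, 0, 3, 3, 0, 2, 5, 1, 2], 6, [3, 0, 2, 2, 0, 3, 0, 3, 3, 0, 3, 0, 2, 2, 0, 2, 0, 2, 2, 0, 5]⟩,
  ⟨6, [3, 0, 2, 0, 3, 3, 0, 2, 0, 3, 3, 5, 1, 3], 7, [2, 2, 2, 0, 2, 0, 3, 0, 3, 0, 3, 0, 2, 0, 3, 3, 6, 0, 3, 3]⟩,
  ⟨7, [2, 0, 2, 0, 3, 0, 3, 3, 0, 2, 0, 2, 2, 0, 3, 3, 0, 3, 0, 2, 5], 7, [2, 0, 3, 0, 3, 3, 0, 2, 0, 2, 0, 3, 0, 3, 6, 0]⟩,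
  ⟨6, [2, 0, 3, 0, 3, 0, 3, 3, 0, 3, 0, 2, 2, 0, 2, 0, 3, 1, 6], 7, [0, 3, 0, 3, 3, 0, 2, 2, 0, 3, 3, 0, 3, 0, 3, 0, 3, 3, 0, 2, 2, 2, 0, 2, 5, 1]⟩,
  ⟨7, [0, 2, 0, 2, 0, 3, 0, 2, 2, 0, 3, 3, 0, 3, 0, 3, 0, 2, 0, 2, 2, 2, 0, 2, 1, 2, 5], 7, [2, 2, 0, 2, 0, 2, 0, 3, 0, 2, 2, 0, 3, 3, 0, 3, 3, 0, 2, 1, 2, 2, 6]⟩,
  ⟨3, [2, 5], 8, []⟩,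
  ⟨6, [0, 3, 0, 2, 2, 0, 2, 2, 0, 3, 0, 3, 0, 2, 0, 3, 3, 0, 3, 3, 0, 5], 8, [2, 0, 2, 0, 2, 0, 2, 2, 0, 2, 2, 0, 3, 0, 2, 2, 1, 3, 3, 6]⟩,
  ⟨6, [0, 3, 0, 2, 2, 0, 2, 2, 0, 3, 0, 3, 0, 2, 0, 3, 3, 0, 3, 3, 5], 8, [0, 0, 6]⟩,
  ⟨8, [0, 5], 8, [2, 0, 2, 0, 2, 0, 2, 2, 0, 2, 2, 0, 3, 0, 2, 2, 0, 3, 3, 6]⟩,
  ⟨6, [3, 0, 2, 0, 2, 2, 0, 2, 0, 3, 3, 0, 3, 0, 2, 2, 2, 0, 3, 3, 5, 0, 2], 8, [2, 2, 0, 3, 0, 2, 2, 0, 3, 3, 0, 3, 0, 2, 2, 0, 3, 0, 3, 0]⟩,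
  ⟨7, [0, 2, 0, 3, 3, 0, 3, 0, 3, 0, 3, 3, 0, 2, 2, 0, 3, 3, 0, 3, 3, 6, 0, 3], 8, [2, 2, 0, 3, 0, 3, 3, 0, 2, 0, 3, 3, 0, 2, 0, 2, 2, 0, 2, 2, 5, 0, 2, 2]⟩,
  ⟨8, [0, 3, 0, 3, 0, 3, 0, 2, 0, 2, 0, 3, 0, 3, 0, 3, 3, 0, 2, 2, 2, 6, 0], 8, [3, 0, 3, 3, 0, 2, 0, 2, 0, 3, 0, 2, 2, 0, 2, 2, 0, 3, 0, 2, 2, 2]⟩,
  ⟨8, [0, 3, 0, 2, 2, 2, 0, 2, 0, 2, 0, 2, 2, 0, 2, 0, 3, 0, 2, 2], 8, [0, 3, 3, 0, 3, 0, 3, 3, 0, 3, 0, 2, 0, 2, 0, 3, 0, 2, 2, 0, 3, 6, 0, 3]⟩,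
  ⟨8, [2, 0, 2, 0, 2, 0, 3, 0, 2, 2, 0, 2, 0, 3, 3, 0, 2, 5, 1], 6, [0, 2, 2, 0, 2, 0, 2, 0, 3, 3, 0, 3, 0, 3, 0, 2, 0, 2, 0, 5]⟩,
  ⟨8, [2, 0, 2, 0, 2, 2, 0, 3, 3, 0, 3, 0, 3, 0, 2, 2, 0, 2, 0, 3, 1, 5], 8, [0, 3, 0, 2, 2, 0, 2, 0, 3, 3, 0, 3, 0, 3, 3, 0, 3, 0]⟩,
  ⟨8, [2, 0, 2, 2, 0, 3, 3, 0, 3, 0, 3, 0, 2, 2, 2, 0, 3, 3, 0, 2, 5, 1, 3, 3], 8, [3, 0, 3, 0, 3, 0, 2, 0, 2, 0, 3, 0, 3, 0, 3, 3, 0, 2, 2, 2]⟩,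
  ⟨8, [2, 0, 3, 3, 0, 2, 0, 2, 2, 0, 3, 3, 0, 2, 0, 2, 2, 2, 1], 8, [3, 3, 0, 3, 0, 2, 0, 2, 2, 0, 2, 0, 3, 3, 0, 3, 0, 3, 3, 0, 2]⟩,
  ⟨8, [2, 0, 3, 3, 0, 2, 2, 0, 3, 3, 0, 3, 0, 3, 0, 3, 3, 0, 2, 2], 8, [3, 3, 0, 2, 0, 3, 3, 0, 2, 0, 2, 0, 2, 2, 0, 3, 3, 0, 2, 1, 2, 2]⟩,
  ⟨8, [3, 3, 0, 2, 0, 3, 3, 0, 2, 0, 2, 2, 0, 3, 0, 2, 2, 0, 3, 3, 1], 8, [0, 2, 0, 3, 0, 3, 0, 2, 0, 2, 0, 2, 0, 3, 0, 3, 3, 0, 3, 1]⟩,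
  ⟨6, [0, 3, 3, 0, 2, 0, 2, 0, 3, 0, 3, 3, 0, 2, 0, 2, 2, 0, 3, 3, 5], 8, [0, 2, 2, 2, 0, 2, 0, 2, 0, 3, 0, 3, 0, 3, 0, 2, 0, 2, 5, 0, 3, 3]⟩,
  ⟨8, [2, 2, 0, 2, 2, 0, 3, 0, 3, 3, 0, 3, 3, 0, 3, 0, 2, 2, 0, 2, 2, 0, 2, 2, 5], 7, [0, 3, 3, 0, 3, 0, 3, 3, 0, 3, 0, 2, 2, 0, 2, 0, 2, 2, 1, 3, 6]⟩,
  ⟨8, [0, 2, 0, 3, 3, 0, 3, 0, 2, 2, 0, 2, 0, 3, 0, 3, 0, 2, 0, 2, 2, 0, 3, 6], 7, [3, 0, 3, 3, 0, 3, 3, 0, 2, 0, 2, 2, 0, 3, 0, 3, 3, 0, 2, 2, 0, 3, 5]⟩,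
  ⟨8, [3, 0, 3, 0, 2, 2, 0, 2, 0, 2, 0, 3, 0, 2, 2, 0, 2, 2, 0, 3, 5], 6, [0, 3, 0, 3, 0, 3, 0, 2, 2, 0, 2, 0, 2, 0, 3, 0, 2, 2, 2, 0, 3, 0, 3, 6]⟩,
  ⟨8, [2, 2, 0, 2, 0, 3, 0, 3, 0, 2, 0, 2, 0, 3, 0, 2, 2, 1, 2, 2, 2, 6], 6, [3, 0, 3, 0, 2, 0, 2, 2, 0, 3, 3, 0, 2, 0, 3, 3, 6]⟩,
  ⟨8, [0, 3, 0, 3, 3, 0, 3, 3, 0, 3, 3, 0, 2, 1, 3, 3, 5], 8, [3, 3, 0, 3, 0, 2, 2, 0, 2, 0, 2, 0, 3, 0, 2, 2, 2, 0, 3, 1, 3, 6]⟩,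
  ⟨8, [0, 2, 0, 2, 0, 3, 0, 3, 0, 3, 0, 2, 0, 3, 3, 0, 3, 5, 1], 8, [2, 2, 2, 0, 2, 0, 3, 3, 0, 3, 3, 0, 2, 0, 3, 3, 5, 1, 2, 2, 2]⟩,
  ⟨8, [0, 3, 0, 2, 0, 3, 3, 0, 2, 2, 2, 0, 2, 0, 3, 3, 6, 0, 3, 3], 8, [0, 2, 2, 0, 2, 0, 3, 0, 2, 2, 0, 2, 2, 0, 3, 3, 0, 3, 0, 3, 5, 0, 2]⟩,
  ⟨8, [2, 2, 2, 0, 3, 0, 2, 2, 0, 3, 0, 3, 3, 0, 2, 2, 2, 1, 3, 5], 8, [2, 0, 3, 3, 0, 2, 0, 2, 0, 2, 2, 0, 3, 0, 3, 0, 2, 0, 2, 2, 2, 5, 1, 3]⟩,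
  ⟨6, [0, 3, 3, 0, 3, 6], 8, [3, 3, 0, 2, 2, 0, 3, 0, 2, 2, 0, 3, 0, 3, 0, 3, 0, 2, 1, 2, 6]⟩,
  ⟨8, [3, 0, 2, 0, 2, 2, 0, 2, 0, 2, 0, 3, 0, 3, 0, 2, 0, 2, 2, 0, 2, 1, 2, 2, 5], 8, [3, 3, 0, 2, 2, 2, 0, 2, 0, 3, 0, 3, 0, 2, 0, 2, 0, 3, 0, 5]⟩,
  ⟨8, [3, 0, 2, 2, 0, 2, 2, 0, 3, 0, 3, 0, 2, 0, 2, 2, 0, 2, 0, 2, 5, 0], 8, [0, 2, 0, 3, 3, 0, 2, 0, 2, 2, 0, 2, 2, 0, 2, 0, 3, 3, 0, 2, 5]⟩,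
  ⟨8, [3, 0, 3, 0, 2, 2, 0, 3, 0, 2, 2, 2, 0, 3, 0, 3, 0, 2, 0, 2, 5, 1, 3], 7, [2, 0, 3, 0, 2, 2, 2, 0, 2, 0, 3, 0, 3, 0, 3, 3, 0, 2, 2, 2, 6]⟩,
  ⟨8, [0, 2, 0, 2, 2, 0, 2, 0, 2, 0, 3, 0, 3, 0, 2, 2, 0, 3, 5, 0], 8, [0, 2, 2, 0, 2, 0, 3, 0, 3, 0, 3, 3, 0, 2, 2, 0, 3, 1, 3, 6]⟩,
  ⟨7, [0, 2, 0, 2, 2, 0, 2, 0, 2, 0, 3, 3, 0, 2, 0, 2, 2, 0, 2, 1, 2, 2, 2, 6], 8, [0, 2, 0, 3, 0, 3, 0, 2, 0, 2, 0, 3, 0, 3, 0, 3, 5, 1]⟩,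
  ⟨8, [0, 3, 0, 2, 2, 0, 2, 2, 0, 3, 3, 0, 2, 2, 0, 3, 3, 0, 3, 3, 0, 3, 5, 0, 2], 8, [3, 0, 2, 2, 0, 3, 3, 0, 3, 0, 2, 0, 2, 0, 3, 0, 2, 2, 2, 0, 5]⟩,
  ⟨8, [0, 3, 0, 3, 0, 2, 2, 0, 3, 0, 3, 3, 0, 2, 0, 2, 2, 0, 3, 3, 5, 1], 8, [0, 2, 2, 0, 3, 0, 2, 2, 2, 0, 3, 3, 0, 2, 1, 2, 2, 2, 5]⟩,
  ⟨8, [3, 0, 3, 0, 2, 0, 2, 2, 0, 2, 0, 2, 0, 3, 0, 3, 1, 2, 2, 2, 6], 8, [0, 2, 0, 3, 3, 0, 3, 0, 2, 2, 0, 2, 2, 0, 3, 0, 2, 2, 0, 3, 5, 1]⟩,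
  ⟨8, [0, 2, 2, 0, 2, 0, 2, 2, 0, 3, 0, 3, 0, 2, 6, 0, 2], 8, [3, 0, 2, 2, 2, 0, 2, 0, 2, 2, 0, 2, 2, 0, 3, 0, 3, 3, 6, 0]⟩,
  ⟨8, [0, 3, 3, 0, 2, 2, 0, 3, 0, 2, 2, 2, 0, 3, 3, 0, 2, 0, 2, 2, 2, 0, 2, 5], 8, [3, 0, 2, 2, 2, 0, 2, 0, 2, 0, 3, 0, 3, 3, 0, 3, 3, 6, 0, 2]⟩,
  ⟨8, [0, 3, 3, 0, 2, 0, 2, 2, 0, 3, 0, 3, 3, 0, 3, 6, 1, 2, 2, 2], 8, [0, 3, 0, 3, 0, 3, 0, 2, 2, 0, 3, 0, 3, 3, 0, 3, 3, 0, 2, 0, 2, 0, 2, 6, 1]⟩,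
  ⟨8, [3, 0, 2, 0, 2, 2, 0, 2, 0, 3, 3, 0, 2, 5], 8, [0, 3, 0, 2, 2, 0, 2, 0, 2, 2, 0, 2, 2, 0, 3, 0, 3, 3, 0, 3, 5, 0]⟩,
  ⟨8, [0, 2, 0, 3, 3, 0, 3, 0, 3, 0, 2, 0, 3, 3, 0, 3, 0, 2, 0, 2, 2, 0, 2, 6], 8, [0, 2, 2, 0, 2, 2, 2, 0, 3, 0, 2, 2, 0, 2, 1, 2, 5]⟩,
  ⟨8, [3, 3, 0, 2, 0, 2, 2, 0, 3, 3, 0, 2, 0, 2, 2, 0, 2, 0, 2, 2, 2, 0, 5], 7, [3, 0, 2, 2, 2, 0, 3, 0, 3, 3, 0, 2, 2, 0, 3, 3, 0, 3, 6, 0, 2]⟩,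
  ⟨8, [0, 2, 2, 0, 3, 3, 0, 2, 2, 0, 2, 0, 3, 3, 0, 2, 0, 2, 2, 0, 3, 3, 0, 6], 8, [0, 3, 0, 2, 2, 0, 2, 0, 3, 0, 2, 2, 0, 2, 2, 0, 3, 0, 3, 0, 3, 1]⟩,
  ⟨8, [3, 3, 0, 3, 0, 2, 2, 0, 3, 0, 2, 2, 0, 2, 0, 3, 0, 2, 2, 0], 8, [1, 2, 2, 2]⟩,
  ⟨8, [0, 2, 0, 2, 2, 0, 3, 0, 3, 3, 0, 2, 0, 2, 0, 3, 5, 1, 2], 8, [2, 2, 0, 2, 2, 0, 2, 0, 2, 2, 2, 0, 2, 0, 3, 0, 3, 0, 3, 3]⟩,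
  ⟨8, [3, 3, 0, 2, 2, 0, 2, 0, 2, 0, 3, 0, 3, 0, 2, 2, 0, 2, 0, 3, 6, 1, 2], 8, [2, 0, 2, 0, 3, 0, 3, 3, 0, 2, 2, 0, 2, 0, 2, 5, 1, 2, 2]⟩,
  ⟨8, [0, 3, 3, 0, 2, 0, 2, 2, 0, 2, 2, 2, 6, 1, 3], 8, [0, 3, 0, 2, 2, 0, 2, 0, 2, 0, 2, 2, 0, 2, 2, 0, 2, 2, 1, 2, 2, 2, 5]⟩,
  ⟨8, [2, 2, 2, 0, 2, 0, 2, 2, 0, 2, 0, 3, 3, 0, 3, 0, 3, 5, 0, 2], 8, [2, 0, 3, 3, 0, 3, 0, 3, 3, 0, 2, 2, 0, 3, 3, 0, 3, 0, 2, 2, 0, 2, 6]⟩,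
  ⟨8, [0, 3, 0, 2, 2, 2, 0, 2, 0, 2, 2, 0, 2, 2, 0, 3, 0, 3, 3, 0, 3, 6, 1], 8, [2, 2, 0, 2, 0, 2, 2, 2, 0, 3, 0, 3, 3, 0, 3, 3, 0, 5]⟩,
  ⟨8, [2, 0, 2, 2, 0, 2, 0, 3, 3, 0, 3, 0, 2, 2, 2, 0, 2, 2, 5, 0], 8, [0, 3, 0, 2, 0, 3, 3, 0, 2, 0, 2, 0, 3, 0, 3, 0, 3, 3, 6]⟩,
  ⟨8, [3, 3, 0, 3, 0, 3, 3, 0, 3, 0, 2, 2, 2, 0, 3, 3, 0, 3, 5, 0], 8, [3, 0, 3, 0, 2, 0, 2, 0, 3, 0, 3, 0, 2, 0, 2, 2, 0, 2, 2, 6]⟩,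
  ⟨8, [0, 3, 3, 0, 3, 3, 0, 2, 2, 0, 3, 3, 0, 3, 0, 3, 3, 0, 2, 0, 2, 2, 6], 8, [3, 0, 2, 0, 2, 0, 2, 0, 3, 3, 0, 3, 3, 0, 3, 0, 2, 2, 0, 3, 6, 0]⟩,
  ⟨8, [3, 0, 3, 3, 0, 2, 0, 2, 2, 0, 2, 0, 2, 0, 2, 2, 0, 3, 3, 1, 5], 8, [0, 3, 0, 3, 0, 2, 2, 0, 3, 0, 3, 3, 0, 3, 0, 2, 0, 2, 6, 0, 2, 2, 2]⟩,
  ⟨8, [3, 0, 3, 0, 3, 0, 2, 0, 2, 2, 0, 2, 0, 3, 3, 0, 3, 0, 3, 0, 2, 0, 3, 3, 5, 0], 8, [2, 6, 0, 3, 3]⟩,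
  ⟨8, [2, 0, 2, 2, 0, 2, 0, 2, 2, 0, 2, 2, 2, 6, 1, 2], 8, [2, 0, 2, 2, 0, 2, 5, 1, 2, 2, 2]⟩,
  ⟨3, [0, 3, 6], 9, []⟩,
  ⟨9, [3, 0, 3, 0, 3, 0, 2, 0, 2, 2, 0, 2, 0, 3, 3, 0, 3, 3, 0, 2, 0, 2, 2, 1, 2, 5], 9, [0, 0, 6]⟩,
  ⟨9, [3, 0, 3, 0, 3, 3, 0, 2, 2, 0, 2, 0, 2, 0, 2, 2, 0, 2, 0], 8, [2, 0, 2, 2, 0, 3, 3, 0, 2, 2, 2, 0, 2, 0, 3, 3, 0, 2, 0, 2, 5]⟩,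
  ⟨9, [0, 3, 3, 0, 2, 0, 2, 0, 3, 1, 3, 3], 9, [2, 0, 2, 2, 0, 3, 0, 2, 2, 0, 3, 0, 3, 3, 0, 2, 0, 2, 2, 0, 2]⟩,
  ⟨9, [0, 2, 2, 0, 2, 0, 3, 0, 3, 0, 2, 0, 2, 0, 2, 2, 2, 0, 2, 0, 3, 3], 9, [0, 2, 2, 0, 2, 0, 3, 0, 3, 0, 2, 0, 2, 0, 2, 2, 2, 0, 2, 0, 3, 3]⟩,
  ⟨9, [2, 2, 0, 3, 3, 0, 3, 0, 3, 0, 2, 0, 3, 3, 0, 2, 2, 0, 2, 2, 0, 2, 2, 2], 4, [0, 2, 2, 0, 2, 0, 2, 2, 0, 2, 0, 3, 3, 0, 3, 0, 2, 6, 1, 2, 2]⟩,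
  ⟨9, [2, 2, 0, 2, 0, 2, 2, 0, 3, 0, 2, 2, 0, 2, 0, 2, 2, 2, 0, 2, 0, 2, 5], 9, [2, 2, 0, 2, 0, 2, 2, 0, 3, 0, 2, 2, 0, 2, 0, 2, 2, 2, 0, 2, 1, 2, 6]⟩,
  ⟨9, [3, 0, 2, 2, 0, 2, 2, 0, 3, 0, 3, 3, 0, 2, 2, 0, 3, 3, 0, 3, 0, 3, 5], 9, [0, 2, 0, 2, 0, 3, 0, 3, 0, 3, 0, 2, 0, 3, 3, 0, 3, 3, 0, 2, 0, 3, 6]⟩,
  ⟨9, [3, 0, 2, 2, 0, 2, 0, 3, 0, 2, 2, 0, 2, 0, 2, 2, 0, 3, 3, 0, 3, 3, 5], 9, [3, 0, 2, 2, 0, 2, 0, 3, 0, 2, 2, 0, 2, 0, 2, 2, 0, 3, 3, 1, 3, 3, 6]⟩,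
  ⟨9, [0, 2, 2, 0, 2, 0, 3, 0, 3, 3, 0, 2, 1, 2, 2, 5], 9, [2, 2, 2, 0, 3, 3, 0, 3, 3, 0, 2, 2, 0, 2, 2, 5, 0, 3]⟩,
  ⟨9, [0, 3, 0, 3, 3, 0, 2, 0, 2, 2, 0, 3, 0, 3, 3, 0, 2, 2, 0, 2, 2, 5, 1], 9, [0, 2, 0, 2, 2, 2, 0, 3, 3, 0, 2, 2, 5, 1, 2, 2]⟩,
  ⟨3, [2, 0, 5], 10, []⟩,
  ⟨6, [0, 3, 0, 2, 2, 0, 2, 2, 0, 3, 0, 3, 0, 2, 0, 3, 3, 0, 3, 3, 1, 5], 10, [0, 0, 6]⟩,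
  ⟨8, [0, 0, 5], 10, [1, 6]⟩,
  ⟨7, [3, 3, 0, 2, 2, 0, 3, 0, 3, 3, 0, 2, 2, 0, 2, 0, 3, 3, 0, 2, 1, 3], 10, [0, 3, 0, 3, 0, 3, 0, 2, 2, 0, 3, 0, 3, 3, 0, 3, 3, 0, 2, 0]⟩,
  ⟨10, [2, 0, 3, 0, 3, 0, 2, 0, 2, 0, 3, 0, 3, 3, 0, 2, 1, 3, 3], 7, [2, 2, 0, 2, 0, 2, 2, 0, 2, 0, 3, 0, 3, 0, 2, 0, 2, 0, 2, 2, 0, 2, 0, 3]⟩,
  ⟨10, [2, 0, 2, 2, 0, 3, 0, 3, 3, 0, 3, 0, 2, 2, 0, 2, 0, 3, 3, 1, 2, 2], 7, [2, 0, 2, 2, 0, 3, 3, 0, 2, 0, 2, 2, 0, 2, 0, 2, 2]⟩,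
  ⟨10, [3, 0, 3, 3, 0, 2, 0, 2, 0, 3, 0, 2, 2, 0, 3, 3, 0, 2], 4, [0, 3, 0, 3, 3, 0, 3, 3, 0, 2, 0, 2, 2, 0, 3, 0, 3, 3, 0, 3, 6, 0]⟩,
  ⟨10, [0, 2, 2, 0, 2, 0, 3, 0, 3, 0, 2, 0, 2, 0, 3, 0, 2, 2, 2, 5, 1, 3, 3], 7, [0, 3, 0, 2, 0, 3, 3, 0, 2, 2, 0, 2, 0, 2, 0, 2, 2, 0, 3, 3, 6, 0, 3]⟩,
  ⟨10, [2, 2, 0, 2, 0, 3, 0, 3, 0, 2, 2, 0, 2, 2, 0, 3, 0, 3, 0, 2, 5, 1, 2], 8, [2, 0, 2, 2, 2, 0, 2, 0, 3, 0, 3, 0, 3, 0, 3, 3, 0, 2, 2, 0, 2, 0, 2, 2]⟩,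
  ⟨10, [2, 2, 2, 0, 2, 2, 0, 3, 3, 0, 3, 0, 3, 0, 3, 3, 1, 3, 3, 5], 8, [0, 2, 2, 0, 2, 0, 3, 0, 2, 2, 0, 3, 0, 3, 3, 0, 2, 0, 2, 2]⟩,
  ⟨8, [2, 2, 0, 3, 0, 2, 2, 0, 2, 0, 3, 0, 3, 3, 0, 3, 0, 3, 0, 2], 10, [0, 2, 2, 0, 2, 2, 0, 3, 3, 0, 3, 0, 3, 0, 2, 0, 2, 2, 0, 3, 5, 0, 2]⟩,
  ⟨10, [0, 2, 2, 0, 2, 0, 3, 0, 2, 2, 0, 2, 2, 0, 3, 3, 0, 3, 3, 0, 3, 5], 4, [2, 2, 0, 3, 0, 3, 3, 0, 2, 0, 2, 2, 0, 2, 0, 3, 3, 0, 6]⟩,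
  ⟨10, [3, 0, 3, 3, 0, 3, 0, 3, 3, 0, 2, 2, 0, 2, 0, 3, 3, 0, 2, 1, 6], 9, [2, 0, 2, 0, 3, 3, 0, 3, 3, 0, 3, 0, 2, 0, 2, 0, 2, 2, 0, 3, 1]⟩,
  ⟨10, [0, 2, 2, 0, 3, 3, 0, 2, 2, 0, 2, 2, 0, 3, 0, 3, 0, 3, 0, 2, 0, 3, 3, 0, 6], 8, [3, 0, 2, 0, 2, 2, 0, 3, 0, 3, 3, 0, 3, 1, 2, 2, 2]⟩,
  ⟨10, [2, 2, 2, 0, 2, 2, 0, 2, 0, 2, 0, 3, 0, 3, 3, 0, 2, 0, 3, 3, 1, 6], 8, [0, 2, 2, 0, 3, 3, 0, 3, 0, 2, 0, 2, 0, 3, 0, 2, 2, 0, 2, 0, 3, 3, 1, 3, 3]⟩,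
  ⟨10, [2, 0, 2, 2, 0, 3, 3, 0, 3, 0, 3, 0, 2, 0, 3, 3, 0], 10, [0, 3, 0, 3, 3, 0, 3, 0, 3, 3, 0, 2, 2, 0, 2, 0, 2, 0, 2, 2, 0, 3, 3, 0]⟩,
  ⟨10, [0, 3, 0, 3, 0, 2, 2, 2, 0, 3, 0, 3, 0, 2, 0, 3, 3, 0], 10, [0, 2, 2, 2, 0, 2, 0, 2, 0, 2, 2, 0, 3, 3, 0, 3, 3, 0]⟩,
  ⟨10, [0, 3, 0, 3, 0, 2, 0, 2, 0, 3, 0, 2, 2, 2, 0, 2, 2, 0, 3, 3, 0], 10, [2, 0, 2, 0, 3, 0, 3, 3, 0, 3, 1]⟩,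
  ⟨10, [0, 2, 0, 3, 0, 3, 0, 3, 3, 0, 2, 0, 2, 2, 0, 2, 0, 3, 0], 10, [0, 3, 0, 2, 0, 2, 2, 0, 3, 0, 3, 0, 2, 0, 3, 3, 0]⟩,
  ⟨10, [3, 0, 3, 0, 3, 0, 2, 0, 3, 3, 0, 3, 0, 2, 0, 2, 0, 3, 0, 3, 1], 10, [0, 3, 0, 3, 0, 2, 0, 3, 3, 0, 2, 0, 2, 0, 3, 0, 3, 0]⟩,
  ⟨10, [0, 2, 2, 0, 2, 0, 3, 0, 3, 0, 3, 0, 2, 2, 0, 3, 0, 2, 2, 0, 3, 0, 3, 1], 10, [2, 2, 0, 2, 0, 2, 2, 0, 3, 0, 2, 2, 2, 0, 2, 0, 3, 1]⟩,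
  ⟨10, [2, 0, 3, 3, 0, 2, 2, 0, 2, 2, 0, 2, 2, 0, 3, 0, 3, 0, 3, 0], 10, [2, 0, 3, 0, 3, 3, 0, 2, 0, 2, 0, 2, 2, 0, 3, 3, 0, 3, 3, 0]⟩,
  ⟨10, [0, 3, 3, 0, 2, 2, 2, 0, 2, 0, 3, 0, 3, 0, 2, 0, 3, 3, 0, 3, 3, 5, 1, 2], 10, [0, 2, 0, 2, 0, 3, 3, 0, 2, 0, 3, 3, 0, 3, 0, 2, 2, 0, 2, 2, 0, 2, 1, 2, 2, 5]⟩,
  ⟨10, [0, 2, 2, 0, 2, 2, 2, 0, 2, 0, 3, 0, 3, 0, 3, 3, 0, 3, 0, 2, 2, 0, 3, 1, 5], 10, [2, 0, 3, 3, 0, 3, 0, 3, 0, 2, 0, 3, 3, 0, 3, 3, 6, 0]⟩,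
  ⟨10, [2, 0, 3, 0, 3, 0, 2, 0, 2, 2, 2, 0, 2, 2, 0, 2, 6, 0], 10, [2, 0, 3, 0, 2, 2, 0, 3, 0, 2, 2, 2, 0, 2, 0, 3, 0, 3, 0, 2, 5, 0, 3]⟩,
  ⟨10, [3, 0, 2, 2, 0, 2, 0, 3, 3, 0, 3, 0, 2, 0, 2, 2, 0, 3, 1, 6], 10, [0, 2, 0, 3, 3, 0, 3, 3, 0, 2, 2, 0, 3, 3, 0, 3, 0, 3, 0, 3, 3, 5, 1, 3, 3]⟩,
  ⟨10, [0, 3, 3, 0, 2, 2, 0, 2, 0, 2, 0, 2, 2, 0, 2, 6, 0], 10, [0, 2, 2, 0, 2, 2, 0, 3, 0, 3, 3, 0, 3, 0, 3, 3, 0, 2, 2, 0, 2, 0, 3, 3, 0, 2, 6]⟩,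
  ⟨10, [0, 3, 0, 3, 0, 2, 2, 2, 6], 8, [2, 2, 0, 2, 0, 2, 0, 3, 3, 0, 3, 3, 0, 3, 3, 1, 2, 2, 2, 6]⟩,
  ⟨10, [3, 0, 3, 0, 2, 0, 2, 0, 2, 2, 0, 2, 2, 0, 2, 2, 1, 2, 5], 10, [3, 0, 3, 0, 2, 0, 2, 0, 2, 2, 0, 2, 2, 0, 2, 2, 0, 2, 6]⟩,
  ⟨10, [2, 0, 2, 2, 2, 0, 3, 3, 0, 3, 0, 2, 0, 2, 0, 3, 0, 3, 6], 8, [2, 0, 3, 3, 0, 3, 3, 0, 2, 0, 3, 3, 0, 2, 0, 2, 2, 0, 2, 1, 2, 5]⟩,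
  ⟨8, [2, 0, 2, 2, 2, 0, 3, 0, 2, 2, 0, 2, 2, 2, 6, 0, 2], 10, [3, 3, 0, 3, 0, 3, 0, 3, 3, 0, 2, 2, 0, 2, 2, 0, 3, 0, 2, 2, 2, 6]⟩,
  ⟨10, [3, 3, 0, 2, 2, 0, 2, 2, 0, 2, 0, 2, 0, 3, 0, 3, 0, 3, 3, 6, 0, 2], 8, [0, 3, 3, 0, 3, 3, 0, 3, 0, 2, 2, 0, 2, 2, 0, 3, 3, 0, 2, 2, 1, 5]⟩,
  ⟨10, [0, 3, 3, 0, 3, 3, 0, 3, 0, 3, 0, 2, 0, 2, 0, 3, 6, 0, 3, 3], 10, [3, 0, 3, 3, 0, 2, 0, 2, 2, 0, 3, 3, 0, 2, 2, 0, 2, 0, 3, 3, 6, 1, 2]⟩,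
  ⟨10, [0, 2, 2, 0, 3, 0, 2, 2, 0, 3, 0, 3, 3, 0, 3, 0, 2, 2, 0, 2, 2, 0, 3, 5, 1], 8, [0, 2, 0, 2, 2, 0, 3, 3, 0, 3, 3, 0, 3, 3, 0, 3, 0, 3, 0, 6]⟩,
  ⟨10, [2, 0, 3, 0, 3, 3, 0, 2, 2, 2, 0, 3, 0, 3, 3, 0, 2, 0, 2, 6], 10, [0, 3, 3, 0, 2, 2, 0, 3, 3, 0, 3, 0, 2, 2, 0, 3, 0, 3, 3, 6, 1, 2]⟩,
  ⟨10, [2, 2, 0, 3, 0, 2, 2, 0, 3, 0, 3, 3, 0, 2, 0, 2, 2, 1, 5], 10, [3, 0, 3, 0, 3, 3, 0, 3, 0, 2, 0, 2, 0, 2, 2, 0, 2, 2, 0, 3, 0, 3, 5, 0]⟩,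
  ⟨10, [0, 2, 0, 2, 0, 2, 0, 3, 0, 3, 0, 3, 3, 0, 3, 3, 6, 1], 10, [0, 2, 0, 2, 0, 2, 0, 3, 0, 3, 0, 3, 3, 0, 3, 3, 6]⟩,
  ⟨10, [2, 2, 0, 3, 3, 0, 3, 0, 2, 0, 2, 0, 3, 0, 3, 0, 3, 3, 0, 3, 3, 0, 3, 5], 10, [0, 3, 0, 2, 0, 2, 2, 0, 2, 2, 0, 3, 0, 3, 0, 6]⟩,
  ⟨10, [3, 3, 0, 2, 0, 2, 0, 2, 2, 0, 2, 2, 0, 2, 2, 2, 5, 1, 3], 10, [0, 2, 0, 2, 2, 2, 0, 3, 0, 3, 0, 2, 2, 5]⟩,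
  ⟨10, [0, 2, 0, 3, 0, 3, 0, 2, 0, 3, 3, 0, 2, 0, 2, 2, 0, 2, 0, 3, 0, 3, 1, 5], 10, [3, 0, 3, 3, 0, 3, 3, 0, 2, 0, 2, 2, 0, 2, 0, 3, 0, 3, 6, 1, 3]⟩,
  ⟨10, [2, 0, 2, 2, 0, 3, 3, 0, 3, 0, 2, 2, 0, 2, 0, 3, 3, 0, 3, 3, 0, 2, 2, 0, 5], 10, [2, 0, 3, 0, 3, 3, 0, 3, 3, 0, 3, 0, 2, 2, 0, 2, 2, 0, 2, 2, 2, 6, 0]⟩,
  ⟨10, [2, 0, 3, 0, 3, 3, 0, 2, 2, 0, 2, 0, 2, 5, 1], 10, [2, 0, 3, 0, 3, 0, 2, 0, 2, 0, 3, 0, 2, 2, 2, 0, 2, 0, 3, 1, 6]⟩,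
  ⟨6, [0, 2, 5], 11, []⟩,
  ⟨11, [0, 2, 0, 3, 0, 3, 0, 3, 3, 0, 3, 0, 2, 2, 0, 2, 0, 3, 0, 3, 1, 3, 5], 6, [3, 0, 3, 0, 2, 0, 2, 0, 3, 0, 3, 0, 2, 1, 2, 2, 6]⟩,
  ⟨8, [3, 3, 0, 2, 2, 0, 2, 0, 2, 0, 3, 0, 3, 0, 2, 2, 0, 2, 0, 3, 0, 2, 6], 11, [0, 2, 0, 3, 0, 3, 0, 3, 3, 0, 3, 0, 2, 2, 0, 2, 0, 3, 0, 3, 5, 0, 3]⟩,
  ⟨8, [3, 0, 2, 2, 0, 3, 3, 0, 3, 0, 2, 2, 0, 2, 0, 2, 0, 3, 0, 3, 3, 0, 6], 11, [2, 2, 0, 2, 0, 2, 2, 2, 0, 2, 0, 2, 0, 2, 2, 0, 3, 3, 0, 2, 0, 6]⟩,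
  ⟨11, [0, 2, 2, 0, 2, 0, 3, 0, 3, 3, 0, 2, 0, 3, 3, 0, 2, 2, 2, 5], 11, [0, 3, 0, 2, 2, 0, 3, 0, 3, 0, 3, 0, 2, 0, 3, 5]⟩,
  ⟨8, [3, 3, 0, 2, 0, 2, 2, 0, 2, 0, 2, 2, 0, 3, 0, 3, 0, 3, 0, 2, 0], 11, [0, 3, 0, 3, 0, 3, 3, 0, 3, 3, 0, 3, 0, 3, 0, 2, 0, 2, 1, 2, 2, 6]⟩,
  ⟨11, [3, 3, 0, 3, 3, 0, 3, 3, 0, 3, 3, 0, 2, 0, 2, 0, 2, 0, 3, 6, 1, 3], 8, [0, 3, 0, 2, 0, 2, 2, 0, 2, 2, 0, 3, 3, 0, 3, 0]⟩,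
  ⟨11, [0, 2, 0, 2, 2, 0, 2, 2, 2, 0, 2, 0, 2, 0, 2, 2, 0, 3, 3, 0, 3, 0, 3, 3, 5], 9, [0, 2, 0, 3, 0, 3, 3, 0, 2, 0, 2, 0, 2, 2, 0, 3, 3, 0, 3, 3, 1]⟩,
  ⟨11, [3, 0, 3, 0, 2, 0, 3, 3, 0, 3, 3, 0, 2, 2, 0, 2, 0, 2, 0, 3, 3, 0, 3, 5, 1], 7, [3, 3, 0, 2, 2, 2, 0, 2, 0, 2, 2, 0, 2, 6, 0, 2, 2, 2]⟩,
  ⟨8, [0, 2, 0, 2, 2, 0, 2, 2, 0, 3, 3, 0], 11, [3, 3, 0, 2, 2, 0, 2, 0, 3, 0, 3, 0, 3, 0, 2, 0, 3, 3, 0, 3, 6, 0]⟩,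
  ⟨11, [2, 0, 2, 2, 0, 3, 0, 3, 0, 2, 0, 2, 0, 2, 2, 2, 5, 0, 3], 9, [0, 3, 3, 0, 3, 0, 2, 0, 2, 2, 0, 2, 0, 2, 0, 2, 2]⟩,
  ⟨11, [3, 0, 2, 0, 2, 2, 0, 2, 0, 3, 0, 2, 2, 2, 0, 3, 1, 2, 2, 5], 8, [0, 3, 3, 0, 3, 0, 2, 0, 2, 0, 2, 0, 3, 3, 0, 2, 0, 3, 3, 0, 3, 1]⟩,
  ⟨11, [2, 0, 2, 2, 2, 0, 2, 2, 0, 3, 0, 2, 2, 0, 2, 1, 3, 6], 8, [0, 2, 0, 3, 0, 3, 3, 0, 2, 0, 2, 0, 2, 2, 0, 3, 3, 0, 3, 3, 1]⟩,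
  ⟨11, [3, 0, 2, 2, 0, 2, 2, 2, 0, 3, 3, 0, 2, 6, 1, 2, 2, 2], 8, [2, 2, 2, 0, 3, 3, 0, 3, 3, 0, 3, 3, 0, 2, 0, 3, 3, 1]⟩,
  ⟨10, [3, 3, 0, 3, 0, 2, 2, 2, 0, 2, 2, 2, 0, 2, 2, 2, 5], 11, [2, 2, 0, 3, 0, 3, 3, 0, 3, 6, 0, 2, 2]⟩,
  ⟨10, [3, 0, 3, 3, 0, 2, 0, 3, 3, 0, 2, 2, 2, 0, 3, 0, 3, 6, 0, 3, 3], 11, [0, 2, 2, 0, 2, 2, 0, 2, 0, 3, 3, 0, 3, 3, 0, 2, 2, 0, 2, 0, 3, 3, 6, 1, 2]⟩,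
  ⟨11, [2, 0, 3, 0, 3, 0, 2, 0, 3, 3, 0, 3, 3, 0, 2, 0, 2, 2, 6, 1, 3], 10, [0, 3, 0, 3, 0, 3, 3, 0, 3, 0, 2, 0, 2, 0, 2, 0, 3, 0, 3, 0, 2, 2, 6, 0, 2]⟩,
  ⟨11, [3, 0, 3, 0, 3, 3, 0, 3, 0, 2, 2, 2, 0, 3, 3, 0, 3, 0, 3, 3, 0, 2, 6], 10, [2, 0, 2, 2, 0, 2, 2, 0, 3, 0, 3, 0, 3, 0, 3, 3, 6, 0]⟩,
  ⟨11, [0, 3, 0, 3, 3, 0, 2, 2, 0, 3, 3, 0, 2, 2, 0, 2, 0, 2, 2, 2, 0, 2, 1, 6], 10, [0, 2, 2, 0, 3, 3, 0, 2, 2, 0, 2, 0, 2, 0, 2, 2, 0, 2, 2, 2, 0, 2, 0, 2, 0, 6]⟩,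
  ⟨11, [2, 2, 0, 3, 0, 3, 3, 0, 2, 2, 0, 2, 0, 3, 3, 0, 2, 0, 2, 2, 2, 0, 6], 10, [0, 2, 0, 2, 0, 3, 3, 0, 2, 0, 2, 2, 0, 2, 2, 0, 2, 0, 3, 3, 5, 1, 3]⟩,
  ⟨11, [2, 0, 2, 0, 3, 0, 3, 0, 3, 3, 0, 3, 0, 2, 2, 0, 3, 0, 2, 2, 0, 3, 1, 3, 5], 11, [2, 0, 2, 0, 3, 0, 3, 0, 3, 3, 0, 3, 0, 2, 2, 0, 3, 0, 2, 2, 0, 3, 1, 3, 5]⟩,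
  ⟨11, [2, 2, 0, 2, 2, 0, 2, 0, 2, 0, 3, 0, 2, 2, 5, 1, 3, 3], 11, [0, 2, 2, 2, 0, 3, 3, 0, 2, 2, 0, 2, 0, 2, 0, 3, 3, 0, 3, 3]⟩,
  ⟨11, [2, 0, 3, 3, 0, 2, 0, 2, 2, 0, 2, 2, 2, 0, 3, 3, 0, 3], 11, [3, 0, 2, 2, 0, 2, 0, 3, 3, 0, 2, 0, 2, 2, 0, 3, 3, 0, 3, 3, 6]⟩,
  ⟨11, [3, 3, 0, 3, 3, 0, 3, 0, 2, 0, 2, 0, 2, 2, 0, 2, 0, 2, 1, 3], 11, [2, 0, 3, 0, 3, 3, 0, 2, 2, 0, 3, 0, 3, 3, 0, 2, 2, 0, 2, 2, 0, 3, 5]⟩,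
  ⟨11, [3, 3, 0, 3, 0, 2, 0, 2, 0, 3, 0, 2, 2, 0, 2, 2, 2, 0, 2, 6, 0, 3, 3], 11, [0, 2, 0, 3, 0, 3, 0, 3, 3, 0, 2, 2, 0, 2, 0, 2, 0, 2, 2, 0, 2, 0, 3, 3, 6, 0]⟩,
  ⟨11, [2, 0, 3, 0, 2, 2, 2, 0, 2, 0, 3, 3, 0, 3, 0, 2, 2, 0, 3, 0, 2], 11, [0, 2, 2, 0, 2, 0, 2, 2, 0, 2, 0, 3, 3, 0, 2, 0, 2, 2, 2, 0, 2, 2, 5, 1, 3]⟩,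
  ⟨11, [0, 2, 0, 2, 0, 3, 0, 3, 0, 2, 0, 3, 3, 0, 3, 3, 6, 1, 2, 2], 11, [0, 2, 0, 3, 3, 0, 2, 0, 3, 3, 0, 2, 0, 2, 2, 0, 2, 2, 0, 2, 2, 5, 1]⟩,
  ⟨11, [0, 2, 2, 2, 0, 3, 0, 3, 0, 3, 3, 0, 2, 2, 0, 3, 1, 2, 2, 2, 6], 11, [2, 2, 0, 3, 3, 0, 3, 0, 3, 0, 3, 3, 0, 3, 0, 6]⟩,
  ⟨11, [2, 2, 0, 3, 0, 2, 2, 2, 0, 3, 3, 0, 2, 1, 2, 2, 6], 11, [2, 2, 2, 0, 2, 2, 0, 2, 0, 2, 2, 2, 0, 3, 0, 3, 1, 2, 2, 2]⟩,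
  ⟨8, [3, 6, 0, 3, 3], 12, []⟩,
  ⟨12, [0, 3, 3, 0, 3, 0, 2, 0, 2, 0, 3, 0, 3, 3, 0, 2, 0, 2, 0, 3, 0, 2, 2, 1], 12, [0, 3, 0, 3, 0, 2, 0, 2, 0, 2, 2, 2, 0, 3, 0, 3, 3, 0, 3, 0]⟩,
  ⟨12, [3, 0, 3, 0, 2, 2, 2], 10, [3, 3, 0, 2, 0, 2, 0, 3, 0, 2, 2, 0, 2, 0, 3, 3, 1, 5]⟩,
  ⟨12, [3, 0, 2, 0, 3, 3, 0, 2, 2, 0, 2, 2, 0, 3, 3, 0, 2, 2, 0], 12, [2, 2, 2, 0, 3, 0, 3, 3, 0, 3, 0, 3, 0, 3, 3, 1, 2]⟩,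
  ⟨9, [3, 0, 3, 0, 3, 3, 6], 13, []⟩,
  ⟨13, [2, 0, 3, 0, 3, 3, 0, 2, 0, 2, 0, 2, 0, 3, 0, 3, 0, 2, 2, 0, 3, 0], 13, [2, 0, 3, 0, 3, 3, 0, 2, 0, 2, 0, 2, 0, 3, 0, 3, 0, 2, 2, 0, 3, 1]⟩]

/-- all stabiliser generators -/
def gens : List (ℕ × List ℕ) := [
  (0, [0]),
  (0, [2]),
  (1, [2, 0, 2, 0, 2, 2, 0, 3, 0]),
  (1, [2, 0, 3, 3, 0, 3, 0, 3, 0]),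
  (1, [0, 0, 6]),
  (2, [0, 3, 0, 3, 0, 2, 0, 2, 0, 3, 0, 3, 0, 2, 0, 2]),
  (2, [0, 2, 0, 3, 0, 3, 3, 0, 2, 2, 2, 0, 2, 0, 2, 0, 3, 0, 2, 2]),
  (2, [0, 2, 0, 2, 0, 2, 2, 0, 2, 0, 2, 1, 2, 2]),
  (2, [2, 2, 0, 2, 0, 3, 0, 2, 2, 0, 2, 2, 0, 3, 0, 3, 0, 3, 1, 2]),
  (3, [0, 3, 0, 3, 0, 2, 0, 2, 0, 3, 0, 3, 0, 2, 0, 2]),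
  (3, [0, 2, 0, 3, 0, 3, 3, 0, 2, 2, 2, 0, 2, 0, 2, 0, 3, 0, 2, 2]),
  (3, [3, 3, 0, 3, 0, 3, 3, 0, 2, 2, 0, 2, 0, 2, 0, 2, 2, 0, 2, 2, 2, 1, 3, 5]),
  (4, [0, 0]),
  (4, [0, 3, 0, 3, 0, 2, 0, 2, 0, 3, 0, 3, 0, 2, 0, 2]),
  (4, [0, 2, 0, 3, 0, 3, 3, 0, 2, 2, 2, 0, 2, 0, 2, 0, 3, 1, 2, 2]),
  (4, [2, 0, 2, 2, 2, 0, 3, 3, 0, 3, 0, 3, 0, 3, 3, 0, 2, 2, 0, 2, 1, 2, 2]),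
  (5, [0, 3, 0, 3, 0, 2, 0, 2, 0, 3, 0, 3, 0, 2, 0, 2]),
  (5, [0, 2, 0, 3, 3, 0, 3, 0, 2, 0, 2, 2, 0, 3, 0, 3, 3, 0, 3, 3]),
  (5, [2, 0, 3, 3, 0, 2, 0, 2, 2, 0, 2, 0, 3, 3, 0, 3, 0, 2, 2, 1, 3, 3]),
  (5, [0, 3, 3, 0, 2, 0, 2, 2, 2, 0, 2, 2, 0, 3, 0, 2, 2, 2, 0, 3, 3]),
  (6, [0, 3, 0, 3, 0, 2, 0, 2, 0, 3, 0, 3, 0, 2, 0, 2]),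
  (6, [0, 2, 0, 3, 3, 0, 3, 0, 2, 0, 2, 2, 0, 3, 0, 3, 3, 0, 3, 3]),
  (6, [0, 3, 3, 0, 3, 0, 3, 3, 0, 3, 0, 2, 0, 2, 2, 0, 3, 1, 3, 3]),
  (7, [0, 3, 0, 3, 0, 2, 0, 2, 0, 3, 0, 3, 0, 2, 0, 2]),
  (7, [3, 3, 0, 2, 2, 0, 2, 0, 2, 2, 2, 0, 3, 0, 3, 3, 1, 2, 2]),
  (7, [2, 0, 2, 2, 0, 2, 0, 3, 5, 1, 3]),
  (8, [0, 3, 0, 3, 0, 2, 0, 2, 0, 3, 0, 3, 0, 2, 0, 2]),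
  (8, [2, 0, 2, 0, 3, 0, 3, 3, 0, 2, 0, 3, 3, 0, 2, 2, 2, 0, 3, 5, 1, 2, 2]),
  (9, [0, 3, 0, 2, 2, 0, 3, 3, 0, 3, 0, 2, 2, 1, 3, 3]),
  (9, [0, 2, 2, 0, 3, 3, 0, 2, 0, 2, 2, 0, 3, 3, 1, 2]),
  (9, [0, 3, 0, 3, 0, 3, 0, 2, 0, 2, 2, 0, 2, 0, 3, 3, 0, 3, 3, 0, 2, 0, 2, 2, 0, 2, 5]),
  (9, [2, 2, 0, 2, 2, 2, 0, 2, 0, 2, 2, 0, 3, 0, 2, 2, 1, 2, 2]),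
  (10, [0, 3, 0, 3, 0, 2, 0, 2, 0, 3, 0, 3, 0, 2, 0, 2]),
  (10, [2, 0, 2, 2, 0, 3, 0, 2, 2, 0, 2, 0, 2, 2, 2, 0, 2, 2, 2]),
  (10, [0, 2, 0, 2, 0, 2, 0, 3, 0, 2, 2, 0, 2, 0, 2, 2, 0, 3, 3, 0, 3, 1]),
  (11, [2, 2, 0, 2, 0, 3, 3, 0, 2, 0, 3, 3, 0, 2, 1, 2, 2]),
  (11, [0, 2, 0, 3, 3, 0, 3, 3, 0, 2, 0, 2, 2, 2, 5, 1, 2, 2, 2]),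
  (12, [0, 3, 0, 2, 0, 3, 3, 0, 3, 0, 3, 3, 0, 2, 2, 0, 2, 2, 6, 0, 2]),
  (12, [2, 2, 0, 2, 0, 2, 0, 3, 0, 3, 3, 0, 2, 0, 3, 3]),
  (12, [2, 2, 0, 3, 3, 0, 3, 0, 2, 2, 0, 2, 2, 0]),
  (13, [0, 0]),
  (13, [0, 3, 0, 3, 0, 3, 0, 2, 0, 2, 2, 0, 2, 0, 3, 3, 0, 3, 3, 0, 2, 0, 2, 2, 0, 2]),
  (13, [0, 2, 2, 0, 2, 0, 2, 2, 0, 3, 3, 0, 3, 0, 3, 0, 2, 0, 2, 2, 2, 0, 3, 3]),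
  (13, [5]),
  (13, [3, 0, 2, 2, 0, 3, 3, 0, 3, 0, 2, 2, 0, 2, 2, 0, 3, 0, 3, 3, 0, 2, 0, 2, 0])]

/-- the facts -/
def known : Known := ⟨reps, edges, gens⟩

/-- the facts after the first `a` edges and `b` generators -/
def knownAt (a b : ℕ) : Known := ⟨reps, edges.take a, gens.take b⟩

end Cfsg.Agent.H46.HN
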