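import Cfsg.Agent.H46.HN.Word

/-!
Derived facts about the cosets of `⟨x, y, z⟩` in the presented Harada–Norton group.

Cosets are written `H * r j * n` with `r j` one of fourteen representatives and `n` a word without
`z`.  An edge records `H * r j * n * z = H * r j' * n'`, a stabiliser generator records
`r j * g * (r j)⁻¹ ∈ H`.  Each of them follows by walking a relator through known facts.
-/

set_option autoImplicit false

namespace Cfsg.Agent.H46.HN

open Cfsg Cfsg.Agent.H67.HN Cfsg.Agent.H45

/-- the subgroup `⟨x, y, z⟩` -/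
def H0 : Subgroup Spor.HN := nu.range

theorem e7_z_mem : hn .z ∈ H0 := ⟨gz, lift_gz rels_HN⟩

/-- same right coset of `⟨x, y, z⟩` -/
def Eqv (a b : Spor.HN) : Prop := a * b⁻¹ ∈ H0

theorem Eqv.refl (a : Spor.HN) : Eqv a a := by rw [Eqv, mul_inv_cancel]; exact one_mem _

theorem Eqv.symm {a b : Spor.HN} (h : Eqv a b) : Eqv b a := by
  have := H0.inv_mem h; rwa [mul_inv_rev, inv_inv] at this

theorem Eqv.trans {a b c : Spor.HN} (h : Eqv a b) (h' : Eqv b c) : Eqv a c := by
  have := H0.mul_mem h h'
  rwa [show a * b⁻¹ * (b * c⁻¹) = a * c⁻¹ by group] at this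

theorem Eqv.mul_right {a b : Spor.HN} (h : Eqv a b) (c : Spor.HN) : Eqv (a * c) (b * c) := by
  unfold Eqv; rwa [show a * c * (b * c)⁻¹ = a * b⁻¹ by group]

/-- a representative -/
def rr (R : List (List ℕ)) (j : ℕ) : Spor.HN := ev (R.getD j [])

/-- an edge `H r ja na z = H r jb nb` -/
structure Ed where
  ja : ℕ
  na : List ℕ
  jb : ℕ
  nb : List ℕ
  deriving DecidableEq

/-- the edge holds -/
def Ed.Valid (R : List (List ℕ)) (e : Ed) : Prop :=
  Eqv (rr R e.ja * ev e.na * hn .z) (rr R e.jb * ev e.nb)

/-- a stabiliser generator holds -/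
def GValid (R : List (List ℕ)) (g : ℕ × List ℕ) : Prop :=
  Eqv (rr R g.1 * ev g.2) (rr R g.1)

/-- signed generator number `c` of node `j` -/
def genW (G : List (ℕ × List ℕ)) (j c : ℕ) : List ℕ :=
  bif Nat.beq (G.getD (c / 2) (j, [])).1 j then
    bif Nat.beq (c % 2) 1 then inv7 (G.getD (c / 2) (j, [])).2 else (G.getD (c / 2) (j, [])).2
  else []

/-- a word in the stabiliser generators of node `j` -/
def expL (G : List (ℕ × List ℕ)) (j : ℕ) (lw : List ℕ) : List ℕ := lw.flatMap (genW G j)

theorem genW_sound {R : List (List ℕ)} {G : List (ℕ × List ℕ)} (hG : ∀ g ∈ G, GValid R g)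
    (j c : ℕ) : Eqv (rr R j * ev (genW G j c)) (rr R j) := by
  have hg : GValid R (G.getD (c / 2) (j, [])) := by
    rcases Nat.lt_or_ge (c / 2) G.length with h | h
    · rw [List.getD_eq_getElem _ _ h]; exact hG _ (List.getElem_mem h)
    · rw [List.getD_eq_default _ _ h]; simp [GValid, ev_nil, Eqv.refl]
  unfold genW
  generalize G.getD (c / 2) (j, []) = p at hg ⊢
  cases hj : Nat.beq p.1 j
  · simp [ev_nil, Eqv.refl]
  · rw [Nat.beq_eq] at hj
    unfold GValid at hg
    rw [hj] at hg
    cases hc : Nat.beq (c % 2) 1
    · simpa using hg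
    · simp only [cond_true, ev_inv7]
      have := hg.symm.mul_right (ev p.2)⁻¹
      rwa [mul_assoc _ (ev p.2), mul_inv_cancel, mul_one] at this

theorem expL_sound {R : List (List ℕ)} {G : List (ℕ × List ℕ)} (hG : ∀ g ∈ G, GValid R g)
    (j : ℕ) : ∀ lw : List ℕ, Eqv (rr R j * ev (expL G j lw)) (rr R j) := by
  intro lw
  induction lw with
  | nil => simp [expL, ev_nil, Eqv.refl]
  | cons c lw ih =>
    simp only [expL, List.flatMap_cons, ev_append] at ih ⊢
    rw [← mul_assoc]
    exact ((genW_sound hG j c).mul_right _).trans ih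

/-- witness of a step along `z` -/
structure Wit where
  k : ℕ
  back : Bool
  lw : List ℕ
  d : List ℕ

/-- an edge read in the given direction -/
def Ed.dir (e : Ed) (back : Bool) : Ed := bif back then ⟨e.jb, e.nb, e.ja, e.na⟩ else e

theorem Ed.dir_valid {R : List (List ℕ)} {e : Ed} (h : e.Valid R) (back : Bool) :
    (e.dir back).Valid R := by
  cases back
  · exact h
  · have := (h.symm).mul_right (hn .z)
    rw [mul_assoc _ (hn .z) (hn .z), zsq, mul_one] at this
    exact this

/-- the facts known so far -/
structure Known where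
  R : List (List ℕ)
  E : List Ed
  G : List (ℕ × List ℕ)

/-- all known facts hold -/
def Known.Valid (C : Known) : Prop := (∀ e ∈ C.E, e.Valid C.R) ∧ ∀ g ∈ C.G, GValid C.R g

/-- a walk from `(j, n)` along a word -/
noncomputable def walk (C : Known) :
    List ℕ → List Wit → ℕ → List ℕ → (ℕ → List ℕ → Bool) → Bool
  | [], _, j, n, k => k j n
  | l :: u, ws, j, n, k =>
    bif Nat.beq l 4 then
      match ws with
      | [] => false
      | w :: ws' =>
        match C.E[w.k]? with
        | none => false
        | some e =>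
          Nat.beq (e.dir w.back).ja j &&
            same (expL C.G j w.lw ++ (e.dir w.back).na ++ expD w.d) n &&
              walk C u ws' (e.dir w.back).jb ((e.dir w.back).nb ++ expZ w.d) k
    else walk C u ws j (n ++ [l]) k

theorem walk_sound {C : Known} (hC : C.Valid) : ∀ (u : List ℕ) (ws : List Wit) (j : ℕ) (n : List ℕ)
    (k : ℕ → List ℕ → Bool), walk C u ws j n k = true →
    ∃ j' n', k j' n' = true ∧ Eqv (rr C.R j * ev n * ev u) (rr C.R j' * ev n') := by
  intro u
  induction u with
  | nil =>
    intro ws j n k h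
    exact ⟨j, n, h, by rw [ev_nil, mul_one]; exact Eqv.refl _⟩
  | cons l u ih =>
    intro ws j n k h
    cases hl : Nat.beq l 4
    · simp only [walk, hl, cond_false] at h
      obtain ⟨j', n', hk, he⟩ := ih _ _ _ _ h
      refine ⟨j', n', hk, ?_⟩
      rw [ev_append, ev_cons, ev_nil, mul_one] at he
      rw [ev_cons, ← mul_assoc, mul_assoc _ (ev n)]
      exact he
    · simp only [walk, hl, cond_true] at h
      rw [Nat.beq_eq] at hl
      subst hl
      match ws with
      | [] => exact absurd h (by simp)
      | w :: ws' =>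
        dsimp only at h
        cases hw : C.E[w.k]? with
        | none => rw [hw] at h; exact absurd h (by simp)
        | some e =>
          rw [hw] at h
          simp only [Bool.and_eq_true, Nat.beq_eq] at h
          obtain ⟨⟨hj, hs⟩, hrest⟩ := h
          have hv := (hC.1 e (List.mem_of_getElem? hw))
          have hv' := Ed.dir_valid hv w.back
          obtain ⟨j', n', hk, he⟩ := ih _ _ _ _ hrest
          refine ⟨j', n', hk, Eqv.trans ?_ he⟩
          rw [← same_sound hs, ev_cons, ev_append, ← mul_assoc, show e7 4 = hn .z from rfl]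
          refine Eqv.mul_right ?_ _
          have h1 : rr C.R j * (ev (expL C.G j w.lw ++ (e.dir w.back).na) * ev (expD w.d)) * hn .z =
              rr C.R j * ev (expL C.G j w.lw) * (ev (e.dir w.back).na * hn .z * ev (expZ w.d)) := by
            rw [← ev_z, ev_append, ev_append]; group
          rw [h1, ev_append]
          refine ((expL_sound hC.2 j w.lw).mul_right _).trans ?_
          unfold Ed.Valid at hv'
          rw [hj] at hv'
          have := hv'.mul_right (ev (expZ w.d))
          simpa only [mul_assoc] using this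

/-- equality of lists of letters -/
noncomputable def weq (u v : List ℕ) : Bool := leq u v

/-- the cycles used as relators -/
def rels : List (List ℕ) :=
  [[4, 4], [4, 5, 4, 5, 4, 5], inv7 [4, 5, 4, 5, 4, 5],
   [4] ++ ((List.replicate 3 [3, 1, 3, 1, 3, 3, 3, 4, 2, 2, 2, 0, 2, 0, 2, 0]).flatten),
   inv7 ([4] ++ ((List.replicate 3 [3, 1, 3, 1, 3, 3, 3, 4, 2, 2, 2, 0, 2, 0, 2, 0]).flatten))]

theorem rels_one : ∀ w ∈ rels, ev w = 1 := by
  have h1 : ev [4, 5, 4, 5, 4, 5] = 1 := by
    rw [← t_rels.2.2.2]
    simp [ev, evW, e7, pow_succ, mul_assoc]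
  have h2 : ev ([4] ++ ((List.replicate 3 [3, 1, 3, 1, 3, 3, 3, 4, 2, 2, 2, 0, 2, 0, 2, 0]).flatten))
      = 1 := by
    rw [← rels_HN.j]
    simp [ev, evW, e7, pow_succ, mul_assoc, List.replicate]
  intro w hw
  simp only [rels, List.mem_cons, List.not_mem_nil, or_false] at hw
  rcases hw with rfl | rfl | rfl | rfl | rfl
  · simp [ev, evW, e7, zsq]
  · exact h1
  · rw [ev_inv7, h1, inv_one]
  · exact h2
  · rw [ev_inv7, h2, inv_one]

/-- a cyclic shift of a relator -/
noncomputable def isRel (u : List ℕ) (ri rot : ℕ) : Bool :=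
  weq u ((rels.getD ri []).drop rot ++ (rels.getD ri []).take rot)

theorem isRel_sound {u : List ℕ} {ri rot : ℕ} (h : isRel u ri rot = true) : ev u = 1 := by
  rw [leq_sound _ _ h, ev_append]
  have h1 : ev (rels.getD ri []) = 1 := by
    rcases Nat.lt_or_ge ri rels.length with h | h
    · rw [List.getD_eq_getElem _ _ h]; exact rels_one _ (List.getElem_mem h)
    · rw [List.getD_eq_default _ _ h, ev_nil]
  rw [← List.take_append_drop rot (rels.getD ri []), ev_append] at h1
  rw [mul_eq_one_iff_eq_inv.mp h1]
  exact mul_inv_cancel _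

/-- events of the derivation -/
inductive Evt where
  /-- a definition of a representative -/
  | node (e : Ed)
  /-- an edge from a walk along a word equal to `z` -/
  | edge (e : Ed) (ri rot : ℕ) (u : List ℕ) (ws : List Wit)
  /-- a stabiliser generator from a closed walk along a relator -/
  | stab (j : ℕ) (g n0 : List ℕ) (ri rot : ℕ) (u : List ℕ) (ws : List Wit)

/-- the facts after an event -/
def Known.add (C : Known) : Evt → Known
  | .node e => ⟨C.R, C.E ++ [e], C.G⟩
  | .edge e _ _ _ _ => ⟨C.R, C.E ++ [e], C.G⟩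
  | .stab j g _ _ _ _ _ => ⟨C.R, C.E, C.G ++ [(j, g)]⟩

/-- the check of one event -/
noncomputable def Known.chk (C : Known) : Evt → Bool
  | .node e =>
    weq (C.R.getD e.jb []) (C.R.getD e.ja [] ++ e.na ++ [4]) && weq e.nb []
  | .edge e ri rot u ws =>
    isRel (u ++ [4]) ri rot &&
      walk C u ws e.ja e.na fun j' n' => Nat.beq j' e.jb && same n' e.nb
  | .stab j g n0 ri rot u ws =>
    isRel u ri rot &&
      walk C u ws j n0 fun j' n' => Nat.beq j' j && same (g ++ n0) n'

theorem Known.chk_sound {C : Known} (hC : C.Valid) {v : Evt} (h : C.chk v = true) :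
    (C.add v).Valid := by
  cases v with
  | node e =>
    simp only [Known.chk, weq, Bool.and_eq_true] at h
    refine ⟨fun a ha => ?_, hC.2⟩
    simp only [Known.add, List.mem_append, List.mem_singleton] at ha
    rcases ha with ha | rfl
    · exact hC.1 a ha
    · show Eqv _ _
      rw [leq_sound _ _ h.2, ev_nil, mul_one]
      show Eqv (ev (C.R.getD a.ja []) * ev a.na * hn .z) (ev (C.R.getD a.jb []))
      rw [leq_sound _ _ h.1, ev_append, ev_append]
      simp only [ev_cons, ev_nil, mul_one]
      exact Eqv.refl _
  | edge e ri rot u ws =>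
    simp only [Known.chk, Bool.and_eq_true] at h
    obtain ⟨hr, hw⟩ := h
    obtain ⟨j', n', hk, he⟩ := walk_sound hC _ _ _ _ _ hw
    simp only [Bool.and_eq_true, Nat.beq_eq] at hk
    obtain ⟨rfl, hs⟩ := hk
    refine ⟨fun a ha => ?_, hC.2⟩
    simp only [Known.add, List.mem_append, List.mem_singleton] at ha
    rcases ha with ha | rfl
    · exact hC.1 a ha
    · have hu := isRel_sound hr
      rw [ev_append, ev_cons, ev_nil, mul_one, show e7 4 = hn .z from rfl,
        mul_eq_one_iff_eq_inv, zinv] at hu
      show Eqv _ _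
      rw [← hu, ← same_sound hs]
      exact he
  | stab j g n0 ri rot u ws =>
    simp only [Known.chk, Bool.and_eq_true] at h
    obtain ⟨hr, hw⟩ := h
    obtain ⟨j', n', hk, he⟩ := walk_sound hC _ _ _ _ _ hw
    simp only [Bool.and_eq_true, Nat.beq_eq] at hk
    obtain ⟨rfl, hs⟩ := hk
    refine ⟨hC.1, fun a ha => ?_⟩
    simp only [Known.add, List.mem_append, List.mem_singleton] at ha
    rcases ha with ha | rfl
    · exact hC.2 a ha
    · show Eqv _ _
      rw [isRel_sound hr, mul_one, ← same_sound hs, ev_append] at he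
      have h2 := he.symm.mul_right (ev n0)⁻¹
      simpa [Known.add, mul_assoc] using h2

/-- the check of a list of events -/
noncomputable def Known.run (C : Known) : List Evt → Bool
  | [] => true
  | v :: vs => C.chk v && (C.add v).run vs

/-- the facts after a list of events -/
def Known.final (C : Known) : List Evt → Known
  | [] => C
  | v :: vs => (C.add v).final vs

theorem Known.run_sound : ∀ (vs : List Evt) {C : Known}, C.Valid → C.run vs = true →
    (C.final vs).Valid := by
  intro vs
  induction vs with
  | nil => intro C hC _; exact hC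
  | cons v vs ih =>
    intro C hC h
    simp only [Known.run, Bool.and_eq_true] at h
    exact ih (Known.chk_sound hC h.1) h.2

theorem Known.run_append : ∀ (us vs : List Evt) (C : Known),
    C.run us = true → (C.final us).run vs = true → C.run (us ++ vs) = true := by
  intro us
  induction us with
  | nil => intro vs C _ h; exact h
  | cons u us ih =>
    intro vs C h h'
    simp only [Known.run, Bool.and_eq_true] at h
    simp only [List.cons_append, Known.run, Bool.and_eq_true]
    exact ⟨h.1, ih vs _ h.2 h'⟩

theorem Known.final_append : ∀ (us vs : List Evt) (C : Known),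
    C.final (us ++ vs) = (C.final us).final vs := by
  intro us
  induction us with
  | nil => intro vs C; rfl
  | cons u us ih => intro vs C; exact ih vs _

/-- the facts known at the start -/
def start (R : List (List ℕ)) : Known := ⟨R, [⟨0, [], 0, []⟩], [(0, [0]), (0, [2])]⟩

theorem start_valid {R : List (List ℕ)} (h : R.getD 0 [] = []) : (start R).Valid := by
  refine ⟨fun e he => ?_, fun g hg => ?_⟩
  · simp only [start, List.mem_singleton] at he
    subst he
    show rr R 0 * ev [] * hn .z * (rr R 0 * ev [])⁻¹ ∈ H0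
    simp only [rr, h, ev_nil, one_mul, mul_one, inv_one]
    exact e7_z_mem
  · simp only [start, List.mem_cons, List.not_mem_nil, or_false] at hg
    rcases hg with rfl | rfl <;>
    · show Eqv (rr R 0 * ev _) (rr R 0)
      simp only [rr, h, ev_nil, ev_cons, one_mul, mul_one, Eqv, inv_one]
      first | exact ⟨gx, lift_gx rels_HN⟩ | exact ⟨gy, lift_gy rels_HN⟩

end Cfsg.Agent.H46.HN
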