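import Cfsg.Agent.H46.HN.Cover

/-!
An upper bound for the number of cosets of `⟨x, y, z⟩` in the union of the double cosets: each
piece `H r j t ^ m ⟨x, y⟩` has at most `|⟨x, y⟩| / |S|` cosets, `S` fixing `H r j t ^ m`.
-/

set_option autoImplicit false

namespace Cfsg.Agent.H46.HN

open Cfsg Cfsg.Agent.H67.HN Cfsg.Agent.H45

/-- `⟨x, y⟩` in the model group -/
def K0 : Subgroup F := Subgroup.closure {gx, gy}

/-- a power of `t` as a word -/
def tW (m : ℕ) : List ℕ := List.replicate m 5

theorem ev_tW (m : ℕ) : ev (tW m) = hn .t ^ m := by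
  induction m with
  | zero => simp [tW, ev_nil]
  | succ m ih =>
    rw [show tW (m + 1) = 5 :: tW m from rfl, ev_cons, ih, pow_succ']
    rfl

/-- a piece: node, power of `t`, generators of a stabiliser with witnesses, and a chain -/
structure Pc where
  j : ℕ
  m : ℕ
  gens : List (List ℕ × List ℕ)
  lvls : List Lvl

/-- the number of cosets allowed to a piece -/
def Pc.bound (p : Pc) : ℕ := 504000 / chainProd p.lvls

/-- the check of a piece -/
noncomputable def Pc.ok (C : Known) (p : Pc) : Bool :=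
  p.gens.all (fun g => g.1.all (fun l => Nat.blt l 4) &&
      same (expL C.G p.j g.2 ++ tW p.m) (tW p.m ++ g.1)) &&
    p.lvls.all (fun lv => lv.gens.all fun w => p.gens.any fun g => weq w g.1) &&
    chainCheck 5 1408 P1408.cols p.lvls && Nat.blt 0 (chainProd p.lvls)

/-- the check that the powers of `t` are covered: witness `(piece, lw, kw)` for each `(j, m)` -/
noncomputable def powOK (C : Known) (ps : List Pc) (j m : ℕ) (w : ℕ × List ℕ × List ℕ) : Bool :=
  match ps[w.1]? with
  | none => false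
  | some p => Nat.beq p.j j && w.2.2.all (fun l => Nat.blt l 4) &&
      same (expL C.G j w.2.1 ++ tW p.m ++ w.2.2) (tW m)

theorem evW_mem_K0 : ∀ w : List ℕ, (∀ l ∈ w, l < 4) → evW fF w ∈ K0 := by
  intro w
  induction w with
  | nil => intro _; exact one_mem _
  | cons l w ih =>
    intro h
    rw [evW_cons]
    refine mul_mem ?_ (ih fun a ha => h a (by simp [ha]))
    have hx : gx ∈ K0 := Subgroup.subset_closure (by simp)
    have hy : gy ∈ K0 := Subgroup.subset_closure (by simp)
    have hl := h l (by simp)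
    interval_cases l
    exacts [hx, inv_mem hx, hy, inv_mem hy]

/-- the stabiliser of a piece -/
def Pc.stab (p : Pc) : Subgroup F := Subgroup.closure {f | ∃ g ∈ p.gens, evW fF g.1 = f}

/-- the base coset of a piece -/
def Pc.base (C : Known) (p : Pc) : Spor.HN := rr C.R p.j * ev (tW p.m)

theorem Pc.stab_le {C : Known} {p : Pc} (hC : C.Valid) (h : p.ok C = true) :
    p.stab ≤ K0 ∧ (∀ s ∈ p.stab, p.base C * nu s * (p.base C)⁻¹ ∈ H0) ∧
      chainProd p.lvls ≤ Nat.card p.stab := by
  simp only [Pc.ok, Bool.and_eq_true, List.all_eq_true, Nat.blt_eq] at h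
  obtain ⟨⟨⟨hg, hsub⟩, hch⟩, -⟩ := h
  refine ⟨?_, ?_, ?_⟩
  · rw [Pc.stab, Subgroup.closure_le]
    rintro _ ⟨g, hgm, rfl⟩
    exact evW_mem_K0 _ (hg g hgm).1
  · have hle : p.stab ≤ (H0.comap (MulAut.conj (p.base C)).toMonoidHom).comap nu := by
      rw [Pc.stab, Subgroup.closure_le]
      rintro _ ⟨g, hgm, rfl⟩
      show p.base C * nu (evW fF g.1) * (p.base C)⁻¹ ∈ H0
      obtain ⟨h4, hs⟩ := hg g hgm
      rw [nu_word _ (fun l hl => by have := h4 l hl; omega)]
      have he := (expL_sound hC.2 p.j g.2).mul_right (ev (tW p.m))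
      rw [mul_assoc, ← ev_append, same_sound hs, ev_append, ← mul_assoc] at he
      exact he
    exact fun s hs => hle hs
  · rw [Nat.card_congr (p.stab.equivMapOfInjective pi pi_injective).toEquiv]
    refine chainCheck_sound P1408.tab hch _ ?_
    intro lv hlv w hw
    obtain ⟨g, hgm, hwe⟩ := List.any_eq_true.mp (hsub lv hlv w hw)
    rw [leq_sound _ _ hwe]
    refine ⟨evW fF g.1, Subgroup.subset_closure ⟨g, hgm, rfl⟩, ?_⟩
    exact pi_word _ fun l hl => by have := (hg g hgm).1 l hl; omega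

/-- the cosets of a piece -/
def Pc.cos (C : Known) (p : Pc) : Set (Spor.HN ⧸ H0) :=
  (fun k => ((nu k * (p.base C)⁻¹ : Spor.HN) : Spor.HN ⧸ H0)) '' (K0 : Set F)

theorem Pc.ncard_le {C : Known} {p : Pc} (hC : C.Valid) (h : p.ok C = true)
    (hK : Nat.card K0 ≤ 504000) : (p.cos C).ncard ≤ p.bound := by
  have : Finite F := finite_and_bound.1
  obtain ⟨hle, hst, hcard⟩ := p.stab_le hC h
  let S := p.stab.subgroupOf K0
  let ψ : K0 ⧸ S → Spor.HN ⧸ H0 := Quotient.lift
    (fun k : K0 => ((nu k * (p.base C)⁻¹ : Spor.HN) : Spor.HN ⧸ H0)) (by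
      intro a b hab
      have hab' : a⁻¹ * b ∈ S := QuotientGroup.leftRel_apply.mp hab
      refine QuotientGroup.eq.mpr ?_
      have h2 := hst _ (Subgroup.mem_subgroupOf.mp hab')
      push_cast at h2
      rw [map_mul, map_inv] at h2
      rwa [mul_inv_rev, inv_inv, ← mul_assoc, mul_assoc _ (nu _)⁻¹] )
  have hrange : p.cos C = Set.range ψ := by
    ext q
    constructor
    · rintro ⟨k, hk, rfl⟩; exact ⟨QuotientGroup.mk ⟨k, hk⟩, rfl⟩
    · rintro ⟨u, rfl⟩
      induction u using Quotient.inductionOn' with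
      | h k => exact ⟨k, k.2, rfl⟩
  rw [hrange, ← Nat.card_coe_set_eq]
  refine le_trans (Nat.card_le_card_of_surjective _ Set.rangeFactorization_surjective) ?_
  have h1 : Nat.card (K0 ⧸ S) * Nat.card S = Nat.card K0 :=
    (Subgroup.card_eq_card_quotient_mul_card_subgroup S).symm
  have h2 : Nat.card S = Nat.card p.stab :=
    Nat.card_congr (Subgroup.subgroupOfEquivOfLe hle).toEquiv
  simp only [Pc.ok, Bool.and_eq_true, Nat.blt_eq] at h
  rw [Pc.bound, Nat.le_div_iff_mul_le h.2]
  calc Nat.card (K0 ⧸ S) * chainProd p.lvls ≤ Nat.card (K0 ⧸ S) * Nat.card S :=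
        Nat.mul_le_mul_left _ (h2 ▸ hcard)
    _ ≤ 504000 := h1 ▸ hK

/-- the index data -/
structure IndexData (C : Known) where
  pieces : List Pc
  pows : List (List (ℕ × List ℕ × List ℕ))
  ok : pieces.all (Pc.ok C) = true
  cov : ∀ j < C.R.length, ∀ m < 5,
    powOK C pieces j m ((pows.getD j []).getD m (0, [], [])) = true

theorem ncard_union_le {α : Type*} {C : Known} (f : Pc → Set α) (hf : ∀ p, (f p).Finite) :
    ∀ ps : List Pc, (∀ p ∈ ps, (f p).ncard ≤ p.bound) →
      {a | ∃ p ∈ ps, a ∈ f p}.Finite ∧ {a | ∃ p ∈ ps, a ∈ f p}.ncard ≤ (ps.map Pc.bound).sum := by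
  have := C
  intro ps
  induction ps with
  | nil => intro _; simp
  | cons p ps ih =>
    intro h
    obtain ⟨h1, h2⟩ := ih fun q hq => h q (by simp [hq])
    have e : {a | ∃ q ∈ p :: ps, a ∈ f q} = f p ∪ {a | ∃ q ∈ ps, a ∈ f q} := by
      ext a; simp
    rw [e]
    refine ⟨(hf p).union h1, (Set.ncard_union_le _ _).trans ?_⟩
    rw [List.map_cons, List.sum_cons]
    exact Nat.add_le_add (h p (by simp)) h2

theorem index_le {C : Known} (hC : C.Valid) (D : CoverData C) (I : IndexData C)
    (hK : Nat.card K0 ≤ 504000) : H0.index ≤ (I.pieces.map Pc.bound).sum := by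
  have : Finite F := finite_and_bound.1
  have hok := List.all_eq_true.mp I.ok
  have hall : ∀ q : Spor.HN ⧸ H0, ∃ p ∈ I.pieces, q ∈ p.cos C := by
    intro q
    obtain ⟨a, rfl⟩ := QuotientGroup.mk_surjective q
    obtain ⟨j, hj, w, hw, he⟩ := InU.all hC D a⁻¹
    obtain ⟨e, hlt⟩ := nf_sound w hw
    have hpw := I.cov j hj ((nf w).1 % 5) (Nat.mod_lt _ (by norm_num))
    generalize (I.pows.getD j []).getD ((nf w).1 % 5) (0, [], []) = v at hpw
    unfold powOK at hpw
    cases hp : I.pieces[v.1]? with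
    | none => rw [hp] at hpw; exact absurd hpw (by simp)
    | some p =>
      rw [hp] at hpw
      simp only [Bool.and_eq_true, Nat.beq_eq, List.all_eq_true, Nat.blt_eq] at hpw
      obtain ⟨⟨rfl, h4⟩, hs⟩ := hpw
      refine ⟨p, List.mem_of_getElem? hp,
        (evW fF v.2.2 * evW fF (nf w).2)⁻¹,
        inv_mem (mul_mem (evW_mem_K0 _ h4) (evW_mem_K0 _ hlt)), ?_⟩
      refine QuotientGroup.eq.mpr ?_
      rw [map_inv, map_mul, nu_word _ (fun l hl => by have := h4 l hl; omega),
        nu_word _ (fun l hl => by have := hlt l hl; omega)]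
      have hw' : ev w = ev (expL C.G p.j v.2.1) * ev (tW p.m) * ev v.2.2 * ev (nf w).2 := by
        rw [e, ← pow_mod5, ← ev_tW, ← same_sound hs, ev_append, ev_append]
      rw [hw'] at he
      have h5 := he.trans (by
        have := (expL_sound hC.2 p.j v.2.1).mul_right (ev (tW p.m) * ev v.2.2 * ev (nf w).2)
        simpa only [mul_assoc] using this :
        Eqv _ (rr C.R p.j * (ev (tW p.m) * ev v.2.2 * ev (nf w).2)))
      have h6 := h5.symm
      unfold Eqv at h6
      rw [inv_inv] at h6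
      simpa only [Pc.base, mul_inv_rev, inv_inv, mul_assoc] using h6
  obtain ⟨h1, h2⟩ := ncard_union_le (C := C) (Pc.cos C) (fun p => (Set.toFinite _).image _)
    I.pieces fun p hp => Pc.ncard_le hC (hok p hp) hK
  have huniv : {q : Spor.HN ⧸ H0 | ∃ p ∈ I.pieces, q ∈ p.cos C} = Set.univ :=
    Set.eq_univ_of_forall hall
  rw [huniv, Set.ncard_univ] at h2
  exact h2

end Cfsg.Agent.H46.HN
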