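import Cfsg.Agent.H46.HN.FactData
import Cfsg.Agent.H46.HN.PieceData

/-!
Kernel checks of the pieces.
-/

set_option autoImplicit false
set_option maxRecDepth 100000
set_option Elab.async false

namespace Cfsg.Agent.H46.HN

theorem pc0_ok : pc0.ok known = true := by decide +kernel

theorem pc1_ok : pc1.ok known = true := by decide +kernel

theorem pc2_ok : pc2.ok known = true := by decide +kernel

theorem pc3_ok : pc3.ok known = true := by decide +kernel

theorem pc4_ok : pc4.ok known = true := by decide +kernel

theorem pc5_ok : pc5.ok known = true := by decide +kernel

theorem pc6_ok : pc6.ok known = true := by decide +kernel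

theorem pc7_ok : pc7.ok known = true := by decide +kernel

theorem pc8_ok : pc8.ok known = true := by decide +kernel

theorem pc9_ok : pc9.ok known = true := by decide +kernel

theorem pc10_ok : pc10.ok known = true := by decide +kernel

theorem pc11_ok : pc11.ok known = true := by decide +kernel

theorem pc12_ok : pc12.ok known = true := by decide +kernel

theorem pc13_ok : pc13.ok known = true := by decide +kernel

theorem pc14_ok : pc14.ok known = true := by decide +kernel

theorem pc15_ok : pc15.ok known = true := by decide +kernel

theorem pc16_ok : pc16.ok known = true := by decide +kernel

theorem pc17_ok : pc17.ok known = true := by decide +kernel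

theorem pc18_ok : pc18.ok known = true := by decide +kernel

theorem pc19_ok : pc19.ok known = true := by decide +kernel

theorem pc20_ok : pc20.ok known = true := by decide +kernel

theorem pc21_ok : pc21.ok known = true := by decide +kernel

theorem pc22_ok : pc22.ok known = true := by decide +kernel

theorem pc23_ok : pc23.ok known = true := by decide +kernel

theorem pc24_ok : pc24.ok known = true := by decide +kernel

theorem pc25_ok : pc25.ok known = true := by decide +kernel

theorem pc26_ok : pc26.ok known = true := by decide +kernel

theorem pc27_ok : pc27.ok known = true := by decide +kernel

theorem pc28_ok : pc28.ok known = true := by decide +kernel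

theorem pc29_ok : pc29.ok known = true := by decide +kernel

theorem pc30_ok : pc30.ok known = true := by decide +kernel

theorem pc31_ok : pc31.ok known = true := by decide +kernel

theorem pc32_ok : pc32.ok known = true := by decide +kernel

theorem pows_ok : ((List.range 14).all fun j => (List.range 5).all fun m =>
    powOK known pieces j m ((pows.getD j []).getD m (0, [], []))) = true := by decide +kernel

theorem pieces_sum : (pieces.map Pc.bound).sum = 1539000 := by decide +kernel

end Cfsg.Agent.H46.HN
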