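import Cfsg.Agent.H46.HN.FactCheck
import Cfsg.Agent.H46.HN.CoverCheck0
import Cfsg.Agent.H46.HN.CoverCheck1
import Cfsg.Agent.H46.HN.CoverCheck2
import Cfsg.Agent.H46.HN.PieceCheck
import Cfsg.Agent.H46.HN.Bound352
import Cfsg.Agent.H67.HN.Inj
import Cfsg.Agent.H16.HN.Lower

/-!
The presented Harada–Norton group is finite of order `273030912000000`, and `⟨x, y, z⟩` has index
`1539000` in it.
-/

set_option autoImplicit false
set_option maxRecDepth 100000

namespace Cfsg.Agent.H46.HN

open Cfsg Cfsg.Agent.H67.HN Cfsg.Agent.H45

theorem transOK_append {P : List (List ℕ)} : ∀ (a b : List (List ℕ))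
    (c d : List (List (ℕ × List ℕ))), a.length = c.length → transOK P a c = true →
    transOK P b d = true → transOK P (a ++ b) (c ++ d) = true := by
  intro a
  induction a with
  | nil =>
    intro b c d hl _ h
    rw [List.length_nil, eq_comm, List.length_eq_zero_iff] at hl
    subst hl
    simpa using h
  | cons p ps ih =>
    intro b c d hl h h'
    match c with
    | [] => simp at hl
    | r :: rs =>
      simp only [transOK, Bool.and_eq_true] at h
      simp only [List.cons_append, transOK, Bool.and_eq_true]
      exact ⟨h.1, ih b rs d (by simpa using hl) h.2 h'⟩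

theorem ptr_split : ptr = (ptr.drop 0).take 50 ++ ((ptr.drop 50).take 50 ++ ((ptr.drop 100).take 50 ++
    ((ptr.drop 150).take 50 ++ (ptr.drop 200).take 50))) := by decide +kernel

theorem ptr_lens : (((ptr.drop 0).take 50).length = prow0.length ∧
    ((ptr.drop 50).take 50).length = prow1.length) ∧
    ((ptr.drop 100).take 50).length = prow2.length ∧
    ((ptr.drop 150).take 50).length = prow3.length ∧
    ptr.getD 0 [] = [] ∧ 0 < ptr.length ∧ reps.length = 14 := by decide +kernel

theorem trans_ok : transOK ptr ptr (prow0 ++ (prow1 ++ (prow2 ++ (prow3 ++ prow4)))) = true := by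
  nth_rewrite 2 [ptr_split]
  obtain ⟨⟨h0, h1⟩, h2, h3, -⟩ := ptr_lens
  exact transOK_append _ _ _ _ h0 trans0 (transOK_append _ _ _ _ h1 trans1
    (transOK_append _ _ _ _ h2 trans2 (transOK_append _ _ _ _ h3 trans3 trans4)))

/-- the covering data -/
def coverData : CoverData known where
  P := ptr
  rows := prow0 ++ (prow1 ++ (prow2 ++ (prow3 ++ prow4)))
  cvs := cvsAll
  p0 := ptr_lens.2.2.2.1
  plen := ptr_lens.2.2.2.2.1
  r0 := rfl
  rlen := by show 0 < reps.length; rw [ptr_lens.2.2.2.2.2]; norm_num
  trans := trans_ok
  cover := by
    intro j hj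
    have hj' : j < 14 := by rw [← ptr_lens.2.2.2.2.2]; exact hj
    interval_cases j
    exacts [cover0, cover1, cover2, cover3, cover4, cover5, cover6, cover7, cover8, cover9, cover10,
      cover11, cover12, cover13]

/-- every element lies in one of the fourteen double cosets -/
theorem inU (g : Spor.HN) : InU reps g := InU.all known_valid coverData g

theorem finite_HN : Finite Spor.HN := finite_of_union inU

/-- the index data -/
def indexData : IndexData known where
  pieces := pieces
  pows := pows
  ok := by
    simp only [pieces, List.all_cons, List.all_nil, Bool.and_true, Bool.and_eq_true]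
    repeat' constructor
    all_goals first
      | exact pc0_ok | exact pc1_ok | exact pc2_ok | exact pc3_ok | exact pc4_ok | exact pc5_ok
      | exact pc6_ok | exact pc7_ok | exact pc8_ok | exact pc9_ok | exact pc10_ok | exact pc11_ok
      | exact pc12_ok | exact pc13_ok | exact pc14_ok | exact pc15_ok | exact pc16_ok
      | exact pc17_ok | exact pc18_ok | exact pc19_ok | exact pc20_ok | exact pc21_ok
      | exact pc22_ok | exact pc23_ok | exact pc24_ok | exact pc25_ok | exact pc26_ok
      | exact pc27_ok | exact pc28_ok | exact pc29_ok | exact pc30_ok | exact pc31_ok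
      | exact pc32_ok
  cov := by
    intro j hj m hm
    have hj' : j < 14 := by rw [← ptr_lens.2.2.2.2.2]; exact hj
    exact range_all (range_all pows_ok hj') hm

theorem index_H0_le : H0.index ≤ 1539000 :=
  (index_le known_valid coverData indexData card_K0).trans pieces_sum.le

/-- the index and the order of the presented group -/
theorem index_and_card : H0.index = 1539000 ∧ Nat.card Spor.HN = 273030912000000 := by
  have := finite_HN
  have h1 : Nat.card H0 = 177408000 :=
    (Nat.card_congr (MonoidHom.ofInjective nu_injective).toEquiv).symm.trans card_F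
  have h2 := H0.card_mul_index
  rw [h1] at h2
  have h3 := Nat.le_of_dvd Nat.card_pos H16.HN.card_dvd
  have h4 := index_H0_le
  constructor <;> omega

theorem card_HN : Nat.card Spor.HN = 273030912000000 := index_and_card.2

theorem index_H0 : H0.index = 1539000 := index_and_card.1

end Cfsg.Agent.H46.HN
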