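import Cfsg.Agent.H67.HN.Main

/-!
Words in `x, x⁻¹, y, y⁻¹, z, t, t⁻¹` of the presented Harada–Norton group.  A word without `z` has a
normal form `t ^ i * k` with `k` a word in `x, y`, and two normal forms are compared on the four base
points of the model of `⟨x, y, z⟩`.
-/

set_option autoImplicit false

namespace Cfsg.Agent.H46.HN

open Cfsg Cfsg.Agent.H67.HN Cfsg.Agent.H45

/-- the letters -/
def e7 (l : ℕ) : Spor.HN :=
  [hn .x, (hn .x)⁻¹, hn .y, (hn .y)⁻¹, hn .z, hn .t, (hn .t)⁻¹].getD l 1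

/-- value of a word -/
def ev (w : List ℕ) : Spor.HN := evW e7 w

theorem ev_nil : ev [] = 1 := rfl

theorem ev_cons (l : ℕ) (w : List ℕ) : ev (l :: w) = e7 l * ev w := evW_cons l w

theorem ev_append (u v : List ℕ) : ev (u ++ v) = ev u * ev v := evW_append u v

theorem extra_one : ∀ r ∈ Spor.HN.extra, PresentedGroup.mk
    (Spor.coxRelators Spor.HN.edges ∪ {r | r ∈ Spor.HN.extra}) r = 1 :=
  fun _ hr => PresentedGroup.one_of_mem (Or.inr hr)

theorem t_rels : hn .t ^ 5 = 1 ∧ (hn .x)⁻¹ * hn .t * hn .x * hn .t ^ 2 = 1 ∧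
    (hn .t)⁻¹ * (hn .y)⁻¹ * hn .t * hn .y = 1 ∧ (hn .z * hn .t) ^ 3 = 1 := by
  have h := extra_one
  simp only [Spor.HN.extra, List.mem_cons, List.not_mem_nil, or_false, forall_eq_or_imp,
    forall_eq, map_mul, map_pow, map_inv] at h
  obtain ⟨-, -, -, -, -, -, -, -, -, -, h11, h12, h13, h14⟩ := h
  exact ⟨h11, h12, h13, h14⟩

theorem zsq : hn .z * hn .z = 1 := by rw [← pow_two]; exact rels_HN.z2

theorem zinv : (hn .z)⁻¹ = hn .z := inv_eq_of_mul_eq_one_right zsq

/-- the inverse letter -/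
def iv7 (l : ℕ) : ℕ := [1, 0, 3, 2, 4, 6, 5].getD l l

/-- the inverse word -/
def inv7 (w : List ℕ) : List ℕ := (w.map iv7).reverse

theorem e7_iv7 (l : ℕ) : e7 (iv7 l) = (e7 l)⁻¹ := by
  rcases Nat.lt_or_ge l 7 with hl | hl
  · interval_cases l <;> simp [e7, iv7, zinv]
  · have h1 : iv7 l = l := List.getD_eq_default _ _ hl
    have h2 : e7 l = 1 := List.getD_eq_default _ _ hl
    rw [h1, h2, inv_one]

theorem ev_inv7 (w : List ℕ) : ev (inv7 w) = (ev w)⁻¹ := by
  induction w with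
  | nil => simp [inv7, ev_nil]
  | cons l w ih =>
    have h : inv7 (l :: w) = inv7 w ++ [iv7 l] := by simp [inv7]
    rw [h, ev_append, ih, ev_cons, ev_cons, ev_nil, mul_one, e7_iv7, mul_inv_rev]

/-! ### normal forms of words without `z` -/

/-- the effect of a letter on the exponent of `t` -/
def mul2 (l i : ℕ) : ℕ :=
  bif Nat.beq l 0 then 2 * i else bif Nat.beq l 1 then 3 * i else i

/-- exponent of `t` and word in `x, y` -/
def nf : List ℕ → ℕ × List ℕ
  | [] => (0, [])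
  | l :: w =>
    bif Nat.beq l 5 then (((nf w).1 + 1) % 5, (nf w).2)
    else bif Nat.beq l 6 then (((nf w).1 + 4) % 5, (nf w).2)
    else (mul2 l (nf w).1 % 5, l :: (nf w).2)

/-- only the letters `x, x⁻¹, y, y⁻¹, t, t⁻¹` -/
def okN (w : List ℕ) : Bool := w.all fun l => Nat.blt l 4 || Nat.beq l 5 || Nat.beq l 6

theorem okN_cons {l : ℕ} {w : List ℕ} :
    okN (l :: w) = true ↔ (l < 4 ∨ l = 5 ∨ l = 6) ∧ okN w = true := by
  simp [okN, Nat.blt_eq, Nat.beq_eq, or_assoc]

theorem okN_append {u v : List ℕ} : okN (u ++ v) = true ↔ okN u = true ∧ okN v = true := by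
  simp [okN]

theorem pow_mod5 (i : ℕ) : hn .t ^ (i % 5) = hn .t ^ i := (pow_eq_pow_mod i t_rels.1).symm

theorem x_t : hn .x * hn .t * (hn .x)⁻¹ = hn .t ^ 2 := by
  have h := t_rels.2.1
  have h3 : (hn .x)⁻¹ * hn .t * hn .x = hn .t ^ 3 := by
    calc (hn .x)⁻¹ * hn .t * hn .x
        = ((hn .x)⁻¹ * hn .t * hn .x * hn .t ^ 2) * (hn .t ^ 2)⁻¹ := by group
      _ = (hn .t ^ 2)⁻¹ := by rw [h, one_mul]
      _ = hn .t ^ 3 := inv_eq_of_mul_eq_one_right (by rw [← pow_add]; exact t_rels.1)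
  have h6 : hn .x * hn .t ^ 3 * (hn .x)⁻¹ = hn .t := by
    rw [← h3]; group
  have h7 : hn .x * hn .t * (hn .x)⁻¹ = (hn .x * hn .t ^ 3 * (hn .x)⁻¹) ^ 2 := by
    rw [conj_pow, ← pow_mul, show 3 * 2 = 5 + 1 from rfl, pow_add, t_rels.1, one_mul, pow_one]
  rw [h7, h6]

theorem y_t : hn .y * hn .t = hn .t * hn .y := by
  have h := t_rels.2.2.1
  calc hn .y * hn .t = hn .y * hn .t * ((hn .t)⁻¹ * (hn .y)⁻¹ * hn .t * hn .y) := by rw [h, mul_one]
    _ = hn .t * hn .y := by group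

theorem letter_t {l : ℕ} (hl : l < 4) (i : ℕ) :
    e7 l * hn .t ^ i = hn .t ^ (mul2 l i) * e7 l := by
  interval_cases l
  · show hn .x * hn .t ^ i = hn .t ^ (2 * i) * hn .x
    rw [pow_mul, ← x_t, conj_pow]; group
  · show (hn .x)⁻¹ * hn .t ^ i = hn .t ^ (3 * i) * (hn .x)⁻¹
    have h : hn .x * hn .t ^ (3 * i) * (hn .x)⁻¹ = hn .t ^ i := by
      rw [← conj_pow, x_t, ← pow_mul, ← pow_mod5, show 2 * (3 * i) % 5 = i % 5 by omega, pow_mod5]
    rw [← h]; group
  · exact (show Commute (hn .y) (hn .t) from y_t).pow_right i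
  · exact (show Commute (hn .y) (hn .t) from y_t).inv_left.pow_right i

theorem nf_sound : ∀ w : List ℕ, okN w = true →
    ev w = hn .t ^ (nf w).1 * ev (nf w).2 ∧ ∀ l ∈ (nf w).2, l < 4 := by
  intro w
  induction w with
  | nil => intro _; simp [nf, ev_nil]
  | cons l w ih =>
    intro h
    obtain ⟨hl, hw⟩ := okN_cons.mp h
    obtain ⟨e, hlt⟩ := ih hw
    rw [ev_cons, e]
    rcases hl with hl | rfl | rfl
    · have h5 : Nat.beq l 5 = false := Bool.eq_false_iff.mpr fun h => by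
        rw [Nat.beq_eq] at h; omega
      have h6 : Nat.beq l 6 = false := Bool.eq_false_iff.mpr fun h => by
        rw [Nat.beq_eq] at h; omega
      simp only [nf, h5, h6, cond_false]
      refine ⟨?_, ?_⟩
      · rw [pow_mod5, ev_cons, ← mul_assoc, letter_t hl, mul_assoc]
      · intro a ha
        rcases List.mem_cons.mp ha with rfl | ha
        exacts [hl, hlt a ha]
    · simp only [nf, show Nat.beq 5 5 = true from rfl, cond_true]
      refine ⟨?_, hlt⟩
      rw [pow_mod5, pow_succ', mul_assoc]; rfl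
    · simp only [nf, show Nat.beq 6 5 = false from rfl, show Nat.beq 6 6 = true from rfl,
        cond_false, cond_true]
      refine ⟨?_, hlt⟩
      rw [pow_mod5, add_comm, pow_add, mul_assoc,
        show hn .t ^ 4 = (hn .t)⁻¹ from (inv_eq_of_mul_eq_one_right
          (by rw [← pow_succ']; exact t_rels.1)).symm]
      rfl

/-! ### comparison in the model -/

/-- the letters of `⟨x, y, z⟩` -/
def fF (l : ℕ) : F := [gx, gx⁻¹, gy, gy⁻¹, gz].getD l 1

theorem nu_fF {l : ℕ} (hl : l < 5) : nu (fF l) = e7 l := by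
  interval_cases l <;> simp [fF, e7, nu]

theorem nu_word : ∀ w : List ℕ, (∀ l ∈ w, l < 5) → nu (evW fF w) = ev w := by
  intro w
  induction w with
  | nil => intro _; simp [evW_nil, ev_nil]
  | cons l w ih =>
    intro h
    rw [evW_cons, map_mul, nu_fF (h l (by simp)), ih (fun a ha => h a (by simp [ha])), ev_cons]

theorem pi_fF {l : ℕ} (hl : l < 5) : pi (fF l) = sig P1408.tab l := by
  interval_cases l
  · simp [fF, pi, X]
  · show pi gx⁻¹ = sig P1408.tab (H45.linv P1408.iv 0)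
    rw [sig_inv P1408.tab (show 0 < 5 by norm_num)]
    simp [pi, X]
  · simp [fF, pi, Y]
  · show pi gy⁻¹ = sig P1408.tab (H45.linv P1408.iv 2)
    rw [sig_inv P1408.tab (show 2 < 5 by norm_num)]
    simp [pi, Y]
  · simp [fF, pi, Z]

theorem pi_word : ∀ w : List ℕ, (∀ l ∈ w, l < 5) → pi (evW fF w) = evalW (sig P1408.tab) w := by
  intro w
  induction w with
  | nil => intro _; simp [evW_nil, evalW]
  | cons l w ih =>
    intro h
    rw [evW_cons, map_mul, pi_fF (h l (by simp)), ih (fun a ha => h a (by simp [ha])), evalW_cons]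

/-- the columns of a word -/
def kcols (w : List ℕ) : List ℕ := w.map fun l => P1408.cols.getD l 0

/-- two words of `⟨x, y⟩` move the base points alike -/
noncomputable def sameK (u v : List ℕ) : Bool :=
  [5, 296, 102, 199].all fun b => Nat.beq (walkC (kcols u) b) (walkC (kcols v) b)

theorem sameK_sound {u v : List ℕ} (hu : ∀ l ∈ u, l < 5) (hv : ∀ l ∈ v, l < 5)
    (h : sameK u v = true) : evW fF u = evW fF v := by
  apply pi_injective
  rw [pi_word u hu, pi_word v hv]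
  have hb : ∀ b, ∀ hb : b < 1408, b ∈ [5, 296, 102, 199] →
      (evalW (sig P1408.tab) u)⁻¹ ⟨b, hb⟩ = (evalW (sig P1408.tab) v)⁻¹ ⟨b, hb⟩ := by
    intro b hb hm
    have h2 := (List.all_eq_true.mp h) b hm
    rw [Nat.beq_eq, kcols, kcols, walkC_map, walkC_map] at h2
    exact Fin.ext (by rw [sig_walk _ u hu, sig_walk _ v hv, h2])
  have hm : ∀ w : List ℕ, (∀ l ∈ w, l < 5) → evalW (sig P1408.tab) w ∈ M := fun w hw => by
    rw [← pi_word w hw, ← pi_range]; exact ⟨_, rfl⟩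
  refine mul_inv_eq_one.mp (eq_one_of_fix_base (M.mul_mem (hm u hu) (M.inv_mem (hm v hv)))
    ?_ ?_ ?_ ?_) <;>
  · rw [Equiv.Perm.mul_apply, ← hb _ _ (by simp)]; simp

/-- two words without `z` have the same normal form -/
noncomputable def same (u v : List ℕ) : Bool :=
  okN u && okN v && Nat.beq (nf u).1 (nf v).1 && sameK (nf u).2 (nf v).2

theorem same_okN {u v : List ℕ} (h : same u v = true) : okN u = true ∧ okN v = true := by
  simp only [same, Bool.and_eq_true] at h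
  exact h.1.1

theorem same_sound {u v : List ℕ} (h : same u v = true) : ev u = ev v := by
  simp only [same, Bool.and_eq_true, Nat.beq_eq] at h
  obtain ⟨⟨⟨hu, hv⟩, hi⟩, hk⟩ := h
  obtain ⟨eu, lu⟩ := nf_sound u hu
  obtain ⟨ev', lv⟩ := nf_sound v hv
  rw [eu, ev', hi, ← nu_word _ (fun l hl => by have := lu l hl; omega),
    ← nu_word _ (fun l hl => by have := lv l hl; omega),
    sameK_sound (fun l hl => by have := lu l hl; omega) (fun l hl => by have := lv l hl; omega) hk]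

/-! ### passing `z` through `⟨x, W⟩` -/

/-- the word `yxyxy²xy⁻¹` -/
def wW : List ℕ := [2, 0, 2, 0, 2, 2, 0, 3]

/-- a generator of `⟨x, W⟩` -/
def dL (a : ℕ) : List ℕ := [[0], [1], wW, inv7 wW].getD a []

/-- its conjugate by `z` -/
def zL (a : ℕ) : List ℕ := [[1], [0], wW ++ [0, 0], [1, 1] ++ inv7 wW].getD a []

/-- expansion of a word in the generators of `⟨x, W⟩` -/
def expD (d : List ℕ) : List ℕ := d.flatMap dL

/-- expansion of its conjugate -/
def expZ (d : List ℕ) : List ℕ := d.flatMap zL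

theorem xz : hn .x * hn .z = hn .z * (hn .x)⁻¹ := by
  have h := rels_HN.zxz
  calc hn .x * hn .z = hn .z * hn .z * (hn .x * hn .z) := by rw [zsq, one_mul]
    _ = hn .z * (hn .z * hn .x * hn .z) := by group
    _ = hn .z * (hn .x)⁻¹ := by rw [h]

theorem Xz : (hn .x)⁻¹ * hn .z = hn .z * hn .x :=
  calc (hn .x)⁻¹ * hn .z = (hn .x)⁻¹ * (hn .z * (hn .x)⁻¹) * hn .x := by group
    _ = (hn .x)⁻¹ * (hn .x * hn .z) * hn .x := by rw [xz]
    _ = hn .z * hn .x := by group

theorem Wz : ev wW * hn .z = hn .z * ev (wW ++ [0, 0]) := by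
  have h := rels_HN.i
  have hx : ev [0, 0] = (hn .x ^ 2)⁻¹ := by
    rw [rels_HN.x2inv]; simp [ev, evW, e7, pow_two]
  have hW : ev wW = hn .y * hn .x * hn .y * hn .x * hn .y ^ 2 * hn .x * (hn .y)⁻¹ := by
    simp [ev, evW, e7, wW, pow_two, mul_assoc]
  rw [ev_append, hW, hx]
  generalize hn .y * hn .x * hn .y * hn .x * hn .y ^ 2 * hn .x * (hn .y)⁻¹ = c at h ⊢
  rw [zinv] at h
  have h1 : hn .z * c⁻¹ * hn .z * c = hn .x ^ 2 := mul_inv_eq_one.mp h
  have h2 : (hn .x ^ 2)⁻¹ = c⁻¹ * (hn .z)⁻¹ * c * (hn .z)⁻¹ := by rw [← h1]; group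
  rw [h2, zinv]
  simp only [← mul_assoc]
  rw [mul_assoc (hn .z) c c⁻¹, mul_inv_cancel, mul_one, zsq, one_mul]

theorem dL_z : ∀ a, ev (dL a) * hn .z = hn .z * ev (zL a) := by
  intro a
  rcases Nat.lt_or_ge a 4 with ha | ha
  · interval_cases a
    · simpa [dL, zL, ev, evW, e7] using xz
    · simpa [dL, zL, ev, evW, e7] using Xz
    · exact Wz
    · show ev (inv7 wW) * hn .z = hn .z * ev ([1, 1] ++ inv7 wW)
      have h : ev ([1, 1] ++ inv7 wW) = (ev (wW ++ [0, 0]))⁻¹ := by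
        rw [← ev_inv7]; rfl
      rw [h, ev_inv7]
      calc (ev wW)⁻¹ * hn .z
          = (ev wW)⁻¹ * (hn .z * ev (wW ++ [0, 0])) * (ev (wW ++ [0, 0]))⁻¹ := by group
        _ = (ev wW)⁻¹ * (ev wW * hn .z) * (ev (wW ++ [0, 0]))⁻¹ := by rw [Wz]
        _ = hn .z * (ev (wW ++ [0, 0]))⁻¹ := by group
  · have h1 : dL a = [] := List.getD_eq_default _ _ ha
    have h2 : zL a = [] := List.getD_eq_default _ _ ha
    simp [h1, h2, ev_nil]

theorem expD_z : ∀ d : List ℕ, ev (expD d) * hn .z = hn .z * ev (expZ d) := by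
  intro d
  induction d with
  | nil => simp [expD, expZ, ev_nil]
  | cons a d ih =>
    simp only [expD, expZ, List.flatMap_cons, ev_append] at ih ⊢
    rw [mul_assoc, ih, ← mul_assoc, dL_z, mul_assoc]

theorem expD_append (u v : List ℕ) : expD (u ++ v) = expD u ++ expD v := List.flatMap_append

theorem ev_z (n d : List ℕ) : ev (n ++ expD d) * hn .z = ev n * hn .z * ev (expZ d) := by
  rw [ev_append, mul_assoc, expD_z, mul_assoc]

end Cfsg.Agent.H46.HN
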